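import Cfsg.Agent.Mrg.Omega.TC.Crit_m3
import Cfsg.Agent.Mrg.Omega.IId.SwNat.Trace
import Cfsg.Agent.Mrg.Omega.HTwo.TComp_m3
import Mathlib
import Cfsg.Agent.Mrg.Omega.BTwo.Split_m3
import Cfsg.Agent.Mrg.Omega.OM.PG.NoRad_m3
import Cfsg.Agent.MinSimple.Choice97
import Cfsg.Agent.Omega.NOThreeL.ATwo.Fam_m3
import Cfsg.Agent.Involutions.BaerSuzuki
import Cfsg.Agent.Mrg.Omega.NOThreeL.RTwo_m3
import Cfsg.Agent.PLocal.ElemAbSup
import Cfsg.Agent.FastGrp
import Cfsg.Agent.Prune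
set_option linter.all false

section
prune_inst 0x7ffcfefbaff8bddfffff7e7ffffddffdfdf8ffffffdff9cbffedebff7fff6b67efe5fba70fefd2feced6e2b410f87bd3fdffcfffeb6bdc7ffffd5ff47fffff9fffffbd8d51d7b83e1ffc6ffffbf17fae7f3fffffffffffffffffffffffffffffffffffffffff

-- part: Mrg/Omega/IId/SymWr/Base
section
prune_inst 0x100000402200000000000000000000500000020040000020000800000800008000880100800312100088000002002002000000003000000000080000040000002222c20040000020000000e805180c00000000000000000000000000000000000000000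
set_option linter.all false
open scoped Cfsg.Agent.FastGrp

section


/-!
# II.d, `SwBig`: the interface for THEOREM L (bb OMEGA #17498, helper142)

`M : SymK S P V ⊥ k m`: `V` is the sum of `k` even-subset modules of degree `2 ^ m + 1`.

* `pp M g` : the permutation of the points induced by `g ∈ P` (`pp_mul`, `pp_inv`, `pp_fst`, `pp_snd`, `exists_pp`);
* `Sit S P V M` : the situation (`V ≤ Ω₁Z(O₂(P))`, `O₂(P) = C_S(V)`, `C_G(O₂(P)) ≤ O₂(P)`);
* `Sit.induced` : a 2-group of permutations of the points inside the summands which is normalised by `S` is induced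
  by `S`.
-/

set_option autoImplicit false

namespace Cfsg.Agent.Omega.IId.SymWr

open Subgroup Pointwise Cfsg Cfsg.Agent.ZN Cfsg.Agent.Omega.MinPar Cfsg.Agent.Omega.FFThm
open Cfsg.Agent.Omega.Half (Amb amb_of_loc)
open Cfsg.Agent.Omega.Half.SymA (Pt E Mv pm)
open Cfsg.Agent.MinSimple.VModule (mem_zc zc_le zc_comm zc_sq zc_le_zl le_normalizer_o2 o2_isPGroup o2_le
  normalizer_le_normalizer_zc le_normalizer_zl)

universe u

variable {G : Type u} [Group G] {T P V : Subgroup G} {k m : ℕ}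

section pp

variable (M : SymK T P V ⊥ k m)

open scoped Classical in
/-- the permutation of the points induced by `g` -/
noncomputable def pp (g : G) : Equiv.Perm (Pt k m) := if h : ∃ π, Mv M g π then h.choose else 1

variable {M}

seal _root_.Cfsg.Agent.Omega.IId.SymWr.pp in
theorem mv_pp {g : G} (hg : g ∈ P) : Mv M g (pp M g) := by
  obtain ⟨π, hπ, -⟩ := Half.SymA.exists_mv (M := M) hg
  have h : ∃ π, Mv M g π := ⟨π, hπ⟩
  rw [pp, dif_pos h]
  exact h.choose_spec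

seal _root_.Cfsg.Agent.Omega.IId.SymWr.pp in
/-- the characteristic function of a conjugate -/
theorem E_conj {g : G} (hg : g ∈ P) {v : G} (hv : v ∈ V) (p : Pt k m) :
    E M (g * v * g⁻¹) (pp M g p) = E M v p := mv_pp hg v hv p

section amb

variable (hA : Amb T P V) (hm : 1 ≤ m)

include hA hm

seal _root_.Cfsg.Agent.Omega.IId.SymWr.pp in
theorem pp_eq {g : G} (hg : g ∈ P) {π : Equiv.Perm (Pt k m)} (hπ : Mv M g π) : pp M g = π :=
  (mv_pp hg).unique hA hm hπ hg

seal _root_.Cfsg.Agent.Omega.IId.SymWr.pp in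
theorem pp_one : pp M 1 = 1 := pp_eq hA hm (one_mem P) (Half.SymA.Mv_one M)

seal _root_.Cfsg.Agent.Omega.IId.SymWr.pp in
theorem pp_mul {g h : G} (hg : g ∈ P) (hh : h ∈ P) : pp M (g * h) = pp M g * pp M h :=
  pp_eq hA hm (mul_mem hg hh) ((mv_pp hg).mul hA (mv_pp hh) hh)

seal _root_.Cfsg.Agent.Omega.IId.SymWr.pp in
theorem pp_inv {g : G} (hg : g ∈ P) : pp M g⁻¹ = (pp M g)⁻¹ :=
  pp_eq hA hm (inv_mem hg) ((mv_pp hg).inv hA hg)

seal _root_.Cfsg.Agent.Omega.IId.SymWr.pp in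
theorem pp_conj {g h : G} (hg : g ∈ P) (hh : h ∈ P) : pp M (g * h * g⁻¹) = pp M g * pp M h * (pp M g)⁻¹ := by
  rw [pp_mul hA hm (mul_mem hg hh) (inv_mem hg), pp_mul hA hm hg hh, pp_inv hA hm hg]

seal _root_.Cfsg.Agent.Omega.IId.SymWr.pp in
theorem pp_fst {g : G} (hg : g ∈ P) {p q : Pt k m} (hpq : p.1 = q.1) : (pp M g p).1 = (pp M g q).1 :=
  (mv_pp hg).fst hA hm hg hpq

seal _root_.Cfsg.Agent.Omega.IId.SymWr.pp in
theorem pp_fst_iff {g : G} (hg : g ∈ P) {p q : Pt k m} : (pp M g p).1 = (pp M g q).1 ↔ p.1 = q.1 := by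
  refine ⟨fun h => ?_, pp_fst hA hm hg⟩
  have h1 := pp_fst hA hm (M := M) (inv_mem hg) h
  rw [pp_inv hA hm hg] at h1
  have h2 : ∀ r, (pp M g)⁻¹ (pp M g r) = r := fun r => (pp M g).symm_apply_apply r
  rwa [h2, h2] at h1

seal _root_.Cfsg.Agent.Omega.IId.SymWr.pp in
theorem pp_snd {t : G} (ht : t ∈ T) {p : Pt k m} : (pp M t p).2 = 0 ↔ p.2 = 0 :=
  (mv_pp (hA.TH ht)).snd hA hm ht

seal _root_.Cfsg.Agent.Omega.IId.SymWr.pp in
omit hA hm in
theorem E_conj' {g : G} (hg : g ∈ P) {v : G} (hv : v ∈ V) (p : Pt k m) :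
    E M (g * v * g⁻¹) p = E M v ((pp M g)⁻¹ p) := by
  have h := E_conj (M := M) hg hv ((pp M g)⁻¹ p)
  rwa [show pp M g ((pp M g)⁻¹ p) = p from (pp M g).apply_symm_apply p] at h

seal _root_.Cfsg.Agent.Omega.IId.SymWr.pp in
/-- the kernel of the action -/
theorem pp_eq_one_iff {g : G} (hg : g ∈ P) : pp M g = 1 ↔ g ∈ centralizer (V : Set G) := by
  constructor
  · intro h
    rw [mem_centralizer_iff]
    intro v hv
    have h1 : g * v * g⁻¹ = v := by
      refine Half.SymA.inj M (hA.conj_mem hg hv) hv fun p => ?_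
      have := E_conj (M := M) hg hv p
      rwa [h] at this
    rw [mul_inv_eq_iff_eq_mul] at h1
    exact h1.symm
  · intro h
    refine pp_eq hA hm hg fun v hv p => ?_
    rw [mem_centralizer_iff] at h
    have h1 : g * v * g⁻¹ = v := by rw [← h v hv, mul_inv_cancel_right]
    rw [h1]
    rfl

seal _root_.Cfsg.Agent.Omega.IId.SymWr.pp in
theorem pp_eq_iff {g h : G} (hg : g ∈ P) (hh : h ∈ P) : pp M g = pp M h ↔ g⁻¹ * h ∈ centralizer (V : Set G) := by
  rw [← pp_eq_one_iff hA hm (M := M) (mul_mem (inv_mem hg) hh), pp_mul hA hm (inv_mem hg) hh, pp_inv hA hm hg,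
    inv_mul_eq_one]

end amb

/-- every permutation inside the summands is induced by an element of `P` -/
theorem exists_mv_of_fst (M : SymK T P V ⊥ k m) {π : Equiv.Perm (Pt k m)} (h : ∀ p, (π p).1 = p.1) :
    ∃ g ∈ P, Mv M g π := by
  have hsymm : ∀ p, (π.symm p).1 = p.1 := fun p => by
    have := h (π.symm p)
    rw [π.apply_symm_apply] at this
    exact this.symm
  let τ : Fin k → Equiv.Perm (Fin (2 ^ m + 1)) := fun i =>
    { toFun := fun x => (π (i, x)).2
      invFun := fun x => (π.symm (i, x)).2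
      left_inv := fun x => by
        have h1 : ((i, (π (i, x)).2) : Pt k m) = π (i, x) := Prod.ext (h (i, x)).symm rfl
        simp only [h1, π.symm_apply_apply]
      right_inv := fun x => by
        have h1 : ((i, (π.symm (i, x)).2) : Pt k m) = π.symm (i, x) := Prod.ext (hsymm (i, x)).symm rfl
        simp only [h1, π.apply_symm_apply] }
  obtain ⟨g, hg, h1, -⟩ := M.lift τ
  refine ⟨g, hg, ?_⟩
  have h2 := Half.SymA.mv_pm M h1
  have h3 : pm 1 τ = π := by
    ext1 p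
    exact Prod.ext (h p).symm rfl
  rwa [h3] at h2

seal _root_.Cfsg.Agent.Omega.IId.SymWr.pp in
theorem exists_pp (hA : Amb T P V) (hm : 1 ≤ m) (M : SymK T P V ⊥ k m) {π : Equiv.Perm (Pt k m)}
    (h : ∀ p, (π p).1 = p.1) : ∃ g ∈ P, pp M g = π := by
  obtain ⟨g, hg, h1⟩ := exists_mv_of_fst M h
  exact ⟨g, hg, pp_eq hA hm hg h1⟩

/-- the action as a homomorphism -/
noncomputable def hom (hA : Amb T P V) (hm : 1 ≤ m) (M : SymK T P V ⊥ k m) : P →* Equiv.Perm (Pt k m) where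
  toFun g := pp M g
  map_one' := pp_one hA hm
  map_mul' a b := pp_mul hA hm a.2 b.2

end pp

/-- **The situation.** -/
structure Sit (S : Sylow 2 G) (P V : Subgroup G) {k m : ℕ} (M : SymK (S : Subgroup G) P V ⊥ k m) : Prop where
  amb : Amb (S : Subgroup G) P V
  hm : 2 ≤ m
  hk : 0 < k
  VZ : V ≤ zc (o2 P)
  Q_eq : o2 P = (S : Subgroup G) ⊓ centralizer (V : Set G)
  cQ : centralizer (o2 P : Set G) ≤ o2 P
  cZ : P ⊓ centralizer (V : Set G) ≤ centralizer (zc (o2 P) : Set G)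

/-- the situation for `V = V_P`, `P ∈ P*(S)` -/
theorem Sit.of [Finite G] (hG : IsCharacteristicTwoType G) {S : Sylow 2 G} {P : Subgroup G} {k m : ℕ}
    (hP : IsParS (S : Subgroup G) P) (M : SymK (S : Subgroup G) P (zl (S : Subgroup G) P) ⊥ k m) (hk : 0 < k)
    (hm : 2 ≤ m) : Sit S P (zl (S : Subgroup G) P) M where
  amb := amb_of_loc hG S hP.isLoc
  hm := hm
  hk := hk
  VZ := hP.isLoc.zl_le S hG
  Q_eq := (IsParS.inf_centralizer S hG hP).symm
  cQ := LFour.centralizer_o2_le hG S hP.isLoc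
  cZ := LFour.le_centralizer_zc_o2 hG S hP

namespace Sit

variable {S : Sylow 2 G} {M : SymK (S : Subgroup G) P V ⊥ k m} (h : Sit S P V M)

include h

theorem hm1 : 1 ≤ m := (by norm_num : 1 ≤ 2).trans h.hm

theorem SP : (S : Subgroup G) ≤ P := h.amb.TH

theorem VS : V ≤ (S : Subgroup G) := h.amb.VT

theorem QS : o2 P ≤ (S : Subgroup G) := h.Q_eq.le.trans inf_le_left

seal _root_.Cfsg.Agent.Omega.IId.SymWr.pp in
theorem mul {g h' : G} (hg : g ∈ P) (hh : h' ∈ P) : pp M (g * h') = pp M g * pp M h' := pp_mul h.amb h.hm1 hg hh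

seal _root_.Cfsg.Agent.Omega.IId.SymWr.pp in
theorem inv {g : G} (hg : g ∈ P) : pp M g⁻¹ = (pp M g)⁻¹ := pp_inv h.amb h.hm1 hg

seal _root_.Cfsg.Agent.Omega.IId.SymWr.pp in
theorem one : pp M 1 = 1 := pp_one h.amb h.hm1

seal _root_.Cfsg.Agent.Omega.IId.SymWr.pp in
theorem conj {g h' : G} (hg : g ∈ P) (hh : h' ∈ P) : pp M (g * h' * g⁻¹) = pp M g * pp M h' * (pp M g)⁻¹ :=
  pp_conj h.amb h.hm1 hg hh

seal _root_.Cfsg.Agent.Omega.IId.SymWr.pp in
theorem fst {g : G} (hg : g ∈ P) {p q : Pt k m} (hpq : p.1 = q.1) : (pp M g p).1 = (pp M g q).1 :=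
  pp_fst h.amb h.hm1 hg hpq

seal _root_.Cfsg.Agent.Omega.IId.SymWr.pp in
theorem snd {t : G} (ht : t ∈ (S : Subgroup G)) {p : Pt k m} : (pp M t p).2 = 0 ↔ p.2 = 0 :=
  pp_snd h.amb h.hm1 ht

seal _root_.Cfsg.Agent.Omega.IId.SymWr.pp in
theorem eq_one_iff {g : G} (hg : g ∈ P) : pp M g = 1 ↔ g ∈ centralizer (V : Set G) := pp_eq_one_iff h.amb h.hm1 hg

seal _root_.Cfsg.Agent.Omega.IId.SymWr.pp in
theorem mem_Q_iff {s : G} (hs : s ∈ (S : Subgroup G)) : s ∈ o2 P ↔ pp M s = 1 := by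
  rw [h.Q_eq, mem_inf, h.eq_one_iff (h.SP hs)]
  exact ⟨fun h1 => h1.2, fun h1 => ⟨hs, h1⟩⟩

seal _root_.Cfsg.Agent.Omega.IId.SymWr.pp in
theorem exists_pp {π : Equiv.Perm (Pt k m)} (hπ : ∀ p, (π p).1 = p.1) : ∃ g ∈ P, pp M g = π :=
  SymWr.exists_pp h.amb h.hm1 M hπ

variable [Finite G]

seal _root_.Cfsg.Agent.Omega.IId.SymWr.pp in
theorem trans {p q : Pt k m} (hp : p.2 ≠ 0) (hq : q.2 ≠ 0) : ∃ s ∈ (S : Subgroup G), pp M s p = q := by
  obtain ⟨t, ht, π, hπ, h1⟩ := Half.SymA.trans_pts S h.amb h.hm1 (M := M) hp hq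
  exact ⟨t, ht, by rw [pp_eq h.amb h.hm1 (h.SP ht) hπ, h1]⟩

seal _root_.Cfsg.Agent.Omega.IId.SymWr.pp in
/-- the image of `S` in the permutations of the points -/
theorem induced {D : Subgroup (Equiv.Perm (Pt k m))} (hD : IsPGroup 2 D)
    (hfst : ∀ δ ∈ D, ∀ p, (δ p).1 = p.1)
    (hn : ∀ s ∈ (S : Subgroup G), ∀ δ ∈ D, pp M s * δ * (pp M s)⁻¹ ∈ D) {δ : Equiv.Perm (Pt k m)} (hδ : δ ∈ D) :
    ∃ s ∈ (S : Subgroup G), pp M s = δ := by
  have : Fact (Nat.Prime 2) := ⟨Nat.prime_two⟩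
  set φ := (hom h.amb h.hm1 M).rangeRestrict with hφ
  have hsurj : Function.Surjective φ := MonoidHom.rangeRestrict_surjective _
  set S1 : Sylow 2 P := S.subtype h.SP with hS1
  set S2 : Sylow 2 (hom h.amb h.hm1 M).range := S1.mapSurjective hsurj with hS2
  -- `D ≤ range`
  have hle : D ≤ (hom h.amb h.hm1 M).range := by
    intro d hd
    obtain ⟨g, hg, h1⟩ := h.exists_pp (hfst d hd)
    exact ⟨⟨g, hg⟩, h1⟩
  set D' : Subgroup (hom h.amb h.hm1 M).range := D.subgroupOf _ with hD'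
  have hD2 : IsPGroup 2 D' := hD.comap_of_injective _ Subtype.coe_injective
  have hmem : ∀ x : (hom h.amb h.hm1 M).range, x ∈ (S2 : Subgroup _) → ∃ s ∈ (S : Subgroup G), pp M s = x := by
    intro x hx
    have h1 : x ∈ (S1 : Subgroup P).map φ := hx
    obtain ⟨s, hs, rfl⟩ := h1
    have h2 : s ∈ (S : Subgroup G).subgroupOf P := hs
    exact ⟨s, mem_subgroupOf.1 h2, rfl⟩
  have hnorm : (S2 : Subgroup _) ≤ normalizer (D' : Set (hom h.amb h.hm1 M).range) := by
    intro x hx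
    obtain ⟨s, hs, h1⟩ := hmem x hx
    refine MinSimple.VModule.mem_normalizer_of_map_le ?_
    rintro _ ⟨d, hd, rfl⟩
    have h2 : (d : Equiv.Perm (Pt k m)) ∈ D := mem_subgroupOf.1 hd
    change ((MulAut.conj x) d) ∈ D'
    rw [hD', mem_subgroupOf]
    have h3 : (((MulAut.conj x) d : (hom h.amb h.hm1 M).range) : Equiv.Perm (Pt k m)) =
        pp M s * (d : Equiv.Perm (Pt k m)) * (pp M s)⁻¹ := by
      rw [MulAut.conj_apply, Subgroup.coe_mul, Subgroup.coe_mul, Subgroup.coe_inv, ← h1]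
    rw [h3]
    exact hn s hs _ h2
  have hsup : IsPGroup 2 ((S2 : Subgroup _) ⊔ D' : Subgroup (hom h.amb h.hm1 M).range) :=
    S2.isPGroup'.to_sup_of_normal_right' hD2 hnorm
  have heq := S2.is_maximal' hsup le_sup_left
  have h1 : (⟨δ, hle hδ⟩ : (hom h.amb h.hm1 M).range) ∈ (S2 : Subgroup _) := by
    rw [← heq]
    exact mem_sup_right (mem_subgroupOf.2 hδ)
  exact hmem _ h1

end Sit

end Cfsg.Agent.Omega.IId.SymWr

end

section


/-!
# The transfer of fixed vectors (for bb OMEGA #17498, (E))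

`Γ` is a group which acts on the abelian group `Y`.  For subgroups `H`, `K` of `Γ` and `y : Y` which is fixed by the
elements of `H ⊓ K`, `tr H K y` is the sum of the vectors `k • y`, `k` in a system of representatives of the cosets of
`H ⊓ K` in `K`.

* `tr_add`, `tr_zero`;
* `tr_eq_sum` : any system of representatives;
* `smul_tr_mem` : `K` fixes `tr H K y`;
* `tr_of_fix` : `tr H K y = (H.relIndex K) • y` if `K` fixes `y`; `tr_odd` : `= y` if the index is odd, `y + y = 0`;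
* `tr_tr` : transitivity, `H ≤ K ≤ L`;
* `smul_tr` : conjugation; `smul_tr_self` : if `g` normalises `H` and `K`; `smul_tr_comm` : if `g` commutes with `K`;
* `tr_mul` : `K = L H`; `tr_inf` : `tr (H ⊓ K) K = tr H K`; `tr_comm` : two commuting transfers.
-/

set_option autoImplicit false

namespace Cfsg.Agent.Omega.IId.SymWr

open Subgroup

variable {Γ : Type*} [Group Γ] {Y : Type*} [AddCommGroup Y] [DistribMulAction Γ Y]

/-- The transfer of `y` from `H` to `K`: the sum of the `k • y`, `k` in a system of representatives of the cosets of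
`H ⊓ K` in `K`. -/
noncomputable def tr (H K : Subgroup Γ) (y : Y) : Y :=
  ∑ᶠ c : K ⧸ H.subgroupOf K, ((Quotient.out c : K) : Γ) • y

theorem tr_zero (H K : Subgroup Γ) : tr H K (0 : Y) = 0 := by
  rw [tr]
  simp only [smul_zero, finsum_zero]

/-- any system of representatives may be used -/
theorem tr_eq_sum {ι : Type*} [Fintype ι] {H K : Subgroup Γ} {y : Y} (hy : ∀ h ∈ H, h ∈ K → h • y = y) (f : ι → Γ)
    (hf : ∀ i, f i ∈ K) (hinj : ∀ i j, (f i)⁻¹ * f j ∈ H → i = j) (hsurj : ∀ k ∈ K, ∃ i, (f i)⁻¹ * k ∈ H) :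
    tr H K y = ∑ i, f i • y := by
  classical
  have hb : Function.Bijective fun i : ι => (QuotientGroup.mk (⟨f i, hf i⟩ : K) : K ⧸ H.subgroupOf K) := by
    constructor
    · intro i j hij
      have h1 := QuotientGroup.eq.1 hij
      rw [mem_subgroupOf] at h1
      exact hinj i j h1
    · intro c
      obtain ⟨k, rfl⟩ := QuotientGroup.mk_surjective c
      obtain ⟨i, hi⟩ := hsurj k k.2
      refine ⟨i, ?_⟩
      change (QuotientGroup.mk (⟨f i, hf i⟩ : K) : K ⧸ H.subgroupOf K) = QuotientGroup.mk k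
      rw [QuotientGroup.eq, mem_subgroupOf]
      exact hi
  rw [tr, ← finsum_eq_sum_of_fintype]
  refine (finsum_eq_of_bijective _ hb fun i => ?_).symm
  obtain ⟨h, hh⟩ := QuotientGroup.mk_out_eq_mul (H.subgroupOf K) (⟨f i, hf i⟩ : K)
  have h1 : ((h : K) : Γ) ∈ H := mem_subgroupOf.1 h.2
  rw [show ((Quotient.out (QuotientGroup.mk (⟨f i, hf i⟩ : K) : K ⧸ H.subgroupOf K)) : K) =
    (⟨f i, hf i⟩ : K) * (h : K) from hh, Subgroup.coe_mul, mul_smul, hy _ h1 (h : K).2]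

/-- `Quotient.out` gives a system of representatives -/
theorem out_inj {H K : Subgroup Γ} {c d : K ⧸ H.subgroupOf K}
    (h : ((Quotient.out c : K) : Γ)⁻¹ * ((Quotient.out d : K) : Γ) ∈ H) : c = d := by
  have h1 : (QuotientGroup.mk (Quotient.out c : K) : K ⧸ H.subgroupOf K) = QuotientGroup.mk (Quotient.out d : K) := by
    rw [QuotientGroup.eq, mem_subgroupOf]
    exact h
  rwa [QuotientGroup.out_eq', QuotientGroup.out_eq'] at h1

theorem out_surj (H : Subgroup Γ) {K : Subgroup Γ} {k : Γ} (hk : k ∈ K) :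
    ∃ c : K ⧸ H.subgroupOf K, ((Quotient.out c : K) : Γ)⁻¹ * k ∈ H := by
  refine ⟨QuotientGroup.mk (⟨k, hk⟩ : K), ?_⟩
  have h1 : (QuotientGroup.mk (Quotient.out (QuotientGroup.mk (⟨k, hk⟩ : K) : K ⧸ H.subgroupOf K) : K) :
      K ⧸ H.subgroupOf K) = QuotientGroup.mk (⟨k, hk⟩ : K) := QuotientGroup.out_eq' _
  rw [QuotientGroup.eq, mem_subgroupOf] at h1
  exact h1

variable [Finite Γ]

theorem tr_add (H K : Subgroup Γ) (x y : Y) : tr H K (x + y) = tr H K x + tr H K y := by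
  rw [tr, tr, tr, ← finsum_add_distrib (Set.toFinite _) (Set.toFinite _)]
  simp only [smul_add]

theorem tr_sum {ι : Type*} (s : Finset ι) (H K : Subgroup Γ) (f : ι → Y) :
    tr H K (∑ i ∈ s, f i) = ∑ i ∈ s, tr H K (f i) := by
  classical
  induction s using Finset.induction_on with
  | empty => simp only [Finset.sum_empty, tr_zero]
  | insert i s hi ih => rw [Finset.sum_insert hi, tr_add, ih, Finset.sum_insert hi]

/-- `K` fixes the transfer -/
theorem smul_tr_mem {H K : Subgroup Γ} {y : Y} (hy : ∀ h ∈ H, h ∈ K → h • y = y) {g : Γ} (hg : g ∈ K) :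
    g • tr H K y = tr H K y := by
  classical
  have := Fintype.ofFinite (K ⧸ H.subgroupOf K)
  have h1 : tr H K y = ∑ c : K ⧸ H.subgroupOf K, ((Quotient.out c : K) : Γ) • y := by
    rw [tr, finsum_eq_sum_of_fintype]
  have h2 : tr H K y = ∑ c : K ⧸ H.subgroupOf K, (g * ((Quotient.out c : K) : Γ)) • y := by
    refine tr_eq_sum hy _ (fun c => mul_mem hg (Quotient.out c : K).2) (fun c d hcd => ?_) fun k hk => ?_
    · refine out_inj ?_
      rwa [mul_inv_rev, mul_assoc, inv_mul_cancel_left] at hcd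
    · obtain ⟨c, hc⟩ := out_surj H (mul_mem (inv_mem hg) hk)
      refine ⟨c, ?_⟩
      rwa [mul_inv_rev, mul_assoc]
  conv_rhs => rw [h2]
  rw [h1, Finset.smul_sum]
  refine Finset.sum_congr rfl fun c _ => ?_
  rw [mul_smul]

theorem tr_of_fix {H K : Subgroup Γ} {y : Y} (hy : ∀ k ∈ K, k • y = y) : tr H K y = (H.relIndex K) • y := by
  classical
  have := Fintype.ofFinite (K ⧸ H.subgroupOf K)
  have h1 : ∀ c : K ⧸ H.subgroupOf K, ((Quotient.out c : K) : Γ) • y = y := fun c => hy _ (Quotient.out c : K).2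
  rw [tr, finsum_eq_sum_of_fintype]
  simp only [h1]
  rw [Finset.sum_const, Finset.card_univ, ← Nat.card_eq_fintype_card]
  rfl

theorem tr_odd {H K : Subgroup Γ} {y : Y} (hy : ∀ k ∈ K, k • y = y) (hodd : Odd (H.relIndex K)) (h2 : y + y = 0) :
    tr H K y = y := by
  rw [tr_of_fix hy]
  obtain ⟨n, hn⟩ := hodd
  rw [hn, add_smul, one_smul, mul_comm, mul_smul, two_smul, h2, smul_zero, zero_add]

/-- transitivity -/
theorem tr_tr {H K L : Subgroup Γ} (hHK : H ≤ K) (hKL : K ≤ L) {y : Y} (hy : ∀ h ∈ H, h • y = y) :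
    tr K L (tr H K y) = tr H L y := by
  classical
  have := Fintype.ofFinite (K ⧸ H.subgroupOf K)
  have := Fintype.ofFinite (L ⧸ K.subgroupOf L)
  have h1 : tr H L y = ∑ x : (L ⧸ K.subgroupOf L) × (K ⧸ H.subgroupOf K),
      (((Quotient.out x.1 : L) : Γ) * ((Quotient.out x.2 : K) : Γ)) • y := by
    refine tr_eq_sum (fun h hh _ => hy h hh) _ (fun x => mul_mem (Quotient.out x.1 : L).2
      (hKL (Quotient.out x.2 : K).2)) (fun x x' hx => ?_) fun l hl => ?_
    · have h3 : ((Quotient.out x.1 : L) : Γ)⁻¹ * ((Quotient.out x'.1 : L) : Γ) ∈ K := by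
        have h4 := mul_mem (mul_mem (Quotient.out x.2 : K).2 (hHK hx)) (inv_mem (Quotient.out x'.2 : K).2)
        convert h4 using 1
        group
      have h5 : x.1 = x'.1 := out_inj h3
      have h6 : x.2 = x'.2 := by
        refine out_inj ?_
        rw [h5] at hx
        convert hx using 1
        group
      exact Prod.ext h5 h6
    · obtain ⟨c, hc⟩ := out_surj K hl
      obtain ⟨d, hd⟩ := out_surj H hc
      refine ⟨(c, d), ?_⟩
      rwa [mul_inv_rev, mul_assoc]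
  rw [h1, Fintype.sum_prod_type, tr, finsum_eq_sum_of_fintype]
  refine Finset.sum_congr rfl fun c _ => ?_
  rw [tr, finsum_eq_sum_of_fintype, Finset.smul_sum]
  refine Finset.sum_congr rfl fun d _ => ?_
  rw [mul_smul]

/-- conjugation -/
theorem smul_tr {H K H' K' : Subgroup Γ} {y : Y} (hy : ∀ h ∈ H, h ∈ K → h • y = y) {g : Γ}
    (hH : ∀ x, g * x * g⁻¹ ∈ H' ↔ x ∈ H) (hK : ∀ x, g * x * g⁻¹ ∈ K' ↔ x ∈ K) :
    g • tr H K y = tr H' K' (g • y) := by
  classical
  have := Fintype.ofFinite (K ⧸ H.subgroupOf K)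
  have h2 : tr H' K' (g • y) = ∑ c : K ⧸ H.subgroupOf K, (g * ((Quotient.out c : K) : Γ) * g⁻¹) • (g • y) := by
    refine tr_eq_sum (fun h hh hk => ?_) _ (fun c => (hK _).2 (Quotient.out c : K).2) (fun c d hcd => ?_)
      fun k hk => ?_
    · have h3 : g * (g⁻¹ * h * g) * g⁻¹ = h := by group
      have h4 : g⁻¹ * h * g ∈ H := by rw [← hH, h3]; exact hh
      have h5 : g⁻¹ * h * g ∈ K := by rw [← hK, h3]; exact hk
      have h6 := hy _ h4 h5
      rw [mul_assoc, mul_smul, inv_smul_eq_iff, mul_smul] at h6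
      exact h6
    · refine out_inj ?_
      rw [← hH]
      convert hcd using 1
      group
    · have h3 : g * (g⁻¹ * k * g) * g⁻¹ = k := by group
      have h5 : g⁻¹ * k * g ∈ K := by rw [← hK, h3]; exact hk
      obtain ⟨c, hc⟩ := out_surj H h5
      refine ⟨c, ?_⟩
      rw [← hH] at hc
      convert hc using 1
      group
  rw [h2, tr, finsum_eq_sum_of_fintype, Finset.smul_sum]
  refine Finset.sum_congr rfl fun c _ => ?_
  rw [mul_smul, mul_smul, inv_smul_smul]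

omit [Finite Γ] in
/-- an element which conjugates `H` into `H` normalises `H` (finite groups) -/
theorem conj_mem_iff [Finite Γ] {H : Subgroup Γ} {g : Γ} (h : ∀ x ∈ H, g * x * g⁻¹ ∈ H) (x : Γ) :
    g * x * g⁻¹ ∈ H ↔ x ∈ H := by
  refine ⟨fun hx => ?_, h x⟩
  have h1 : H.map (MulAut.conj g).toMonoidHom = H := by
    refine Subgroup.eq_of_le_of_card_ge ?_ ?_
    · rintro _ ⟨x, hx, rfl⟩
      exact h x hx
    · rw [Subgroup.card_map_of_injective (MulAut.conj g).injective]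
  rw [← h1] at hx
  obtain ⟨w, hw, h2⟩ := hx
  have h3 : g * w * g⁻¹ = g * x * g⁻¹ := h2
  have h4 : w = x := by simpa using h3
  exact h4 ▸ hw

/-- an element which commutes with `K` -/
theorem smul_tr_comm {H K : Subgroup Γ} {g : Γ} (hg : ∀ k ∈ K, g * k = k * g) (y : Y) :
    g • tr H K y = tr H K (g • y) := by
  classical
  have := Fintype.ofFinite (K ⧸ H.subgroupOf K)
  rw [tr, tr, finsum_eq_sum_of_fintype, finsum_eq_sum_of_fintype, Finset.smul_sum]
  refine Finset.sum_congr rfl fun c _ => ?_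
  rw [smul_smul, smul_smul, hg _ (Quotient.out c : K).2]

omit [Finite Γ] in
/-- only `H ⊓ K` matters -/
theorem tr_inf (H K : Subgroup Γ) (y : Y) : tr (H ⊓ K) K y = tr H K y := by
  rw [tr, tr, inf_subgroupOf_right]

/-- `K = L H` -/
theorem tr_mul {H K L : Subgroup Γ} {y : Y} (hy : ∀ h ∈ H, h ∈ K → h • y = y) (hLK : L ≤ K)
    (hK : ∀ k ∈ K, ∃ l ∈ L, l⁻¹ * k ∈ H) : tr H K y = tr H L y := by
  classical
  have := Fintype.ofFinite (L ⧸ H.subgroupOf L)
  rw [tr_eq_sum hy (fun c : L ⧸ H.subgroupOf L => ((Quotient.out c : L) : Γ))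
    (fun c => hLK (Quotient.out c : L).2) (fun c d => out_inj) fun k hk => ?_]
  · rw [tr, finsum_eq_sum_of_fintype]
  · obtain ⟨l, hl, h1⟩ := hK k hk
    obtain ⟨c, hc⟩ := out_surj H hl
    refine ⟨c, ?_⟩
    have := mul_mem hc h1
    convert this using 1
    group

/-- two commuting transfers -/
theorem tr_comm {H K H' K' : Subgroup Γ} (hc : ∀ k ∈ K, ∀ l ∈ K', k * l = l * k) (y : Y) :
    tr H K (tr H' K' y) = tr H' K' (tr H K y) := by
  classical
  have := Fintype.ofFinite (K ⧸ H.subgroupOf K)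
  have h0 : ∀ x : Y, tr H K x = ∑ c : K ⧸ H.subgroupOf K, ((Quotient.out c : K) : Γ) • x := fun x => by
    rw [tr, finsum_eq_sum_of_fintype]
  rw [h0, h0, tr_sum]
  exact Finset.sum_congr rfl fun c _ => smul_tr_comm (fun l hl => hc _ (Quotient.out c : K).2 l hl) y

end Cfsg.Agent.Omega.IId.SymWr

end

section


/-!
# (E) of THEOREM L (bb OMEGA #17498, helper142): the fixed vectors of `N_S(V_i)`

Pure module theory.  `Γ` is finite, `S` a 2-subgroup, `B i`, `C i` (`i : I`) subgroups which are permuted by `S` (via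
`a`), `B i` commutes with `C i`, `B j ≤ C i` for `j ≠ i` and `C i` normalises `B j`, the indices of `S ⊓ B i` in `B i`
and of `S ⊓ C i` in `C i` are odd.  `Γ` acts on the finite elementary abelian 2-group `Y`, on which `S` has only the
fixed vectors `0`, `z`; `z` is the sum of the vectors `sg i`, which are permuted by `S` and lie in subgroups `V i` on
which `B i` has no fixed vector.

* `EDat` : these hypotheses;
* `EDat.main` : if `x` is fixed by the stabiliser of `i` in `S`, then `x = φ` or `x = φ + sg i`, `φ` fixed by `B i`.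
-/

set_option autoImplicit false

namespace Cfsg.Agent.Omega.IId.SymWr

open Subgroup

variable {Γ Y I : Type*} [Group Γ] [AddCommGroup Y] [DistribMulAction Γ Y]

/-- a 2-group has a nonzero fixed vector on a nonzero invariant elementary abelian 2-group -/
theorem exists_fixed [Finite Γ] [Finite Y] {S : Subgroup Γ} (hS : IsPGroup 2 S) (W : AddSubgroup Y)
    (hW : ∀ s ∈ S, ∀ w ∈ W, s • w ∈ W) (h2 : ∀ y : Y, y + y = 0) {w : Y} (hw : w ∈ W) (hw0 : w ≠ 0) :
    ∃ v ∈ W, v ≠ 0 ∧ ∀ s ∈ S, s • v = v := by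
  have : Fact (Nat.Prime 2) := ⟨Nat.prime_two⟩
  let _ : MulAction S W :=
    { smul := fun s w => ⟨(s : Γ) • (w : Y), hW s s.2 w w.2⟩
      one_smul := fun w => Subtype.ext (one_smul Γ (w : Y))
      mul_smul := fun s t w => Subtype.ext (mul_smul (s : Γ) (t : Γ) (w : Y)) }
  have hsm : ∀ (s : S) (w : W), ((s • w : W) : Y) = (s : Γ) • (w : Y) := fun _ _ => rfl
  have hdvd : 2 ∣ Nat.card W := by
    have h1 : addOrderOf (⟨w, hw⟩ : W) = 2 := by
      refine addOrderOf_eq_prime ?_ fun h => hw0 (congrArg Subtype.val h)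
      rw [two_nsmul]
      exact Subtype.ext (h2 w)
    rw [← h1]
    exact addOrderOf_dvd_natCard _
  have h0 : (0 : W) ∈ MulAction.fixedPoints S W := fun s => Subtype.ext (by rw [hsm]; exact smul_zero _)
  obtain ⟨b, hb, hb0⟩ := hS.exists_fixed_point_of_prime_dvd_card_of_fixed_point W hdvd h0
  refine ⟨b, b.2, fun h => hb0 (Subtype.ext h.symm), fun s hs => ?_⟩
  have h3 := congrArg Subtype.val (hb ⟨s, hs⟩)
  exact h3

/-- The hypotheses of (E). -/
structure EDat (S : Subgroup Γ) (B C : I → Subgroup Γ) (a : Γ → Equiv.Perm I) (V : I → AddSubgroup Y) (sg : I → Y)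
    (z : Y) : Prop where
  two : IsPGroup 2 S
  add_self : ∀ y : Y, y + y = 0
  a_mul : ∀ s ∈ S, ∀ t ∈ S, a (s * t) = a s * a t
  trans : ∀ i j, ∃ s ∈ S, a s i = j
  conjB : ∀ s ∈ S, ∀ i, ∀ b ∈ B i, s * b * s⁻¹ ∈ B (a s i)
  conjC : ∀ s ∈ S, ∀ i, ∀ c ∈ C i, s * c * s⁻¹ ∈ C (a s i)
  B_le : ∀ i j, j ≠ i → B j ≤ C i
  comm : ∀ i, ∀ b ∈ B i, ∀ c ∈ C i, b * c = c * b
  norm : ∀ i j, j ≠ i → ∀ c ∈ C i, ∀ b ∈ B j, c * b * c⁻¹ ∈ B j
  oddB : ∀ i, Odd (S.relIndex (B i))
  oddC : ∀ i, Odd (S.relIndex (C i))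
  fixS : ∀ y : Y, (∀ s ∈ S, s • y = y) → y = 0 ∨ y = z
  z_ne : z ≠ 0
  sg_mem : ∀ i, sg i ∈ V i
  V_inv : ∀ i, ∀ b ∈ B i, ∀ v ∈ V i, b • v ∈ V i
  V_fix : ∀ i, ∀ v ∈ V i, (∀ b ∈ B i, b • v = v) → v = 0
  sg_S : ∀ s ∈ S, ∀ i, s • sg i = sg (a s i)
  sg_C : ∀ i, ∀ c ∈ C i, c • sg i = sg i
  sum : ∑ᶠ i, sg i = z

namespace EDat

variable {S : Subgroup Γ} {B C : I → Subgroup Γ} {a : Γ → Equiv.Perm I} {V : I → AddSubgroup Y} {sg : I → Y} {z : Y}
  (h : EDat S B C a V sg z)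

include h

theorem a_one : a 1 = 1 := by
  have := h.a_mul 1 (one_mem S) 1 (one_mem S)
  rw [mul_one] at this
  exact mul_right_cancel (a := a 1) (b := a 1) (by rw [one_mul]; exact this.symm) |>.symm ▸ rfl

theorem a_inv {s : Γ} (hs : s ∈ S) : a s⁻¹ = (a s)⁻¹ := by
  have := h.a_mul s⁻¹ (inv_mem hs) s hs
  rw [inv_mul_cancel, h.a_one] at this
  exact eq_inv_of_mul_eq_one_left this.symm

theorem a_inv_apply {s : Γ} (hs : s ∈ S) (i : I) : a s⁻¹ (a s i) = i := by
  rw [h.a_inv hs]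
  exact (a s).symm_apply_apply i

theorem sg_ne (i : I) : sg i ≠ 0 := by
  intro h0
  refine h.z_ne ?_
  rw [← h.sum]
  refine finsum_eq_zero_of_forall_eq_zero fun j => ?_
  obtain ⟨s, hs, h1⟩ := h.trans i j
  rw [← h1, ← h.sg_S s hs, h0, smul_zero]

theorem add_add_cancel (x y : Y) : x + y + y = x := by rw [add_assoc, h.add_self, add_zero]

theorem conjB_iff {s : Γ} (hs : s ∈ S) (i : I) (x : Γ) : s * x * s⁻¹ ∈ B (a s i) ↔ x ∈ B i := by
  refine ⟨fun hx => ?_, h.conjB s hs i x⟩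
  have h1 := h.conjB s⁻¹ (inv_mem hs) _ _ hx
  rw [h.a_inv_apply hs] at h1
  convert h1 using 1
  group

theorem conjC_iff {s : Γ} (hs : s ∈ S) (i : I) (x : Γ) : s * x * s⁻¹ ∈ C (a s i) ↔ x ∈ C i := by
  refine ⟨fun hx => ?_, h.conjC s hs i x⟩
  have h1 := h.conjC s⁻¹ (inv_mem hs) _ _ hx
  rw [h.a_inv_apply hs] at h1
  convert h1 using 1
  group

omit h in
theorem conjS_iff {s : Γ} (hs : s ∈ S) (x : Γ) : s * x * s⁻¹ ∈ S ↔ x ∈ S := by
  refine ⟨fun hx => ?_, fun hx => mul_mem (mul_mem hs hx) (inv_mem hs)⟩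
  have := mul_mem (mul_mem (inv_mem hs) hx) hs
  convert this using 1
  group

/-- `S ∩ C i` acts trivially on the indices -/
theorem a_of_C {i : I} {s : Γ} (hs : s ∈ S) (hC : s ∈ C i) : a s = 1 := by
  have key : ∀ j, j ≠ i → a s j = j := by
    intro j hj
    by_contra hne
    refine h.sg_ne j (h.V_fix j _ (h.sg_mem j) fun b hb => ?_)
    -- `B j ≤ B (a s j) ≤ C j`
    have hb' : s⁻¹ * b * s ∈ B j := by
      have := h.norm i j hj s⁻¹ (inv_mem hC) b hb
      rwa [inv_inv] at this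
    have h1 := h.conjB s hs j _ hb'
    have h2 : b ∈ B (a s j) := by
      convert h1 using 1
      group
    exact h.sg_C j b (h.B_le j _ hne h2)
  ext j
  by_cases hj : j = i
  · by_contra hne
    rw [Equiv.Perm.one_apply] at hne
    have h1 : a s (a s j) = a s j := key _ (by rwa [hj] at hne ⊢)
    exact hne ((a s).injective h1)
  · rw [key j hj, Equiv.Perm.one_apply]

theorem a_of_B {i : I} {s : Γ} (hs : s ∈ S) (hB : s ∈ B i) : a s = 1 := by
  by_cases hI : ∃ j, j ≠ i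
  · obtain ⟨j, hj⟩ := hI
    exact h.a_of_C hs (h.B_le j i hj.symm hB)
  · push Not at hI
    ext j
    rw [hI j, hI (a s i), Equiv.Perm.one_apply]

/-- the fixed vectors of the kernel of `S` on the indices -/
def FE (S : Subgroup Γ) (a : Γ → Equiv.Perm I) (y : Y) : Prop := ∀ s ∈ S, a s = 1 → s • y = y

theorem FE_B {y : Y} (hy : FE S a y) (i : I) : ∀ s ∈ S, s ∈ B i → s • y = y :=
  fun s hs hB => hy s hs (h.a_of_B hs hB)

theorem FE_C {y : Y} (hy : FE S a y) (i : I) : ∀ s ∈ S, s ∈ C i → s • y = y :=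
  fun s hs hC => hy s hs (h.a_of_C hs hC)

theorem FE_smul {y : Y} (hy : FE S a y) {s : Γ} (hs : s ∈ S) : FE S a (s • y) := by
  intro t ht h1
  have h2 : s⁻¹ * t * s ∈ S := mul_mem (mul_mem (inv_mem hs) ht) hs
  have h3 : a (s⁻¹ * t * s) = 1 := by
    rw [h.a_mul _ (mul_mem (inv_mem hs) ht) _ hs, h.a_mul _ (inv_mem hs) _ ht, h1, h.a_inv hs, mul_one,
      inv_mul_cancel]
  have h4 := hy _ h2 h3
  rw [mul_assoc, mul_smul, inv_smul_eq_iff, mul_smul] at h4
  exact h4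

omit h in
theorem FE_add {x y : Y} (hx : FE S a x) (hy : FE S a y) : FE S a (x + y) := fun s hs h1 => by
  rw [smul_add, hx s hs h1, hy s hs h1]

theorem FE_sg (i : I) : FE S a (sg i) := fun s hs h1 => by rw [h.sg_S s hs, h1, Equiv.Perm.one_apply]

omit h in
theorem FE_of {i : I} {x : Y} (hx : ∀ s ∈ S, a s i = i → s • x = x) : FE S a x := fun s hs h1 =>
  hx s hs (by rw [h1, Equiv.Perm.one_apply])

variable [Finite Γ]

/-- an `S`-invariant subgroup without `z` is trivial -/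
theorem eq_zero_of [Finite Y] {W : AddSubgroup Y} (hW : ∀ s ∈ S, ∀ w ∈ W, s • w ∈ W) (hz : z ∉ W) {w : Y} (hw : w ∈ W) :
    w = 0 := by
  by_contra hw0
  obtain ⟨v, hv, hv0, h1⟩ := exists_fixed h.two W hW h.add_self hw hw0
  rcases h.fixS v h1 with h2 | h2
  · exact hv0 h2
  · exact hz (h2 ▸ hv)

/-- conjugation of the transfers -/
theorem smul_eB {y : Y} (hy : FE S a y) {s : Γ} (hs : s ∈ S) (i : I) :
    s • tr S (B i) y = tr S (B (a s i)) (s • y) :=
  smul_tr (h.FE_B hy i) (conjS_iff hs) (h.conjB_iff hs i)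

theorem smul_eC {y : Y} (hy : FE S a y) {s : Γ} (hs : s ∈ S) (i : I) :
    s • tr S (C i) y = tr S (C (a s i)) (s • y) :=
  smul_tr (h.FE_C hy i) (conjS_iff hs) (h.conjC_iff hs i)

theorem FE_eB {y : Y} (hy : FE S a y) (i : I) : FE S a (tr S (B i) y) := fun s hs h1 => by
  rw [h.smul_eB hy hs, h1, Equiv.Perm.one_apply, hy s hs h1]

/-- (o) -/
theorem eB_eq_zero [Finite Y] [Finite I] {i : I} {u : Y} (hu : FE S a u) (hC : ∀ c ∈ C i, c • u = u) : tr S (B i) u = 0 := by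
  let W : AddSubgroup Y :=
    { carrier := {w | ∀ j, ∀ b ∈ B j, b • w = w}
      add_mem' := fun {x y} hx hy j b hb => by rw [smul_add, hx j b hb, hy j b hb]
      zero_mem' := fun j b _ => smul_zero _
      neg_mem' := fun {x} hx j b hb => by rw [smul_neg, hx j b hb] }
  have hW : ∀ s ∈ S, ∀ w ∈ W, s • w ∈ W := by
    intro s hs w hw j b hb
    have h1 := h.conjB s⁻¹ (inv_mem hs) j b hb
    have h2 := hw _ _ h1
    rw [inv_inv, mul_assoc, mul_smul, inv_smul_eq_iff, mul_smul] at h2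
    exact h2
  have hz : z ∉ W := by
    intro hz
    refine h.sg_ne i (h.V_fix i _ (h.sg_mem i) fun b hb => ?_)
    have := Fintype.ofFinite I
    classical
    have h1 : z = sg i + ∑ j ∈ Finset.univ.erase i, sg j := by
      rw [← h.sum, finsum_eq_sum_of_fintype, Finset.add_sum_erase _ _ (Finset.mem_univ i)]
    have h2 : b • (∑ j ∈ Finset.univ.erase i, sg j) = ∑ j ∈ Finset.univ.erase i, sg j := by
      rw [Finset.smul_sum]
      refine Finset.sum_congr rfl fun j hj => h.sg_C j b (h.B_le j i (Finset.ne_of_mem_erase hj).symm hb)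
    have h3 : b • z = z := hz i b hb
    rw [h1, smul_add, h2] at h3
    exact add_right_cancel h3
  refine h.eq_zero_of hW hz (w := tr S (B i) u) fun j b hb => ?_
  by_cases hj : j = i
  · subst hj
    exact smul_tr_mem (h.FE_B hu j) hb
  · have hbC := h.B_le i j hj hb
    rw [smul_tr_comm (fun k hk => (h.comm i k hk b hbC).symm), hC b hbC]

/-- (p3) -/
theorem eC_eq_zero {i l : I} (hl : l ≠ i) {y : Y} (hy : FE S a y) (h0 : tr S (B l) y = 0) : tr S (C i) y = 0 := by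
  -- `K = (S ∩ C i) B l`
  let K : Subgroup Γ := (S ⊓ C i) ⊔ B l
  have hBC : B l ≤ C i := h.B_le i l hl
  have hn : (S ⊓ C i) ≤ normalizer (B l : Set Γ) := by
    intro s hs
    rw [mem_normalizer_iff]
    intro x
    exact (conj_mem_iff (h.norm i l hl s hs.2) x).symm
  have hKC : K ≤ C i := sup_le inf_le_right hBC
  have hK : ∀ k ∈ K, ∃ b ∈ B l, b⁻¹ * k ∈ S ⊓ C i := by
    intro k hk
    have h1 : k ∈ ((B l ⊔ (S ⊓ C i) : Subgroup Γ) : Set Γ) := by
      rw [sup_comm]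
      exact hk
    rw [coe_mul_of_right_le_normalizer_left _ _ hn, Set.mem_mul] at h1
    obtain ⟨b, hb, x, hx, rfl⟩ := h1
    exact ⟨b, hb, by rw [inv_mul_cancel_left]; exact hx⟩
  have h1 : tr (S ⊓ C i) K y = tr S (B l) y := by
    have h2 : ∀ x ∈ S ⊓ C i, x ∈ K → x • y = y := fun x hx _ => h.FE_C hy i x (mem_inf.1 hx).1 (mem_inf.1 hx).2
    rw [tr_mul h2 le_sup_right hK]
    rw [← tr_inf (S ⊓ C i) (B l), ← tr_inf S (B l)]
    congr 1
    rw [inf_assoc, inf_eq_right.2 hBC]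
  have h3 : ∀ x ∈ S ⊓ C i, x • y = y := fun x hx => h.FE_C hy i x (mem_inf.1 hx).1 (mem_inf.1 hx).2
  rw [← tr_inf S (C i), ← tr_tr (K := K) le_sup_left hKC h3, h1, h0, tr_zero]

/-- `e_l` kills the conjugates `s • y`, `a s i = l`, if `e_i` kills `y` -/
theorem eB_smul_eq_zero {i : I} {y : Y} (hy : FE S a y) (h0 : tr S (B i) y = 0) {s : Γ} (hs : s ∈ S) :
    tr S (B (a s i)) (s • y) = 0 := by
  rw [← h.smul_eB hy hs, h0, smul_zero]

/-- the `e_i`-kernel: `e'` kills the conjugates outside `i` -/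
theorem eC_smul_eq_zero {i : I} {y : Y} (hy : FE S a y) (h0 : tr S (B i) y = 0) {s : Γ} (hs : s ∈ S)
    (hne : a s i ≠ i) : tr S (C i) (s • y) = 0 :=
  h.eC_eq_zero hne (h.FE_smul hy hs) (h.eB_smul_eq_zero hy h0 hs)

theorem eB_sg (i : I) : tr S (B i) (sg i) = 0 := by
  refine h.V_fix i _ ?_ fun b hb => smul_tr_mem (h.FE_B (h.FE_sg i) i) hb
  classical
  have := Fintype.ofFinite (B i ⧸ S.subgroupOf (B i))
  rw [tr, finsum_eq_sum_of_fintype]
  exact sum_mem fun c _ => h.V_inv i _ (Quotient.out c : B i).2 _ (h.sg_mem i)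

theorem eC_fix {i : I} {y : Y} (hC : ∀ c ∈ C i, c • y = y) : tr S (C i) y = y :=
  tr_odd hC (h.oddC i) (h.add_self y)

theorem eC_z [Finite I] (i : I) : tr S (C i) z = sg i := by
  have := Fintype.ofFinite I
  classical
  rw [← h.sum, finsum_eq_sum_of_fintype, tr_sum, ← Finset.add_sum_erase _ _ (Finset.mem_univ i),
    h.eC_fix (h.sg_C i), Finset.sum_eq_zero, add_zero]
  intro j hj
  exact h.eC_eq_zero (Finset.ne_of_mem_erase hj) (h.FE_sg j) (h.eB_sg j)

/-- (a) : vectors fixed by `C i` and by the stabiliser -/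
theorem of_fixC [Finite Y] [Finite I] {i : I} {u : Y} (hC : ∀ c ∈ C i, c • u = u) (hT : ∀ s ∈ S, a s i = i → s • u = u) :
    u = 0 ∨ u = sg i := by
  have := Fintype.ofFinite I
  classical
  choose! s hs has using fun j => h.trans i j
  -- the sum over the conjugates
  let N : Y → Y := fun y => ∑ j, s j • y
  have hNadd : ∀ x y, N (x + y) = N x + N y := fun x y => by
    simp only [N, smul_add, Finset.sum_add_distrib]
  have hNfix : ∀ y, (∀ t ∈ S, a t i = i → t • y = y) → ∀ t ∈ S, t • N y = N y := by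
    intro y hy t ht
    simp only [N]
    rw [Finset.smul_sum, ← Equiv.sum_comp (a t) fun j => s j • y]
    refine Finset.sum_congr rfl fun j _ => ?_
    -- `t s_j = s_(a t j) r`, `r` in the stabiliser
    have h1 : (s (a t j))⁻¹ * (t * s j) ∈ S := mul_mem (inv_mem (hs _)) (mul_mem ht (hs _))
    have h2 : a ((s (a t j))⁻¹ * (t * s j)) i = i := by
      rw [h.a_mul _ (inv_mem (hs _)) _ (mul_mem ht (hs _)), h.a_mul _ ht _ (hs _), Equiv.Perm.mul_apply,
        Equiv.Perm.mul_apply, has j]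
      have h4 := h.a_inv_apply (hs (a t j)) i
      rwa [has (a t j)] at h4
    have h3 := hy _ h1 h2
    rw [mul_smul, inv_smul_eq_iff, mul_smul] at h3
    exact h3
  have hsgT : ∀ t ∈ S, a t i = i → t • sg i = sg i := fun t ht h1 => by rw [h.sg_S t ht, h1]
  have hNsg : N (sg i) = z := by
    simp only [N]
    rw [← h.sum, finsum_eq_sum_of_fintype]
    refine Finset.sum_congr rfl fun j _ => ?_
    rw [h.sg_S _ (hs j), has]
  -- if `N u = 0` then `u = 0`
  have key : ∀ v : Y, (∀ c ∈ C i, c • v = v) → (∀ t ∈ S, a t i = i → t • v = v) → N v = 0 → v = 0 := by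
    intro v hvC hvT h0
    have hE : FE S a v := FE_of hvT
    have h1 : tr S (B i) v = 0 := h.eB_eq_zero hE hvC
    have h2 : tr S (C i) (N v) = 0 := by rw [h0, tr_zero]
    rw [tr_sum, ← Finset.add_sum_erase _ _ (Finset.mem_univ i)] at h2
    rw [Finset.sum_eq_zero, add_zero, hvT _ (hs i) (has i), h.eC_fix hvC] at h2
    · exact h2
    · intro j hj
      refine h.eC_smul_eq_zero hE h1 (hs j) ?_
      rw [has]
      exact Finset.ne_of_mem_erase hj
  rcases h.fixS _ (hNfix u hT) with h1 | h1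
  · exact Or.inl (key u hC hT h1)
  · right
    have h2 : u + sg i = 0 := by
      refine key _ (fun c hc => ?_) (fun t ht h3 => ?_) ?_
      · rw [smul_add, hC c hc, h.sg_C i c hc]
      · rw [smul_add, hT t ht h3, hsgT t ht h3]
      · rw [hNadd, h1, hNsg, h.add_self]
    calc u = u + sg i + sg i := (h.add_add_cancel u (sg i)).symm
      _ = sg i := by rw [h2, zero_add]

/-- **(E)** of THEOREM L. -/
theorem main [Finite Y] [Finite I] (i : I) {x : Y} (hx : ∀ s ∈ S, a s i = i → s • x = x) :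
    ∃ φ : Y, (∀ b ∈ B i, b • φ = φ) ∧ (x = φ ∨ x = φ + sg i) := by
  have hE : FE S a x := FE_of hx
  -- `T = N_S(V i)` fixes the transfers
  have hTB : ∀ y : Y, (∀ s ∈ S, a s i = i → s • y = y) → ∀ s ∈ S, a s i = i → s • tr S (B i) y = tr S (B i) y := by
    intro y hy s hs h1
    rw [h.smul_eB (FE_of hy) hs, h1, hy s hs h1]
  have hTC : ∀ y : Y, (∀ s ∈ S, a s i = i → s • y = y) → ∀ s ∈ S, a s i = i → s • tr S (C i) y = tr S (C i) y := by
    intro y hy s hs h1
    rw [h.smul_eC (FE_of hy) hs, h1, hy s hs h1]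
  -- (a)
  set u := tr S (C i) x with hu
  have huC : ∀ c ∈ C i, c • u = u := fun c hc => smul_tr_mem (h.FE_C hE i) hc
  have huT := hTC x hx
  have hu2 : u = 0 ∨ u = sg i := h.of_fixC huC huT
  -- (b)
  set x' := x + u with hx'
  have hT' : ∀ s ∈ S, a s i = i → s • x' = x' := fun s hs h1 => by rw [hx', smul_add, hx s hs h1, huT s hs h1]
  have h1 : tr S (C i) x' = 0 := by
    rw [hx', tr_add, ← hu, h.eC_fix huC, h.add_self]
  set w := tr S (B i) x' with hw
  have hwB : ∀ b ∈ B i, b • w = w := fun b hb => smul_tr_mem (h.FE_B (FE_of hT') i) hb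
  set x'' := x' + w with hx''
  have hT'' : ∀ s ∈ S, a s i = i → s • x'' = x'' := fun s hs h2 => by
    rw [hx'', smul_add, hT' s hs h2, hTB x' hT' s hs h2]
  have h2 : tr S (B i) x'' = 0 := by
    rw [hx'', tr_add, ← hw, tr_odd hwB (h.oddB i) (h.add_self w), h.add_self]
  have h3 : tr S (C i) x'' = 0 := by
    rw [hx'', tr_add, h1, zero_add, hw, tr_comm fun c hc b hb => (h.comm i b hb c hc).symm, h1, tr_zero]
  have h4 : x'' = 0 := by
    let W : AddSubgroup Y :=
      { carrier := {y | ∀ s ∈ S, tr S (C i) (s • y) = 0}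
        add_mem' := fun {x y} hx hy s hs => by rw [smul_add, tr_add, hx s hs, hy s hs, add_zero]
        zero_mem' := fun s _ => by rw [smul_zero, tr_zero]
        neg_mem' := fun {x} hx s hs => by
          have h5 : -x = x := neg_eq_of_add_eq_zero_left (h.add_self x)
          rw [h5]
          exact hx s hs }
    refine h.eq_zero_of (W := W) (fun s hs y hy t ht => ?_) (fun hz => ?_) fun s hs => ?_
    · rw [smul_smul]
      exact hy _ (mul_mem ht hs)
    · have h5 := hz 1 (one_mem S)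
      rw [one_smul, h.eC_z] at h5
      exact h.sg_ne i h5
    · by_cases h5 : a s i = i
      · rw [hT'' s hs h5]
        exact h3
      · exact h.eC_smul_eq_zero (FE_of hT'') h2 hs h5
  have h5 : x' = w := by
    calc x' = x' + w + w := (h.add_add_cancel x' w).symm
      _ = w := by rw [← hx'', h4, zero_add]
  refine ⟨x', fun b hb => by rw [h5]; exact hwB b hb, ?_⟩
  rcases hu2 with h6 | h6
  · left
    rw [hx', h6, add_zero]
  · right
    rw [hx', ← h6, h.add_add_cancel]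

end EDat

end Cfsg.Agent.Omega.IId.SymWr

end

section


/-!
# (E) of THEOREM L with an arbitrary summand `D` (bb OMEGA #17498, #18308, #18777)

As `EThm.lean`, but without the groups `C i`, and `S` may have a subgroup `D0` of fixed vectors which are fixed by all
`B i`: the fixed vectors of `S` are in `D0 ∪ (z + D0)`.

* `EDatE` : the hypotheses; `EDat.toE` : the old ones;
* `EDatE.main` : if `x` is fixed by the stabiliser of `i` in `S`, then `x = φ` or `x = φ + sg i`, `φ` fixed by `B i`.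

Proof: `e l` := transfer from `S ⊓ B l` to `B l` (commuting idempotents on the fixed vectors of the kernel of `S` on the
indices), `g l := 1 - e l`; `g i (g j y) = 0` for `i ≠ j`.
-/

set_option autoImplicit false

namespace Cfsg.Agent.Omega.IId.SymWr

open Subgroup

variable {Γ Y I : Type*} [Group Γ] [AddCommGroup Y] [DistribMulAction Γ Y]

/-- The hypotheses of (E) with a summand `D0`. -/
structure EDatE (S : Subgroup Γ) (B : I → Subgroup Γ) (a : Γ → Equiv.Perm I) (V : I → AddSubgroup Y) (sg : I → Y)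
    (z : Y) (D0 : AddSubgroup Y) : Prop where
  two : IsPGroup 2 S
  add_self : ∀ y : Y, y + y = 0
  a_mul : ∀ s ∈ S, ∀ t ∈ S, a (s * t) = a s * a t
  trans : ∀ i j, ∃ s ∈ S, a s i = j
  conjB : ∀ s ∈ S, ∀ i, ∀ b ∈ B i, s * b * s⁻¹ ∈ B (a s i)
  comm : ∀ i j, i ≠ j → ∀ b ∈ B i, ∀ c ∈ B j, b * c = c * b
  oddB : ∀ i, Odd (S.relIndex (B i))
  fixS : ∀ y : Y, (∀ s ∈ S, s • y = y) → y ∈ D0 ∨ y + z ∈ D0
  D_fix : ∀ i, ∀ b ∈ B i, ∀ d ∈ D0, b • d = d
  z_ne : z ≠ 0
  sg_mem : ∀ i, sg i ∈ V i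
  V_inv : ∀ i, ∀ b ∈ B i, ∀ v ∈ V i, b • v ∈ V i
  V_fix : ∀ i, ∀ v ∈ V i, (∀ b ∈ B i, b • v = v) → v = 0
  sg_S : ∀ s ∈ S, ∀ i, s • sg i = sg (a s i)
  sg_B : ∀ i j, i ≠ j → ∀ b ∈ B i, b • sg j = sg j
  sum : ∑ᶠ i, sg i = z

theorem EDat.toE {S : Subgroup Γ} {B C : I → Subgroup Γ} {a : Γ → Equiv.Perm I} {V : I → AddSubgroup Y} {sg : I → Y}
    {z : Y} (h : EDat S B C a V sg z) : EDatE S B a V sg z ⊥ where
  two := h.two
  add_self := h.add_self
  a_mul := h.a_mul
  trans := h.trans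
  conjB := h.conjB
  comm := fun i j hij b hb c hc => h.comm i b hb c (h.B_le i j hij.symm hc)
  oddB := h.oddB
  fixS := fun y hy => by
    rcases h.fixS y hy with h1 | h1
    · exact Or.inl (AddSubgroup.mem_bot.2 h1)
    · exact Or.inr (AddSubgroup.mem_bot.2 (by rw [h1, h.add_self]))
  D_fix := fun i b _ d hd => by rw [AddSubgroup.mem_bot.1 hd, smul_zero]
  z_ne := h.z_ne
  sg_mem := h.sg_mem
  V_inv := h.V_inv
  V_fix := h.V_fix
  sg_S := h.sg_S
  sg_B := fun i j hij b hb => h.sg_C j b (h.B_le j i hij hb)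
  sum := h.sum

namespace EDatE

variable {S : Subgroup Γ} {B : I → Subgroup Γ} {a : Γ → Equiv.Perm I} {V : I → AddSubgroup Y} {sg : I → Y} {z : Y}
  {D0 : AddSubgroup Y} (h : EDatE S B a V sg z D0)

include h

theorem a_one : a 1 = 1 := by
  have := h.a_mul 1 (one_mem S) 1 (one_mem S)
  rw [mul_one] at this
  exact (mul_eq_left (a := a 1)).1 this.symm

theorem a_inv {s : Γ} (hs : s ∈ S) : a s⁻¹ = (a s)⁻¹ := by
  have := h.a_mul s⁻¹ (inv_mem hs) s hs
  rw [inv_mul_cancel, h.a_one] at this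
  exact eq_inv_of_mul_eq_one_left this.symm

theorem a_inv_apply {s : Γ} (hs : s ∈ S) (i : I) : a s⁻¹ (a s i) = i := by
  rw [h.a_inv hs]
  exact (a s).symm_apply_apply i

theorem sg_ne (i : I) : sg i ≠ 0 := by
  intro h0
  refine h.z_ne ?_
  rw [← h.sum]
  refine finsum_eq_zero_of_forall_eq_zero fun j => ?_
  obtain ⟨s, hs, h1⟩ := h.trans i j
  rw [← h1, ← h.sg_S s hs, h0, smul_zero]

theorem add_add_cancel (x y : Y) : x + y + y = x := by rw [add_assoc, h.add_self, add_zero]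

theorem eq_of_add {x y : Y} (h0 : x + y = 0) : x = y := by
  rw [← h.add_add_cancel x y, h0, zero_add]

/-- `sg i` is moved by `B i` -/
theorem exists_moved (i : I) : ∃ b ∈ B i, b • sg i ≠ sg i := by
  by_contra hcon
  push Not at hcon
  exact h.sg_ne i (h.V_fix i _ (h.sg_mem i) hcon)

theorem conjB_iff {s : Γ} (hs : s ∈ S) (i : I) (x : Γ) : s * x * s⁻¹ ∈ B (a s i) ↔ x ∈ B i := by
  refine ⟨fun hx => ?_, h.conjB s hs i x⟩
  have h1 := h.conjB s⁻¹ (inv_mem hs) _ _ hx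
  rw [h.a_inv_apply hs] at h1
  convert h1 using 1
  group

/-- `S ∩ B i` acts trivially on the indices -/
theorem a_of_B {i : I} {s : Γ} (hs : s ∈ S) (hB : s ∈ B i) : a s = 1 := by
  have key : ∀ j, j ≠ i → a s j = j := by
    intro j hj
    by_contra hne
    obtain ⟨b, hb, h1⟩ := h.exists_moved j
    have h2 := h.conjB s hs j b hb
    rw [h.comm i j hj.symm s hB b hb, mul_inv_cancel_right] at h2
    exact h1 (h.sg_B _ j hne b h2)
  ext j
  by_cases hj : j = i
  · by_contra hne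
    rw [Equiv.Perm.one_apply] at hne
    have h1 : a s (a s j) = a s j := key _ (by rwa [hj] at hne ⊢)
    exact hne ((a s).injective h1)
  · rw [key j hj, Equiv.Perm.one_apply]

theorem FE_B {y : Y} (hy : EDat.FE S a y) (i : I) : ∀ s ∈ S, s ∈ B i → s • y = y :=
  fun s hs hB => hy s hs (h.a_of_B hs hB)

theorem FE_smul {y : Y} (hy : EDat.FE S a y) {s : Γ} (hs : s ∈ S) : EDat.FE S a (s • y) := by
  intro t ht h1
  have h2 : s⁻¹ * t * s ∈ S := mul_mem (mul_mem (inv_mem hs) ht) hs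
  have h3 : a (s⁻¹ * t * s) = 1 := by
    rw [h.a_mul _ (mul_mem (inv_mem hs) ht) _ hs, h.a_mul _ (inv_mem hs) _ ht, h1, h.a_inv hs, mul_one,
      inv_mul_cancel]
  have h4 := hy _ h2 h3
  rw [mul_assoc, mul_smul, inv_smul_eq_iff, mul_smul] at h4
  exact h4

theorem FE_sg (i : I) : EDat.FE S a (sg i) := fun s hs h1 => by rw [h.sg_S s hs, h1, Equiv.Perm.one_apply]

variable [Finite Γ]

theorem smul_eB {y : Y} (hy : EDat.FE S a y) {s : Γ} (hs : s ∈ S) (i : I) :
    s • tr S (B i) y = tr S (B (a s i)) (s • y) :=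
  smul_tr (h.FE_B hy i) (EDat.conjS_iff hs) (h.conjB_iff hs i)

theorem FE_eB {y : Y} (hy : EDat.FE S a y) (i : I) : EDat.FE S a (tr S (B i) y) := fun s hs h1 => by
  rw [h.smul_eB hy hs, h1, Equiv.Perm.one_apply, hy s hs h1]

/-- `e` is the identity on the fixed vectors of `B i` -/
theorem eB_fix {i : I} {y : Y} (hy : ∀ b ∈ B i, b • y = y) : tr S (B i) y = y :=
  tr_odd hy (h.oddB i) (h.add_self y)

theorem eB_eB {y : Y} (hy : EDat.FE S a y) (i : I) : tr S (B i) (tr S (B i) y) = tr S (B i) y :=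
  h.eB_fix fun _ hb => smul_tr_mem (h.FE_B hy i) hb

theorem eB_comm (i j : I) (y : Y) : tr S (B i) (tr S (B j) y) = tr S (B j) (tr S (B i) y) := by
  by_cases hij : i = j
  · rw [hij]
  · exact tr_comm (h.comm i j hij) y

theorem eB_sg (i : I) : tr S (B i) (sg i) = 0 := by
  refine h.V_fix i _ ?_ fun b hb => smul_tr_mem (h.FE_B (h.FE_sg i) i) hb
  classical
  have := Fintype.ofFinite (B i ⧸ S.subgroupOf (B i))
  rw [tr, finsum_eq_sum_of_fintype]
  exact sum_mem fun c _ => h.V_inv i _ (Quotient.out c : B i).2 _ (h.sg_mem i)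

theorem eB_sg_ne {i j : I} (hij : i ≠ j) : tr S (B i) (sg j) = sg j := h.eB_fix (h.sg_B i j hij)

omit h [Finite Γ] in
/-- `g i := 1 - e i` -/
noncomputable def gB (S : Subgroup Γ) (B : I → Subgroup Γ) (i : I) (y : Y) : Y := y + tr S (B i) y

omit h [Finite Γ] in
theorem gB_add [Finite Γ] (i : I) (x y : Y) : gB S B i (x + y) = gB S B i x + gB S B i y := by
  rw [gB, gB, gB, tr_add]
  abel

theorem gB_comm (i j : I) (y : Y) : gB S B i (gB S B j y) = gB S B j (gB S B i y) := by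
  simp only [gB, tr_add]
  rw [h.eB_comm i j]
  abel

theorem FE_gB {y : Y} (hy : EDat.FE S a y) (i : I) : EDat.FE S a (gB S B i y) :=
  EDat.FE_add hy (h.FE_eB hy i)

theorem smul_gB {y : Y} (hy : EDat.FE S a y) {s : Γ} (hs : s ∈ S) (i : I) :
    s • gB S B i y = gB S B (a s i) (s • y) := by
  rw [gB, smul_add, h.smul_eB hy hs, gB]

theorem eB_gB {y : Y} (hy : EDat.FE S a y) (i : I) : tr S (B i) (gB S B i y) = 0 := by
  rw [gB, tr_add, h.eB_eB hy, h.add_self]

theorem eB_gB_comm (i j : I) (y : Y) : tr S (B i) (gB S B j y) = gB S B j (tr S (B i) y) := by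
  rw [gB, gB, tr_add, h.eB_comm]

variable [Finite Y]

/-- an `S`-invariant subgroup which contains no nonzero vector of `D0 ∪ (z + D0)` is trivial -/
theorem eq_zero_of {W : AddSubgroup Y} (hW : ∀ s ∈ S, ∀ w ∈ W, s • w ∈ W) (hD : ∀ d ∈ D0, d ∈ W → d = 0)
    (hz : ∀ d ∈ D0, d + z ∉ W) {w : Y} (hw : w ∈ W) : w = 0 := by
  by_contra hw0
  obtain ⟨v, hv, hv0, h1⟩ := exists_fixed h.two W hW h.add_self hw hw0
  rcases h.fixS v h1 with h2 | h2
  · exact hv0 (hD v h2 hv)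
  · refine hz _ h2 ?_
    rwa [h.add_add_cancel]

variable [Finite I]

omit [Finite Y] in
/-- the transfers kill `sg` one after the other -/
theorem exists_list (i : I) : ∃ E : Y → Y, (∀ x y, E (x + y) = E x + E y) ∧
    (∀ y, EDat.FE S a y → EDat.FE S a (E y)) ∧ (∀ d ∈ D0, E d = d) ∧ E z = sg i ∧
    (∀ j, j ≠ i → ∀ y, EDat.FE S a y → E (gB S B j y) = 0) := by
  classical
  have := Fintype.ofFinite I
  -- `E` = the product of the `e j`, `j ∈ s`
  have key : ∀ s : Finset I, ∃ E : Y → Y, (∀ x y, E (x + y) = E x + E y) ∧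
      (∀ y, EDat.FE S a y → EDat.FE S a (E y)) ∧ (∀ d ∈ D0, E d = d) ∧ (∀ j ∉ s, E (sg j) = sg j) ∧
      (∀ j ∈ s, E (sg j) = 0) ∧ (∀ j ∈ s, ∀ y, EDat.FE S a y → E (gB S B j y) = 0) ∧
      (∀ j y, EDat.FE S a y → E (gB S B j y) = gB S B j (E y)) := by
    intro s
    induction s using Finset.induction_on with
    | empty =>
      exact ⟨id, fun _ _ => rfl, fun _ h => h, fun _ _ => rfl, fun _ _ => rfl, fun j hj => by simp at hj,
        fun j hj => by simp at hj, fun _ _ _ => rfl⟩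
    | insert l s hl ih =>
      obtain ⟨E, hadd, hFE, hD, hout, hin, hk, hcm⟩ := ih
      refine ⟨fun y => tr S (B l) (E y), fun x y => by
        beta_reduce
        rw [hadd, tr_add], fun y hy => h.FE_eB (hFE y hy) l,
        fun d hd => ?_, fun j hj => ?_, fun j hj => ?_, fun j hj y hy => ?_, fun j y hy => ?_⟩
      · beta_reduce
        rw [hD d hd]
        exact h.eB_fix fun b hb => h.D_fix l b hb d hd
      · beta_reduce
        rw [Finset.mem_insert, not_or] at hj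
        rw [hout j hj.2]
        exact h.eB_sg_ne (Ne.symm hj.1)
      · beta_reduce
        rcases Finset.mem_insert.1 hj with rfl | h1
        · rw [hout j hl]
          exact h.eB_sg j
        · rw [hin j h1, tr_zero]
      · beta_reduce
        rcases Finset.mem_insert.1 hj with rfl | h1
        · rw [hcm j y hy]
          exact h.eB_gB (hFE y hy) j
        · rw [hk j h1 y hy, tr_zero]
      · beta_reduce
        rw [hcm j y hy, h.eB_gB_comm]
  obtain ⟨E, hadd, hFE, hD, hout, hin, hk, -⟩ := key (Finset.univ.erase i)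
  refine ⟨E, hadd, hFE, hD, ?_, fun j hj => hk j (Finset.mem_erase.2 ⟨hj, Finset.mem_univ j⟩)⟩
  have hE0 : E 0 = 0 := hD 0 (zero_mem D0)
  let E' : Y →+ Y := { toFun := E, map_zero' := hE0, map_add' := hadd }
  have h1 : E z = E' z := rfl
  rw [h1, ← h.sum, finsum_eq_sum_of_fintype, map_sum, ← Finset.add_sum_erase _ _ (Finset.mem_univ i),
    Finset.sum_eq_zero, add_zero]
  · exact hout i (Finset.notMem_erase i _)
  · exact fun j hj => hin j hj

/-- **`g i g j = 0`** -/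
theorem gB_gB {i j : I} (hij : i ≠ j) {y : Y} (hy : EDat.FE S a y) : gB S B i (gB S B j y) = 0 := by
  -- the subgroup generated by the `g k (g l x)`
  let W : AddSubgroup Y := AddSubgroup.closure
    {w | ∃ k l x, k ≠ l ∧ EDat.FE S a x ∧ w = gB S B k (gB S B l x)}
  obtain ⟨E, hadd, hFE, hD, hz, hk⟩ := h.exists_list i
  have hE0 : E 0 = 0 := hD 0 (zero_mem D0)
  let E' : Y →+ Y := { toFun := E, map_zero' := hE0, map_add' := hadd }
  have hEW : ∀ w ∈ W, E w = 0 := by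
    intro w hw
    have h1 : W ≤ E'.ker := by
      rw [AddSubgroup.closure_le]
      rintro _ ⟨k, l, x, hkl, hx, rfl⟩
      rw [SetLike.mem_coe, AddMonoidHom.mem_ker]
      change E (gB S B k (gB S B l x)) = 0
      by_cases hki : k = i
      · rw [h.gB_comm]
        exact hk l (fun h2 => hkl (hki.trans h2.symm)) _ (h.FE_gB hx k)
      · exact hk k hki _ (h.FE_gB hx l)
    exact AddMonoidHom.mem_ker.1 (h1 hw)
  refine h.eq_zero_of (W := W) (fun s hs w hw => ?_) (fun d hd hdW => ?_) (fun d hd hdW => ?_)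
    (AddSubgroup.subset_closure ⟨i, j, y, hij, hy, rfl⟩)
  · induction hw using AddSubgroup.closure_induction with
    | mem w hw =>
      obtain ⟨k, l, x, hkl, hx, rfl⟩ := hw
      rw [h.smul_gB (h.FE_gB hx l) hs, h.smul_gB hx hs]
      exact AddSubgroup.subset_closure ⟨_, _, _, fun h1 => hkl ((a s).injective h1), h.FE_smul hx hs, rfl⟩
    | zero => rw [smul_zero]; exact zero_mem _
    | add x y _ _ hx hy => rw [smul_add]; exact add_mem hx hy
    | neg x _ hx => rw [smul_neg]; exact neg_mem hx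
  · rw [← hD d hd]
    exact hEW d hdW
  · have h1 := hEW _ hdW
    rw [hadd, hD d hd, hz] at h1
    obtain ⟨b, hb, h2⟩ := h.exists_moved i
    refine h2 ?_
    rw [← h.eq_of_add h1]
    exact h.D_fix i b hb d hd

/-- **(E)** of THEOREM L, with a summand `D0`. -/
theorem main (i : I) {x : Y} (hx : ∀ s ∈ S, a s i = i → s • x = x) :
    ∃ φ : Y, (∀ b ∈ B i, b • φ = φ) ∧ (x = φ ∨ x = φ + sg i) := by
  classical
  have := Fintype.ofFinite I
  have hE : EDat.FE S a x := EDat.FE_of hx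
  set e := tr S (B i) x with he
  have heB : ∀ b ∈ B i, b • e = e := fun b hb => smul_tr_mem (h.FE_B hE i) hb
  have heT : ∀ s ∈ S, a s i = i → s • e = e := fun s hs h1 => by
    rw [he, h.smul_eB hE hs, h1, hx s hs h1]
  set y := gB S B i x with hy
  have hyx : y = x + e := rfl
  have hyE : EDat.FE S a y := h.FE_gB hE i
  have hyT : ∀ s ∈ S, a s i = i → s • y = y := fun s hs h1 => by rw [hyx, smul_add, hx s hs h1, heT s hs h1]
  choose! s hs has using fun j => h.trans i j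
  -- the sum over the conjugates of `y`
  set N : Y := ∑ j, s j • y with hN
  have hNfix : ∀ t ∈ S, t • N = N := by
    intro t ht
    rw [hN, Finset.smul_sum, ← Equiv.sum_comp (a t) fun j => s j • y]
    refine Finset.sum_congr rfl fun j _ => ?_
    have h1 : (s (a t j))⁻¹ * (t * s j) ∈ S := mul_mem (inv_mem (hs _)) (mul_mem ht (hs _))
    have h2 : a ((s (a t j))⁻¹ * (t * s j)) i = i := by
      rw [h.a_mul _ (inv_mem (hs _)) _ (mul_mem ht (hs _)), h.a_mul _ ht _ (hs _), Equiv.Perm.mul_apply,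
        Equiv.Perm.mul_apply, has j]
      have h4 := h.a_inv_apply (hs (a t j)) i
      rwa [has (a t j)] at h4
    have h3 := hyT _ h1 h2
    rw [mul_smul, inv_smul_eq_iff, mul_smul] at h3
    exact h3
  -- `g i N = y`
  have hgy : gB S B i y = y := by
    rw [gB, hy, h.eB_gB hE, add_zero]
  let g : Y →+ Y :=
    { toFun := gB S B i
      map_zero' := by rw [gB, tr_zero, add_zero]
      map_add' := gB_add i }
  have hgN : gB S B i N = y := by
    have h1 : gB S B i N = g N := rfl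
    rw [h1, hN, map_sum, ← Finset.add_sum_erase _ _ (Finset.mem_univ i), Finset.sum_eq_zero, add_zero,
      hyT _ (hs i) (has i)]
    · exact hgy
    · intro j hj
      have hji : j ≠ i := Finset.ne_of_mem_erase hj
      change gB S B i (s j • gB S B i x) = 0
      rw [h.smul_gB hE (hs j), has]
      exact h.gB_gB hji.symm (h.FE_smul hE (hs j))
  have hgD : ∀ d ∈ D0, gB S B i d = 0 := fun d hd => by
    rw [gB, h.eB_fix fun b hb => h.D_fix i b hb d hd, h.add_self]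
  have hgz : gB S B i z = sg i := by
    have h1 : gB S B i z = g z := rfl
    rw [h1, ← h.sum, finsum_eq_sum_of_fintype, map_sum, ← Finset.add_sum_erase _ _ (Finset.mem_univ i),
      Finset.sum_eq_zero, add_zero]
    · change sg i + tr S (B i) (sg i) = sg i
      rw [h.eB_sg, add_zero]
    · intro j hj
      change sg j + tr S (B i) (sg j) = 0
      rw [h.eB_sg_ne (Finset.ne_of_mem_erase hj).symm, h.add_self]
  refine ⟨e, heB, ?_⟩
  rcases h.fixS N hNfix with h1 | h1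
  · left
    have h2 := hgD _ h1
    rw [hgN] at h2
    exact h.eq_of_add (hyx ▸ h2)
  · right
    have h2 := hgD _ h1
    rw [gB_add, hgN, hgz] at h2
    have h3 : y = sg i := h.eq_of_add h2
    rw [← h3, hyx, add_comm x e, ← add_assoc, h.add_self, zero_add]

end EDatE

end Cfsg.Agent.Omega.IId.SymWr

end

private theorem dce_7be6f388a0c3 : _root_.True := by
  try have : _root_.True := by simp only [_root_.Cfsg.Agent.Omega.IId.SymWr.tr.eq_1]
  try have : _root_.True := by simp only [_root_.Cfsg.Agent.Omega.IId.SymWr.EDatE.gB.eq_1]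
  try have : _root_.True := by simp only [_root_.Cfsg.Agent.Omega.IId.SymWr.pp.eq_1]
  exact _root_.True.intro
end

-- part: Mrg/Omega/IId/SymWr/Fours
section
prune_inst 0x100001005422000000000000200000006000000000230001210008000008810180008700008012000100a2202000002002000049000000000000000000000000000202000040000000000000a804000000000000000000000000000000000000000000000
set_option linter.all false
open scoped Cfsg.Agent.FastGrp

section


/-!
# II.d, `SwBig`: the pairs and the 4-blocks of `S` on the points (THEOREM L, bb OMEGA #17498)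

`Fours M μ ν` : `μ`, `ν` are commuting involutions of the points; the `{p, μ p}` (`p.2 ≠ 0`) are the `S`-pairs and the
`{p, μ p, ν p, μ (ν p)}` the 4-blocks.

* `exists_fours` : existence;
* `Fours.FA`, `Fours.FD` : the group of the permutations preserving all pairs, and the group of the permutations
  preserving all 4-blocks and permuting the pairs; 2-groups (`FA_isPGroup`, `FD_isPGroup`) normalised by `S`;
* `Fours.A`, `Fours.D` : their preimages in `S`; `exists_A`, `exists_D` : all of `FA`, `FD` is induced by `S`.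
-/

set_option autoImplicit false

namespace Cfsg.Agent.Omega.IId.SymWr

open Subgroup Pointwise Cfsg Cfsg.Agent.ZN Cfsg.Agent.Omega.MinPar Cfsg.Agent.Omega.FFThm
open Cfsg.Agent.Omega.Half (Amb amb_of_loc)
open Cfsg.Agent.Omega.Half.SymA (Pt E Mv pm)

universe u

variable {G : Type u} [Group G] {P V : Subgroup G} {k m : ℕ}

/-- The pairs `{p, μ p}` and the 4-blocks `{p, μ p, ν p, μ (ν p)}` of `S`. -/
structure Fours {S : Subgroup G} (M : SymK S P V ⊥ k m) (μ ν : Equiv.Perm (Pt k m)) : Prop where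
  mfst : ∀ p, (μ p).1 = p.1
  nfst : ∀ p, (ν p).1 = p.1
  mzero : ∀ p, p.2 = 0 → μ p = p
  nzero : ∀ p, p.2 = 0 → ν p = p
  mne : ∀ p, p.2 ≠ 0 → μ p ≠ p
  nne : ∀ p, p.2 ≠ 0 → ν p ≠ p
  nmu : ∀ p, p.2 ≠ 0 → ν p ≠ μ p
  msq : ∀ p, μ (μ p) = p
  nsq : ∀ p, ν (ν p) = p
  comm : ∀ p, μ (ν p) = ν (μ p)
  meqv : ∀ s ∈ S, ∀ p, pp M s (μ p) = μ (pp M s p)
  neqv : ∀ s ∈ S, ∀ p, pp M s (ν p) = ν (pp M s p) ∨ pp M s (ν p) = μ (ν (pp M s p))

namespace Fours

section basic

variable {S : Subgroup G} {M : SymK S P V ⊥ k m} {μ ν : Equiv.Perm (Pt k m)} (F : Fours M μ ν)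

include F

theorem mnz {p : Pt k m} : (μ p).2 = 0 ↔ p.2 = 0 := by
  constructor
  · intro h
    by_contra h0
    have h1 := F.mzero _ h
    rw [F.msq] at h1
    exact F.mne p h0 h1.symm
  · intro h
    rw [F.mzero p h, h]

theorem nnz {p : Pt k m} : (ν p).2 = 0 ↔ p.2 = 0 := by
  constructor
  · intro h
    by_contra h0
    have h1 := F.nzero _ h
    rw [F.nsq] at h1
    exact F.nne p h0 h1.symm
  · intro h
    rw [F.nzero p h, h]

end basic

end Fours

section exist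

variable [Finite G] {S : Sylow 2 G} {M : SymK (S : Subgroup G) P V ⊥ k m} (h : Sit S P V M)

/-- the stabiliser of a point in `S` -/
noncomputable def stab (h : Sit S P V M) (x : Pt k m) : Subgroup G where
  carrier := {s | s ∈ (S : Subgroup G) ∧ pp M s x = x}
  mul_mem' := by
    rintro a b ⟨ha, h1⟩ ⟨hb, h2⟩
    refine ⟨mul_mem ha hb, ?_⟩
    rw [h.mul (h.SP ha) (h.SP hb), Equiv.Perm.mul_apply, h2, h1]
  one_mem' := ⟨one_mem _, by rw [h.one]; rfl⟩
  inv_mem' := by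
    rintro a ⟨ha, h1⟩
    refine ⟨inv_mem ha, ?_⟩
    rw [h.inv (h.SP ha), Equiv.Perm.inv_eq_iff_eq, h1]

/-- the stabiliser of a summand in `S` -/
noncomputable def stabB (h : Sit S P V M) (x : Pt k m) : Subgroup G where
  carrier := {s | s ∈ (S : Subgroup G) ∧ (pp M s x).1 = x.1}
  mul_mem' := by
    rintro a b ⟨ha, h1⟩ ⟨hb, h2⟩
    refine ⟨mul_mem ha hb, ?_⟩
    rw [h.mul (h.SP ha) (h.SP hb), Equiv.Perm.mul_apply, h.fst (h.SP ha) h2, h1]
  one_mem' := ⟨one_mem _, by rw [h.one]; rfl⟩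
  inv_mem' := by
    rintro a ⟨ha, h1⟩
    refine ⟨inv_mem ha, ?_⟩
    have h2 := h.fst (inv_mem (h.SP ha)) h1
    rw [h.inv (h.SP ha), show (pp M a)⁻¹ (pp M a x) = x from (pp M a).symm_apply_apply x] at h2
    rw [h.inv (h.SP ha)]
    exact h2.symm

omit [Finite G] in
theorem mem_stab {h : Sit S P V M} {x : Pt k m} {s : G} : s ∈ stab h x ↔ s ∈ (S : Subgroup G) ∧ pp M s x = x := Iff.rfl

omit [Finite G] in
theorem card_mul_relIndex {A K : Subgroup G} (h : A ≤ K) : Nat.card A * A.relIndex K = Nat.card K := by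
  have h1 := relIndex_mul_relIndex (⊥ : Subgroup G) A K bot_le h
  rwa [relIndex_bot_left, relIndex_bot_left] at h1

/-- two proper subgroups between a subgroup of index `≥ 4` and a 2-group -/
theorem exists_chain {A T : Subgroup G} (hT : IsPGroup 2 T) (hAT : A ≤ T) (h4 : 4 ∣ A.relIndex T) :
    ∃ K L : Subgroup G, A ≤ K ∧ K ≤ L ∧ L ≤ T ∧ A.relIndex K = 2 ∧ K.relIndex L = 2 := by
  have : Fact (Nat.Prime 2) := ⟨Nat.prime_two⟩
  obtain ⟨n, hn⟩ := IsPGroup.iff_card.1 hT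
  obtain ⟨a, ha⟩ := IsPGroup.iff_card.1 (hT.to_le hAT)
  have hmul : Nat.card A * A.relIndex T = Nat.card T := card_mul_relIndex hAT
  have han : a + 2 ≤ n := by
    obtain ⟨c, hc⟩ := h4
    have h1 : 2 ^ (a + 2) ∣ 2 ^ n := ⟨c, by rw [← hn, ← hmul, ha, hc, pow_add]; ring⟩
    exact (Nat.pow_dvd_pow_iff_le_right (by norm_num)).1 h1
  have hA' : Nat.card (A.subgroupOf T) = 2 ^ a := by
    rw [← ha]
    exact Nat.card_congr (Subgroup.subgroupOfEquivOfLe hAT).toEquiv
  obtain ⟨K', hK', hAK⟩ := Sylow.exists_subgroup_card_pow_prime_le (G := T) 2 (n := a) (m := a + 1)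
    (by rw [hn]; exact pow_dvd_pow 2 (by omega)) _ hA' (by omega)
  obtain ⟨L', hL', hKL⟩ := Sylow.exists_subgroup_card_pow_prime_le (G := T) 2 (n := a + 1) (m := a + 2)
    (by rw [hn]; exact pow_dvd_pow 2 (by omega)) _ hK' (by omega)
  have hcard : ∀ R : Subgroup T, Nat.card (R.map T.subtype) = Nat.card R := fun R =>
    (Nat.card_congr (Subgroup.equivMapOfInjective R _ T.subtype_injective).toEquiv).symm
  have hAK' : A ≤ K'.map T.subtype := fun x hx => ⟨⟨x, hAT hx⟩, hAK (mem_subgroupOf.2 hx), rfl⟩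
  have hKL' : K'.map T.subtype ≤ L'.map T.subtype := Subgroup.map_mono hKL
  refine ⟨K'.map T.subtype, L'.map T.subtype, hAK', hKL', map_subtype_le _, ?_, ?_⟩
  · have h1 := card_mul_relIndex hAK'
    rw [hcard, hK', ha, pow_succ] at h1
    exact Nat.eq_of_mul_eq_mul_left (by positivity) h1
  · have h1 := card_mul_relIndex hKL'
    rw [hcard, hcard, hK', hL', pow_succ] at h1
    exact Nat.eq_of_mul_eq_mul_left (by positivity) h1

omit [Finite G] in
theorem stab_le (x : Pt k m) : stab h x ≤ stabB h x := fun s hs => ⟨hs.1, by rw [hs.2]⟩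

seal _root_.Finset.card in
theorem relIndex_stab {x : Pt k m} (hx : x.2 ≠ 0) : (stab h x).relIndex (stabB h x) = 2 ^ m := by
  let f : stabB h x →* Equiv.Perm (Pt k m) :=
    { toFun := fun s => pp M s
      map_one' := h.one
      map_mul' := fun a b => h.mul (h.SP a.2.1) (h.SP b.2.1) }
  letI : MulAction (stabB h x) (Pt k m) := MulAction.compHom _ f
  have hsm : ∀ (s : stabB h x) (y : Pt k m), s • y = pp M s y := fun _ _ => rfl
  have h1 : (stab h x).subgroupOf (stabB h x) = MulAction.stabilizer (stabB h x) x := by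
    ext s
    rw [mem_subgroupOf, MulAction.mem_stabilizer_iff, hsm, mem_stab]
    exact ⟨fun h1 => h1.2, fun h1 => ⟨s.2.1, h1⟩⟩
  rw [relIndex, h1, MulAction.index_stabilizer]
  have h2 : MulAction.orbit (stabB h x) x = (fun y : Fin (2 ^ m + 1) => ((x.1, y) : Pt k m)) '' {y | y ≠ 0} := by
    ext q
    constructor
    · rintro ⟨s, rfl⟩
      refine ⟨(pp M s x).2, fun h0 => hx ((h.snd s.2.1).1 h0), ?_⟩
      exact Prod.ext s.2.2.symm rfl
    · rintro ⟨y, hy, rfl⟩
      obtain ⟨s, hs, h3⟩ := h.trans (p := x) (q := (x.1, y)) hx hy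
      exact ⟨⟨s, hs, by rw [h3]⟩, (by exact h3)⟩
  rw [h2, Set.ncard_image_of_injective _ (fun a b hab => (Prod.ext_iff.1 hab).2)]
  have h3 : {y : Fin (2 ^ m + 1) | y ≠ 0} = ((Finset.univ.erase 0 : Finset (Fin (2 ^ m + 1))) : Set _) := by
    ext y
    simp only [_root_.ne_eq, _root_.Set.mem_ofPred_eq, _root_.Finset.coe_erase, _root_.Finset.coe_univ, _root_.Set.mem_sdiff, _root_.Set.mem_univ, _root_.Set.mem_singleton_iff, _root_.true_and]
  rw [h3, Set.ncard_coe_finset, Finset.card_erase_of_mem (Finset.mem_univ _), Finset.card_univ, Fintype.card_fin]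
  rfl

set_option maxHeartbeats 2000000 in
include h in
/-- **Existence of the pairs and the 4-blocks.** -/
theorem exists_fours : ∃ μ ν, Fours M μ ν := by
  classical
  have hne : ((1 : Fin (2 ^ m + 1)) : Fin (2 ^ m + 1)) ≠ 0 := by
    have h2 : 2 ≤ 2 ^ m := by
      calc 2 = 2 ^ 1 := by norm_num
        _ ≤ 2 ^ m := Nat.pow_le_pow_right (by norm_num) h.hm1
    intro h0
    have h1 := congrArg Fin.val h0
    rw [Fin.val_zero, Fin.val_one', Nat.mod_eq_of_lt (by omega)] at h1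
    exact one_ne_zero h1
  set x₀ : Pt k m := (⟨0, h.hk⟩, 1) with hx₀
  have hx : x₀.2 ≠ 0 := hne
  have h4 : 4 ∣ (stab h x₀).relIndex (stabB h x₀) := by
    rw [relIndex_stab h hx]
    exact (Nat.pow_dvd_pow_iff_le_right (x := 2) (by norm_num)).2 h.hm
  have hT1 : stabB h x₀ ≤ (S : Subgroup G) := fun s hs => hs.1
  obtain ⟨K, L, hStK, hKL, hLT, hK2, hL2⟩ := exists_chain (S.isPGroup'.to_le hT1) (stab_le h x₀) h4
  have hLS : L ≤ (S : Subgroup G) := hLT.trans hT1
  have hKS : K ≤ (S : Subgroup G) := hKL.trans hLS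
  have hStS : stab h x₀ ≤ (S : Subgroup G) := hStK.trans hKS
  obtain ⟨t, htK, htSt⟩ : ∃ t ∈ K, t ∉ stab h x₀ := by
    by_contra h0
    push Not at h0
    have : (stab h x₀).relIndex K = 1 := relIndex_eq_one.2 h0
    omega
  obtain ⟨u, huL, huK⟩ : ∃ u ∈ L, u ∉ K := by
    by_contra h0
    push Not at h0
    have : K.relIndex L = 1 := relIndex_eq_one.2 h0
    omega
  have htS := hKS htK
  have huS := hLS huL
  -- products
  have hmul : ∀ a ∈ (S : Subgroup G), ∀ b ∈ (S : Subgroup G), ∀ p, pp M (a * b) p = pp M a (pp M b p) := by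
    intro a ha b hb p
    rw [h.mul (h.SP ha) (h.SP hb), Equiv.Perm.mul_apply]
  have heq : ∀ a ∈ (S : Subgroup G), ∀ b ∈ (S : Subgroup G), (pp M a x₀ = pp M b x₀ ↔ a⁻¹ * b ∈ stab h x₀) := by
    intro a ha b hb
    rw [mem_stab, hmul _ (inv_mem ha) _ hb, h.inv (h.SP ha), Equiv.Perm.inv_eq_iff_eq]
    exact ⟨fun h1 => ⟨mul_mem (inv_mem ha) hb, h1.symm⟩, fun h1 => h1.2.symm⟩
  have hK : ∀ a ∈ K, ∀ b ∈ K, a ∉ stab h x₀ → b ∉ stab h x₀ → pp M a x₀ = pp M b x₀ := by
    intro a ha b hb h1 h2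
    rw [heq a (hKS ha) b (hKS hb), Half.mul_mem_of_index_two hK2 (inv_mem ha) hb, inv_mem_iff]
    exact iff_of_false h1 h2
  have hnz : ∀ s ∈ (S : Subgroup G), (pp M s x₀).2 ≠ 0 := fun s hs h0 => hx ((h.snd hs).1 h0)
  have hbase : ∀ p : Pt k m, p.2 ≠ 0 → ∃ s ∈ (S : Subgroup G), pp M s x₀ = p := fun p hp => h.trans hx hp
  choose! c hcS hc using hbase
  -- `μ`
  obtain ⟨μ, hμd⟩ : ∃ μ : Pt k m → Pt k m, ∀ p, μ p = if p.2 = 0 then p else pp M (c p * t) x₀ := ⟨_, fun _ => rfl⟩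
  have hμ0 : ∀ p, p.2 = 0 → μ p = p := fun p hp => by rw [hμd, if_pos hp]
  have hμ1 : ∀ p, p.2 ≠ 0 → μ p = pp M (c p * t) x₀ := fun p hp => by rw [hμd, if_neg hp]
  have hμ : ∀ s ∈ (S : Subgroup G), μ (pp M s x₀) = pp M (s * t) x₀ := by
    intro s hs
    have h1 : μ (pp M s x₀) = pp M (c (pp M s x₀) * t) x₀ := hμ1 _ (hnz s hs)
    rw [h1]
    have h2 := hc _ (hnz s hs)
    have h3 := hcS _ (hnz s hs)
    set s' := c (pp M s x₀) with hs'
    rw [heq s' h3 s hs] at h2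
    rw [hmul s' h3 t htS, hmul s hs t htS]
    have h4 : pp M s (pp M t x₀) = pp M s' (pp M (s'⁻¹ * s * t) x₀) := by
      rw [← hmul s hs t htS, ← hmul s' h3 _ (mul_mem (mul_mem (inv_mem h3) hs) htS)]
      congr 2
      group
    rw [h4]
    refine congrArg (pp M s') ?_
    refine hK t htK _ (mul_mem (hStK h2) htK) htSt ?_
    intro h5
    exact htSt ((Subgroup.mul_mem_cancel_left _ h2).1 h5)
  have htt : t * t ∈ stab h x₀ := (Half.mul_mem_of_index_two hK2 htK htK).2 Iff.rfl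
  have hfix : ∀ s ∈ (S : Subgroup G), ∀ a ∈ stab h x₀, pp M (s * a) x₀ = pp M s x₀ := by
    intro s hs a ha
    rw [hmul s hs a (hStS ha), ha.2]
  have hμμ : ∀ p, μ (μ p) = p := by
    intro p
    by_cases hp : p.2 = 0
    · rw [hμ0 p hp, hμ0 p hp]
    · conv_lhs => rw [← hc p hp]
      rw [hμ _ (hcS p hp), hμ _ (mul_mem (hcS p hp) htS), mul_assoc, hfix _ (hcS p hp) _ htt, hc p hp]
  have hμne : ∀ p, p.2 ≠ 0 → μ p ≠ p := by
    intro p hp h0
    have h1 : μ p = pp M (c p * t) x₀ := hμ1 p hp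
    rw [h1] at h0
    conv_rhs at h0 => rw [← hc p hp]
    rw [eq_comm, heq _ (hcS p hp) _ (mul_mem (hcS p hp) htS), inv_mul_cancel_left] at h0
    exact htSt h0
  have hμeqv : ∀ s ∈ (S : Subgroup G), ∀ p, pp M s (μ p) = μ (pp M s p) := by
    intro s hs p
    by_cases hp : p.2 = 0
    · rw [hμ0 p hp, hμ0 _ ((h.snd hs).2 hp)]
    · have h1 : μ p = pp M (c p * t) x₀ := hμ1 p hp
      rw [h1, ← hmul s hs _ (mul_mem (hcS p hp) htS), ← mul_assoc, ← hμ _ (mul_mem hs (hcS p hp)),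
        hmul s hs _ (hcS p hp), hc p hp]
  have hμfst : ∀ p, (μ p).1 = p.1 := by
    intro p
    by_cases hp : p.2 = 0
    · rw [hμ0 p hp]
    · have h1 : μ p = pp M (c p * t) x₀ := hμ1 p hp
      rw [h1, hmul _ (hcS p hp) _ htS]
      conv_rhs => rw [← hc p hp]
      exact h.fst (h.SP (hcS p hp)) (hLT (hKL htK)).2
  have hμnz : ∀ p, p.2 ≠ 0 → (μ p).2 ≠ 0 := by
    intro p hp h0
    have h1 := hμ0 _ h0
    rw [hμμ] at h1
    exact hμne p hp h1.symm
  -- the 4-blocks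
  obtain ⟨β, hβd⟩ : ∃ β : Pt k m → Pt k m → Prop, ∀ p q, β p q ↔ ∃ s ∈ (S : Subgroup G), ∃ l ∈ L,
      pp M s x₀ = p ∧ pp M (s * l) x₀ = q := ⟨_, fun _ _ => Iff.rfl⟩
  have hβs : ∀ s ∈ (S : Subgroup G), ∀ q, β (pp M s x₀) q ↔ ∃ l ∈ L, pp M (s * l) x₀ = q := by
    intro s hs q
    rw [hβd]
    constructor
    · rintro ⟨s', hs', l, hl, h1, h2⟩
      have h3 := (heq s hs s' hs').1 h1.symm
      refine ⟨s⁻¹ * s' * l, mul_mem (hKL (hStK h3)) hl, ?_⟩
      rw [← h2]
      refine congrArg (fun z => pp M z _) ?_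
      group
    · rintro ⟨l, hl, h1⟩
      exact ⟨s, hs, l, hl, rfl, h1⟩
  have hβsymm : ∀ p q, β p q → β q p := by
    intro p q hpq
    obtain ⟨s, hs, l, hl, rfl, rfl⟩ := (hβd p q).1 hpq
    exact (hβd _ _).2 ⟨s * l, mul_mem hs (hLS hl), l⁻¹, inv_mem hl, rfl, by rw [mul_inv_cancel_right]⟩
  have hβtrans : ∀ p q r, β p q → β q r → β p r := by
    intro p q r hpq h1
    obtain ⟨s, hs, l, hl, rfl, rfl⟩ := (hβd p q).1 hpq
    obtain ⟨l', hl', h2⟩ := (hβs _ (mul_mem hs (hLS hl)) r).1 h1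
    exact (hβd _ _).2 ⟨s, hs, l * l', mul_mem hl hl', rfl, by rw [← mul_assoc, h2]⟩
  have hβeqv : ∀ s ∈ (S : Subgroup G), ∀ p q, β p q → β (pp M s p) (pp M s q) := by
    intro s hs p q hpq
    obtain ⟨s', hs', l, hl, rfl, rfl⟩ := (hβd p q).1 hpq
    refine (hβd _ _).2 ⟨s * s', mul_mem hs hs', l, hl, hmul s hs s' hs' _, ?_⟩
    rw [mul_assoc, hmul s hs _ (mul_mem hs' (hLS hl))]
  have hβrefl : ∀ p, p.2 ≠ 0 → β p p := fun p hp => (hβd _ _).2 ⟨c p, hcS p hp, 1, one_mem L, hc p hp, by rw [mul_one, hc p hp]⟩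
  have hβnz : ∀ p q, β p q → p.2 ≠ 0 ∧ q.2 ≠ 0 := by
    intro p q hpq
    obtain ⟨s, hs, l, hl, rfl, rfl⟩ := (hβd p q).1 hpq
    exact ⟨hnz s hs, hnz _ (mul_mem hs (hLS hl))⟩
  have hβfst : ∀ p q, β p q → q.1 = p.1 := by
    intro p q hpq
    obtain ⟨s, hs, l, hl, rfl, rfl⟩ := (hβd p q).1 hpq
    rw [hmul s hs l (hLS hl)]
    exact h.fst (h.SP hs) (hLT hl).2
  -- the four points
  have hcls : ∀ s ∈ (S : Subgroup G), ∀ q, β (pp M s x₀) q ↔ q = pp M s x₀ ∨ q = μ (pp M s x₀) ∨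
      q = pp M (s * u) x₀ ∨ q = μ (pp M (s * u) x₀) := by
    intro s hs q
    rw [hβs s hs q, hμ s hs, hμ _ (mul_mem hs huS)]
    constructor
    · rintro ⟨l, hl, rfl⟩
      have hin : ∀ a ∈ K, ∀ s' ∈ (S : Subgroup G), pp M (s' * a) x₀ = pp M s' x₀ ∨ pp M (s' * a) x₀ = pp M (s' * t) x₀ := by
        intro a ha s' hs'
        by_cases h1 : a ∈ stab h x₀
        · left; exact hfix s' hs' a h1
        · right
          rw [hmul s' hs' a (hKS ha), hmul s' hs' t htS, hK a ha t htK h1 htSt]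
      by_cases h1 : l ∈ K
      · rcases hin l h1 s hs with h2 | h2
        · left; exact h2
        · right; left; exact h2
      · have h2 : u⁻¹ * l ∈ K := by
          rw [Half.mul_mem_of_index_two hL2 (inv_mem huL) hl, inv_mem_iff]
          exact iff_of_false huK h1
        have h3 := hin _ h2 (s * u) (mul_mem hs huS)
        have h4 : s * u * (u⁻¹ * l) = s * l := by group
        rw [h4] at h3
        rcases h3 with h3 | h3
        · right; right; left; exact h3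
        · right; right; right; exact h3
    · rintro (rfl | rfl | rfl | rfl)
      · exact ⟨1, one_mem L, by rw [mul_one]⟩
      · exact ⟨t, hKL htK, rfl⟩
      · exact ⟨u, huL, rfl⟩
      · exact ⟨u * t, mul_mem huL (hKL htK), by rw [mul_assoc]⟩
  have hne1 : ∀ s ∈ (S : Subgroup G), pp M (s * u) x₀ ≠ pp M s x₀ := by
    intro s hs h0
    rw [eq_comm, heq s hs _ (mul_mem hs huS), inv_mul_cancel_left] at h0
    exact huK (hStK h0)
  have hne2 : ∀ s ∈ (S : Subgroup G), pp M (s * u) x₀ ≠ μ (pp M s x₀) := by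
    intro s hs h0
    rw [hμ s hs, eq_comm, heq _ (mul_mem hs htS) _ (mul_mem hs huS)] at h0
    have h1 : t * ((s * t)⁻¹ * (s * u)) ∈ K := mul_mem htK (hStK h0)
    have h2 : t * ((s * t)⁻¹ * (s * u)) = u := by group
    rw [h2] at h1
    exact huK h1
  -- representatives
  have : Nonempty (Pt k m) := ⟨x₀⟩
  obtain ⟨ρ, hρd⟩ : ∃ ρ : Pt k m → Pt k m, ∀ p, ρ p = Classical.epsilon (fun q => β p q) := ⟨_, fun _ => rfl⟩
  have hρ : ∀ p, p.2 ≠ 0 → β p (ρ p) := fun p hp => by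
    rw [hρd]
    exact Classical.epsilon_spec (p := fun q => β p q) ⟨p, hβrefl p hp⟩
  have hρeq : ∀ p q, β p q → ρ p = ρ q := by
    intro p q hpq
    have h1 : (fun r => β p r) = fun r => β q r := by
      funext r
      exact propext ⟨fun h2 => hβtrans _ _ _ (hβsymm _ _ hpq) h2, fun h2 => hβtrans _ _ _ hpq h2⟩
    rw [hρd, hρd, h1]
  have hρnz : ∀ p, p.2 ≠ 0 → (ρ p).2 ≠ 0 := fun p hp => (hβnz _ _ (hρ p hp)).2
  obtain ⟨r', hrd⟩ : ∃ r' : Pt k m → Pt k m, ∀ p, r' p = pp M (c (ρ p) * u) x₀ := ⟨_, fun _ => rfl⟩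
  have hr' : ∀ p q, β p q → r' p = r' q := by
    intro p q hpq
    rw [hrd, hrd, hρeq p q hpq]
  have hfour : ∀ p, p.2 ≠ 0 → ∀ q, β p q ↔ q = ρ p ∨ q = μ (ρ p) ∨ q = r' p ∨ q = μ (r' p) := by
    intro p hp q
    have h1 := hcls _ (hcS _ (hρnz p hp)) q
    rw [hc _ (hρnz p hp), ← hrd] at h1
    rw [← h1]
    exact ⟨fun h2 => hβtrans _ _ _ (hβsymm _ _ (hρ p hp)) h2, fun h2 => hβtrans _ _ _ (hρ p hp) h2⟩
  have hd1 : ∀ p, p.2 ≠ 0 → r' p ≠ ρ p := by
    intro p hp
    have h1 := hne1 _ (hcS _ (hρnz p hp))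
    rwa [hc _ (hρnz p hp), ← hrd] at h1
  have hd2 : ∀ p, p.2 ≠ 0 → r' p ≠ μ (ρ p) := by
    intro p hp
    have h1 := hne2 _ (hcS _ (hρnz p hp))
    rwa [hc _ (hρnz p hp), ← hrd] at h1
  have hr'nz : ∀ p, p.2 ≠ 0 → (r' p).2 ≠ 0 := fun p hp => by
    rw [hrd]
    exact hnz _ (mul_mem (hcS _ (hρnz p hp)) huS)
  have hβr : ∀ p, p.2 ≠ 0 → β p (r' p) := fun p hp => (hfour p hp _).2 (Or.inr (Or.inr (Or.inl rfl)))
  have hβμ : ∀ p, p.2 ≠ 0 → β p (μ p) := by
    intro p hp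
    have h1 := (hcls _ (hcS p hp) (μ (pp M (c p) x₀))).2 (Or.inr (Or.inl rfl))
    rwa [hc p hp] at h1
  -- `ν`
  obtain ⟨ν, hνd⟩ : ∃ ν : Pt k m → Pt k m, ∀ p, ν p = if p.2 = 0 then p else if p = ρ p then r' p else
    if p = μ (ρ p) then μ (r' p) else if p = r' p then ρ p else μ (ρ p) := ⟨_, fun _ => rfl⟩
  have hν0 : ∀ p, p.2 = 0 → ν p = p := fun p hp => by rw [hνd, if_pos hp]
  have hμinj : ∀ p q, μ p = μ q → p = q := fun p q hpq => by rw [← hμμ p, hpq, hμμ]
  have hν1 : ∀ p, p.2 ≠ 0 → p = ρ p → ν p = r' p := fun p hp h1 => by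
    rw [hνd, if_neg hp, if_pos h1]
  have hν2 : ∀ p, p.2 ≠ 0 → p = μ (ρ p) → ν p = μ (r' p) := fun p hp h1 => by
    rw [hνd, if_neg hp, if_neg fun h2 => hμne _ (hρnz p hp) (h1.symm.trans h2), if_pos h1]
  have hν3 : ∀ p, p.2 ≠ 0 → p = r' p → ν p = ρ p := fun p hp h1 => by
    rw [hνd, if_neg hp, if_neg fun h2 => hd1 p hp (h1.symm.trans h2), if_neg fun h2 => hd2 p hp (h1.symm.trans h2),
      if_pos h1]
  have hν4 : ∀ p, p.2 ≠ 0 → p = μ (r' p) → ν p = μ (ρ p) := fun p hp h1 => by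
    rw [hνd, if_neg hp, if_neg, if_neg, if_neg]
    · intro h2
      exact hμne _ (hr'nz p hp) (h1.symm.trans h2)
    · intro h2
      exact hd1 p hp (hμinj _ _ (h1.symm.trans h2))
    · intro h2
      apply hd2 p hp
      rw [← h2, ← hμμ (r' p), ← h1]
  -- the value of `ν`, in general
  have hνβ : ∀ p, p.2 ≠ 0 → β p (ν p) ∧ ν p ≠ p ∧ ν p ≠ μ p ∧ ν (ν p) = p ∧ μ (ν p) = ν (μ p) := by
    intro p hp
    have hb := (hfour p hp p).1 (hβrefl p hp)
    have hμp := hμnz p hp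
    have e1 : ρ (μ p) = ρ p := (hρeq _ _ (hβμ p hp)).symm
    have e2 : r' (μ p) = r' p := (hr' _ _ (hβμ p hp)).symm
    have e3 : ρ (r' p) = ρ p := (hρeq _ _ (hβr p hp)).symm
    have e4 : r' (r' p) = r' p := (hr' _ _ (hβr p hp)).symm
    have hb2 : β p (μ (r' p)) := (hfour p hp _).2 (Or.inr (Or.inr (Or.inr rfl)))
    have e5 : ρ (μ (r' p)) = ρ p := (hρeq _ _ hb2).symm
    have e6 : r' (μ (r' p)) = r' p := (hr' _ _ hb2).symm
    have e7 : ρ (ρ p) = ρ p := (hρeq _ _ (hρ p hp)).symm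
    have e8 : r' (ρ p) = r' p := (hr' _ _ (hρ p hp)).symm
    have hb3 : β p (μ (ρ p)) := (hfour p hp _).2 (Or.inr (Or.inl rfl))
    have e9 : ρ (μ (ρ p)) = ρ p := (hρeq _ _ hb3).symm
    have e10 : r' (μ (ρ p)) = r' p := (hr' _ _ hb3).symm
    have n1 := hρnz p hp
    have n2 := hr'nz p hp
    have n3 := hμnz _ n1
    have n4 := hμnz _ n2
    have v1 : ν (ρ p) = r' p := by rw [hν1 _ n1 e7.symm, e8]
    have v2 : ν (μ (ρ p)) = μ (r' p) := by rw [hν2 _ n3 (by rw [e9]), e10]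
    have v3 : ν (r' p) = ρ p := by rw [hν3 _ n2 e4.symm, e3]
    have v4 : ν (μ (r' p)) = μ (ρ p) := by rw [hν4 _ n4 (by rw [e6]), e5]
    have key : ∀ x, (x = ρ p ∨ x = μ (ρ p) ∨ x = r' p ∨ x = μ (r' p)) →
        β p (ν x) ∧ ν x ≠ x ∧ ν x ≠ μ x ∧ ν (ν x) = x ∧ μ (ν x) = ν (μ x) := by
      intro x hx
      rcases hx with hx | hx | hx | hx
      · subst hx
        refine ⟨?_, ?_, ?_, ?_, ?_⟩
        · rw [v1]; exact hβr p hp
        · rw [v1]; exact hd1 p hp
        · rw [v1]; exact hd2 p hp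
        · rw [v1, v3]
        · rw [v1, v2]
      · subst hx
        refine ⟨?_, ?_, ?_, ?_, ?_⟩
        · rw [v2]; exact hb2
        · rw [v2]
          intro h2
          exact hd1 p hp (hμinj _ _ h2)
        · rw [v2, hμμ]
          intro h2
          apply hd2 p hp
          rw [← h2, hμμ]
        · rw [v2, v4]
        · rw [v2, hμμ, hμμ, v1]
      · subst hx
        refine ⟨?_, ?_, ?_, ?_, ?_⟩
        · rw [v3]; exact hρ p hp
        · rw [v3]; exact (hd1 p hp).symm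
        · rw [v3]
          intro h2
          apply hd2 p hp
          rw [h2, hμμ]
        · rw [v3, v1]
        · rw [v3, v4]
      · subst hx
        refine ⟨?_, ?_, ?_, ?_, ?_⟩
        · rw [v4]; exact hb3
        · rw [v4]
          intro h2
          exact hd1 p hp (hμinj _ _ h2).symm
        · rw [v4, hμμ]; exact (hd2 p hp).symm
        · rw [v4, v2]
        · rw [v4, hμμ, hμμ, v3]
    exact key p hb
  have hν2' : ∀ p, ν (ν p) = p := by
    intro p
    by_cases hp : p.2 = 0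
    · rw [hν0 p hp, hν0 p hp]
    · exact (hνβ p hp).2.2.2.1
  refine ⟨⟨μ, μ, hμμ, hμμ⟩, ⟨ν, ν, hν2', hν2'⟩, ?_⟩
  exact {
    mfst := hμfst
    nfst := by
      intro p
      by_cases hp : p.2 = 0
      · exact congrArg Prod.fst (hν0 p hp)
      · exact hβfst _ _ (hνβ p hp).1
    mzero := hμ0
    nzero := hν0
    mne := hμne
    nne := fun p hp => (hνβ p hp).2.1
    nmu := fun p hp => (hνβ p hp).2.2.1
    msq := hμμ
    nsq := hν2'
    comm := by
      intro p
      by_cases hp : p.2 = 0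
      · change μ (ν p) = ν (μ p)
        rw [hν0 p hp, hμ0 p hp, hν0 p hp]
      · exact (hνβ p hp).2.2.2.2
    meqv := hμeqv
    neqv := by
      intro s hs p
      change pp M s (ν p) = ν (pp M s p) ∨ pp M s (ν p) = μ (ν (pp M s p))
      by_cases hp : p.2 = 0
      · left
        rw [hν0 p hp, hν0 _ ((h.snd hs).2 hp)]
      · obtain ⟨b1, b2, b3, -, -⟩ := hνβ p hp
        have c1 := hβeqv s hs _ _ b1
        have hq : (pp M s p).2 ≠ 0 := fun h0 => hp ((h.snd hs).1 h0)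
        obtain ⟨d1, d2, d3, d4, d5⟩ := hνβ _ hq
        have hinj := (pp M s).injective
        have f1 : pp M s (ν p) ≠ pp M s p := fun h0 => b2 (hinj h0)
        have f2 : pp M s (ν p) ≠ μ (pp M s p) := by
          rw [← hμeqv s hs]
          exact fun h0 => b3 (hinj h0)
        -- the class of `q = pp M s p`
        have hcq := hcls _ (hcS _ hq) (pp M s (ν p))
        rw [hc _ hq] at hcq
        have c2 := hcq.1 c1
        have hcq' := hcls _ (hcS _ hq) (ν (pp M s p))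
        rw [hc _ hq] at hcq'
        have c3 := hcq'.1 d1
        rcases c2 with c2 | c2 | c2 | c2
        · exact absurd c2 f1
        · exact absurd c2 f2
        · rcases c3 with c3 | c3 | c3 | c3
          · exact absurd c3 d2
          · exact absurd c3 d3
          · left; rw [c2, c3]
          · right; rw [c2, c3, hμμ]
        · rcases c3 with c3 | c3 | c3 | c3
          · exact absurd c3 d2
          · exact absurd c3 d3
          · right; rw [c2, c3]
          · left; rw [c2, c3] }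

end exist

/-! ### The groups of permutations preserving the pairs, resp. the 4-blocks -/

namespace Fours

section grp

variable {S : Subgroup G} {M : SymK S P V ⊥ k m} {μ ν : Equiv.Perm (Pt k m)} (F : Fours M μ ν)

/-- the permutations preserving all pairs -/
def FA (F : Fours M μ ν) : Subgroup (Equiv.Perm (Pt k m)) where
  carrier := {π | ∀ p, π p = p ∨ π p = μ p}
  mul_mem' := by
    intro π ρ h1 h2 p
    rw [Equiv.Perm.mul_apply]
    rcases h2 p with h3 | h3
    · rw [h3]; exact h1 p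
    · rw [h3]
      rcases h1 (μ p) with h4 | h4
      · right; exact h4
      · left; rw [h4, F.msq]
  one_mem' := fun p => Or.inl rfl
  inv_mem' := by
    intro π h1 p
    have h3 : π (π⁻¹ p) = p := π.apply_symm_apply p
    rcases h1 (π⁻¹ p) with h2 | h2
    · left
      rw [← h2, h3]
    · right
      rw [h3] at h2
      rw [h2, F.msq, ← h2]

/-- `q` lies in the 4-block of `p` -/
def Cl (μ ν : Equiv.Perm (Pt k m)) (p q : Pt k m) : Prop := q = p ∨ q = μ p ∨ q = ν p ∨ q = μ (ν p)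

include F in
theorem Cl.symm {p q : Pt k m} (h : Cl μ ν p q) : Cl μ ν q p := by
  rcases h with rfl | rfl | rfl | rfl
  · exact Or.inl rfl
  · right; left; rw [F.msq]
  · right; right; left; rw [F.nsq]
  · right; right; right; rw [← F.comm, F.nsq, F.msq]

include F in
theorem Cl.trans {p q r : Pt k m} (h : Cl μ ν p q) (h' : Cl μ ν q r) : Cl μ ν p r := by
  rcases h with rfl | rfl | rfl | rfl
  · exact h'
  · rcases h' with rfl | rfl | rfl | rfl
    · exact Or.inr (Or.inl rfl)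
    · left; rw [F.msq]
    · right; right; right; rw [F.comm]
    · right; right; left; rw [← F.comm, F.msq]
  · rcases h' with rfl | rfl | rfl | rfl
    · exact Or.inr (Or.inr (Or.inl rfl))
    · exact Or.inr (Or.inr (Or.inr rfl))
    · left; rw [F.nsq]
    · right; left; rw [F.nsq]
  · rcases h' with rfl | rfl | rfl | rfl
    · exact Or.inr (Or.inr (Or.inr rfl))
    · right; right; left; rw [F.msq]
    · right; left; rw [← F.comm, F.nsq]
    · left; rw [← F.comm, F.nsq, F.msq]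

/-- the permutations preserving the 4-blocks and permuting the pairs -/
def FD (F : Fours M μ ν) : Subgroup (Equiv.Perm (Pt k m)) where
  carrier := {π | (∀ p, Cl μ ν p (π p)) ∧ ∀ p, π (μ p) = μ (π p)}
  mul_mem' := by
    rintro π ρ ⟨h1, h1'⟩ ⟨h2, h2'⟩
    refine ⟨fun p => ?_, fun p => ?_⟩
    · exact Cl.trans F (h2 p) (h1 (ρ p))
    · rw [Equiv.Perm.mul_apply, Equiv.Perm.mul_apply, h2', h1']
  one_mem' := ⟨fun p => Or.inl rfl, fun p => rfl⟩
  inv_mem' := by
    rintro π ⟨h1, h1'⟩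
    refine ⟨fun p => ?_, fun p => ?_⟩
    · have h3 : π (π⁻¹ p) = p := π.apply_symm_apply p
      have h2 := h1 (π⁻¹ p)
      rw [h3] at h2
      exact h2.symm F
    · rw [Equiv.Perm.inv_eq_iff_eq, h1', show π (π⁻¹ p) = p from π.apply_symm_apply p]

theorem FA_sq {π : Equiv.Perm (Pt k m)} (h : π ∈ F.FA) : π * π = 1 := by
  ext1 p
  rw [Equiv.Perm.mul_apply]
  change π (π p) = p
  rcases h p with h1 | h1
  · rw [h1, h1]
  · rw [h1]
    rcases h (μ p) with h2 | h2
    · have h3 := π.injective (h1.trans h2.symm)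
      rw [h2, ← h3]
    · rw [h2, F.msq]

theorem FA_comm_mu {π : Equiv.Perm (Pt k m)} (h : π ∈ F.FA) (p : Pt k m) : π (μ p) = μ (π p) := by
  have h0 : π (π p) = p := by
    have := F.FA_sq h
    rw [← Equiv.Perm.mul_apply, this]
    rfl
  rcases h p with h1 | h1
  · rcases h (μ p) with h2 | h2
    · rw [h2, h1]
    · rw [F.msq] at h2
      have h3 := π.injective (h2.trans h1.symm)
      rw [h1, h3, h1]
  · rw [h1, F.msq]
    rw [h1] at h0
    exact h0

theorem FA_le_FD : F.FA ≤ F.FD := fun π h => ⟨fun p => by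
  rcases h p with h1 | h1
  · exact Or.inl h1
  · exact Or.inr (Or.inl h1), F.FA_comm_mu h⟩

theorem FA_isPGroup : IsPGroup 2 F.FA := fun π => ⟨1, by
  apply Subtype.ext
  change (π : Equiv.Perm (Pt k m)) ^ 2 ^ 1 = 1
  rw [pow_one, pow_two]
  exact F.FA_sq π.2⟩

/-- `π ∈ FD` which moves a pair -/
theorem FD_mov {π : Equiv.Perm (Pt k m)} (h : π ∈ F.FD) {p : Pt k m} (hp : p.2 ≠ 0)
    (h1 : ¬ (π p = p ∨ π p = μ p)) : (π p = ν p ∨ π p = μ (ν p)) ∧ (π (ν p) = p ∨ π (ν p) = μ p) := by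
  have h2 : π p = ν p ∨ π p = μ (ν p) := by
    rcases h.1 p with h3 | h3 | h3 | h3
    · exact absurd (Or.inl h3) h1
    · exact absurd (Or.inr h3) h1
    · exact Or.inl h3
    · exact Or.inr h3
  refine ⟨h2, ?_⟩
  have hn1 := F.nne p hp
  have hn2 := F.nmu p hp
  have h4 : Cl μ ν p (π (ν p)) := Cl.trans F (Or.inr (Or.inr (Or.inl rfl))) (h.1 (ν p))
  rcases h4 with h4 | h4 | h4 | h4
  · exact Or.inl h4
  · exact Or.inr h4
  · exfalso
    rcases h2 with h3 | h3
    · exact hn1 (π.injective (h4.trans h3.symm))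
    · have h5 : π (μ p) = π (ν p) := by rw [h.2, h3, F.msq, h4]
      exact hn2 (π.injective h5).symm
  · exfalso
    rcases h2 with h3 | h3
    · have h5 : π (μ p) = π (ν p) := by rw [h.2, h3, h4]
      exact hn2 (π.injective h5).symm
    · exact hn1 (π.injective (h4.trans h3.symm))

theorem FD_sq {π : Equiv.Perm (Pt k m)} (h : π ∈ F.FD) : π * π ∈ F.FA := by
  intro p
  rw [Equiv.Perm.mul_apply]
  by_cases h1 : π p = p ∨ π p = μ p
  · rcases h1 with h1 | h1
    · left; rw [h1, h1]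
    · left; rw [h1, h.2, h1, F.msq]
  · by_cases hp : p.2 = 0
    · exfalso
      apply h1
      left
      rcases h.1 p with h3 | h3 | h3 | h3
      · exact h3
      · rw [h3, F.mzero p hp]
      · rw [h3, F.nzero p hp]
      · rw [h3, F.nzero p hp, F.mzero p hp]
    · obtain ⟨h2, h3⟩ := F.FD_mov h hp h1
      rcases h2 with h2 | h2
      · rw [h2]; exact h3
      · rw [h2, h.2]
        rcases h3 with h3 | h3
        · right; rw [h3]
        · left; rw [h3, F.msq]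

theorem FD_isPGroup : IsPGroup 2 F.FD := fun π => ⟨2, by
  apply Subtype.ext
  change (π : Equiv.Perm (Pt k m)) ^ 2 ^ 2 = 1
  have h1 := F.FA_sq (F.FD_sq π.2)
  rw [show 2 ^ 2 = 2 + 2 by norm_num, pow_add, pow_two]
  exact h1⟩

theorem FA_fst {π : Equiv.Perm (Pt k m)} (h : π ∈ F.FA) (p : Pt k m) : (π p).1 = p.1 := by
  rcases h p with h1 | h1
  · rw [h1]
  · rw [h1, F.mfst]

theorem FD_fst {π : Equiv.Perm (Pt k m)} (h : π ∈ F.FD) (p : Pt k m) : (π p).1 = p.1 := by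
  rcases h.1 p with h1 | h1 | h1 | h1
  · rw [h1]
  · rw [h1, F.mfst]
  · rw [h1, F.nfst]
  · rw [h1, F.mfst, F.nfst]

end grp

section sylow

variable {S : Sylow 2 G} {M : SymK (S : Subgroup G) P V ⊥ k m} {μ ν : Equiv.Perm (Pt k m)}
  (h : Sit S P V M) (F : Fours M μ ν)

include F

theorem conj_FA {s : G} (hs : s ∈ (S : Subgroup G)) {π : Equiv.Perm (Pt k m)} (hπ : π ∈ F.FA) :
    pp M s * π * (pp M s)⁻¹ ∈ F.FA := by
  intro p
  rw [Equiv.Perm.mul_apply, Equiv.Perm.mul_apply]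
  have h3 : pp M s ((pp M s)⁻¹ p) = p := (pp M s).apply_symm_apply p
  rcases hπ ((pp M s)⁻¹ p) with h1 | h1
  · left; rw [h1, h3]
  · right; rw [h1, F.meqv s hs, h3]

theorem cl_eqv {s : G} (hs : s ∈ (S : Subgroup G)) {p q : Pt k m} (hpq : Cl μ ν p q) :
    Cl μ ν (pp M s p) (pp M s q) := by
  rcases hpq with rfl | rfl | rfl | rfl
  · exact Or.inl rfl
  · right; left; exact F.meqv s hs _
  · rcases F.neqv s hs p with h1 | h1
    · right; right; left; exact h1
    · right; right; right; exact h1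
  · rw [F.meqv s hs]
    rcases F.neqv s hs p with h1 | h1
    · right; right; right; rw [h1]
    · right; right; left; rw [h1, F.msq]

theorem conj_FD {s : G} (hs : s ∈ (S : Subgroup G)) {π : Equiv.Perm (Pt k m)} (hπ : π ∈ F.FD) :
    pp M s * π * (pp M s)⁻¹ ∈ F.FD := by
  have h3 : ∀ p, pp M s ((pp M s)⁻¹ p) = p := fun p => (pp M s).apply_symm_apply p
  refine ⟨fun p => ?_, fun p => ?_⟩
  · rw [Equiv.Perm.mul_apply, Equiv.Perm.mul_apply]
    have h1 := cl_eqv F hs (hπ.1 ((pp M s)⁻¹ p))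
    rwa [h3] at h1
  · have h4 : (pp M s)⁻¹ (μ p) = μ ((pp M s)⁻¹ p) := by
      rw [Equiv.Perm.inv_eq_iff_eq, F.meqv s hs, h3]
    rw [Equiv.Perm.mul_apply, Equiv.Perm.mul_apply, h4, hπ.2, F.meqv s hs]
    rfl

/-- the elements of `S` which preserve all pairs -/
def A (h : Sit S P V M) (F : Fours M μ ν) : Subgroup G where
  carrier := {s | s ∈ (S : Subgroup G) ∧ pp M s ∈ F.FA}
  mul_mem' := by
    rintro a b ⟨ha, h1⟩ ⟨hb, h2⟩
    exact ⟨mul_mem ha hb, by rw [h.mul (h.SP ha) (h.SP hb)]; exact mul_mem h1 h2⟩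
  one_mem' := ⟨one_mem _, by rw [h.one]; exact one_mem _⟩
  inv_mem' := by
    rintro a ⟨ha, h1⟩
    exact ⟨inv_mem ha, by rw [h.inv (h.SP ha)]; exact inv_mem h1⟩

/-- the elements of `S` which preserve all 4-blocks -/
def D (h : Sit S P V M) (F : Fours M μ ν) : Subgroup G where
  carrier := {s | s ∈ (S : Subgroup G) ∧ pp M s ∈ F.FD}
  mul_mem' := by
    rintro a b ⟨ha, h1⟩ ⟨hb, h2⟩
    exact ⟨mul_mem ha hb, by rw [h.mul (h.SP ha) (h.SP hb)]; exact mul_mem h1 h2⟩
  one_mem' := ⟨one_mem _, by rw [h.one]; exact one_mem _⟩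
  inv_mem' := by
    rintro a ⟨ha, h1⟩
    exact ⟨inv_mem ha, by rw [h.inv (h.SP ha)]; exact inv_mem h1⟩

omit F in
theorem mem_A {h : Sit S P V M} {F : Fours M μ ν} {s : G} :
    s ∈ A h F ↔ s ∈ (S : Subgroup G) ∧ pp M s ∈ F.FA := Iff.rfl

omit F in
theorem mem_D {h : Sit S P V M} {F : Fours M μ ν} {s : G} :
    s ∈ D h F ↔ s ∈ (S : Subgroup G) ∧ pp M s ∈ F.FD := Iff.rfl

omit F in
theorem A_le (h : Sit S P V M) (F : Fours M μ ν) : A h F ≤ (S : Subgroup G) := fun _ hs => hs.1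

omit F in
theorem D_le (h : Sit S P V M) (F : Fours M μ ν) : D h F ≤ (S : Subgroup G) := fun _ hs => hs.1

omit F in
theorem A_le_D (h : Sit S P V M) (F : Fours M μ ν) : A h F ≤ D h F := fun _ hs => ⟨hs.1, F.FA_le_FD hs.2⟩

omit F in
theorem Q_le_A (h : Sit S P V M) (F : Fours M μ ν) : o2 P ≤ A h F := fun s hs =>
  ⟨h.QS hs, by rw [(h.mem_Q_iff (h.QS hs)).1 hs]; exact one_mem _⟩

variable [Finite G]

omit F in
theorem S_le_normalizer_A (h : Sit S P V M) (F : Fours M μ ν) :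
    (S : Subgroup G) ≤ normalizer (A h F : Set G) := by
  intro s hs
  refine MinSimple.VModule.mem_normalizer_of_map_le ?_
  rintro _ ⟨a, ha, rfl⟩
  change s * a * s⁻¹ ∈ A h F
  refine ⟨mul_mem (mul_mem hs ha.1) (inv_mem hs), ?_⟩
  rw [h.conj (h.SP hs) (h.SP ha.1)]
  exact conj_FA F hs ha.2

include h

/-- all of `FA` is induced by `A` -/
theorem exists_A {π : Equiv.Perm (Pt k m)} (hπ : π ∈ F.FA) : ∃ s ∈ A h F, pp M s = π := by
  obtain ⟨s, hs, h1⟩ := h.induced F.FA_isPGroup (fun δ hδ p => F.FA_fst hδ p)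
    (fun s hs δ hδ => conj_FA F hs hδ) hπ
  exact ⟨s, ⟨hs, by rw [h1]; exact hπ⟩, h1⟩

/-- all of `FD` is induced by `D` -/
theorem exists_D {π : Equiv.Perm (Pt k m)} (hπ : π ∈ F.FD) : ∃ s ∈ D h F, pp M s = π := by
  obtain ⟨s, hs, h1⟩ := h.induced F.FD_isPGroup (fun δ hδ p => F.FD_fst hδ p)
    (fun s hs δ hδ => conj_FD F hs hδ) hπ
  exact ⟨s, ⟨hs, by rw [h1]; exact hπ⟩, h1⟩

end sylow

end Fours

end Cfsg.Agent.Omega.IId.SymWr

end

section


/-!
# II.d, `SwBig`: the duads (THEOREM L, bb OMEGA #17498)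

* `pr M p q` : the element of `V` with support `{p, q}` (`p`, `q` in the same summand); `conj_pr`;
* `comm_iff` : `g ∈ P` commutes with `v ∈ V` iff the support of `v` is invariant;
* `exists_cyc` : 3-cycles.
-/

set_option autoImplicit false

namespace Cfsg.Agent.Omega.IId.SymWr

open Subgroup Pointwise Cfsg Cfsg.Agent.ZN Cfsg.Agent.Omega.MinPar Cfsg.Agent.Omega.FFThm
open Cfsg.Agent.Omega.Half (Amb amb_of_loc)
open Cfsg.Agent.Omega.Half.SymA (Pt E Mv pm)

universe u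

variable {G : Type u} [Group G] {P V : Subgroup G} {k m : ℕ}

open scoped Classical in
/-- the duad `{p, q}` -/
noncomputable def pr {S : Subgroup G} (M : SymK S P V ⊥ k m) (p q : Pt k m) : G :=
  if h : p.1 = q.1 then (Half.SymA.exists_pair M h).choose else 1

section pr

variable {S : Subgroup G} (M : SymK S P V ⊥ k m)

theorem pr_mem (p q : Pt k m) : pr M p q ∈ V := by
  unfold pr
  split_ifs with h
  · exact (Half.SymA.exists_pair M h).choose_spec.1
  · exact one_mem V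

open scoped Classical in
theorem E_pr {p q : Pt k m} (h : p.1 = q.1) (r : Pt k m) :
    E M (pr M p q) r = (if r = p then 1 else 0) + (if r = q then 1 else 0) := by
  unfold pr
  rw [dif_pos h]
  exact (Half.SymA.exists_pair M h).choose_spec.2 r

theorem E_pr_left {p q : Pt k m} (h : p.1 = q.1) (hne : p ≠ q) : E M (pr M p q) p = 1 := by
  rw [E_pr M h, if_pos rfl, if_neg hne, add_zero]

theorem E_pr_right {p q : Pt k m} (h : p.1 = q.1) (hne : p ≠ q) : E M (pr M p q) q = 1 := by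
  rw [E_pr M h, if_pos rfl, if_neg hne.symm, zero_add]

theorem E_pr_of_ne {p q r : Pt k m} (h : p.1 = q.1) (h1 : r ≠ p) (h2 : r ≠ q) : E M (pr M p q) r = 0 := by
  rw [E_pr M h, if_neg h1, if_neg h2, add_zero]

theorem pr_comm {p q : Pt k m} (h : p.1 = q.1) : pr M p q = pr M q p :=
  Half.SymA.inj M (pr_mem M _ _) (pr_mem M _ _) fun r => by rw [E_pr M h, E_pr M h.symm, add_comm]

theorem pr_mul {p q r : Pt k m} (h : p.1 = q.1) (h' : q.1 = r.1) : pr M p q * pr M q r = pr M p r := by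
  refine Half.SymA.inj M (mul_mem (pr_mem M _ _) (pr_mem M _ _)) (pr_mem M _ _) fun s => ?_
  rw [Half.SymA.E_mul M (pr_mem M _ _) (pr_mem M _ _), E_pr M h, E_pr M h', E_pr M (h.trans h')]
  have : ∀ a b c : ZMod 2, a + b + (b + c) = a + c := by decide
  exact this _ _ _

end pr

namespace Sit

variable {S : Sylow 2 G} {M : SymK (S : Subgroup G) P V ⊥ k m} (h : Sit S P V M)

include h

theorem Vcomm {a b : G} (ha : a ∈ V) (hb : b ∈ V) : a * b = b * a := h.amb.comm a ha b hb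

theorem Vsq {a : G} (ha : a ∈ V) : a * a = 1 := by rw [← pow_two]; exact h.amb.sq a ha

theorem conj_pr {g : G} (hg : g ∈ P) {p q : Pt k m} (hpq : p.1 = q.1) :
    g * pr M p q * g⁻¹ = pr M (pp M g p) (pp M g q) := by
  refine Half.SymA.inj M (h.amb.conj_mem hg (pr_mem M _ _)) (pr_mem M _ _) fun r => ?_
  rw [E_conj' hg (pr_mem M _ _), E_pr M hpq, E_pr M (h.fst hg hpq)]
  simp only [Equiv.Perm.inv_eq_iff_eq]

seal _root_.Finset.card in
/-- `g ∈ P` commutes with `v ∈ V` iff it preserves the support -/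
theorem comm_iff {g : G} (hg : g ∈ P) {v : G} (hv : v ∈ V) :
    g * v = v * g ↔ ∀ p, E M v (pp M g p) = E M v p := by
  constructor
  · intro h1 p
    have h2 := E_conj (M := M) hg hv p
    rwa [h1, mul_inv_cancel_right] at h2
  · intro h1
    have h2 : g * v * g⁻¹ = v := by
      refine Half.SymA.inj M (h.amb.conj_mem hg hv) hv fun r => ?_
      have h3 := h1 ((pp M g)⁻¹ r)
      rw [E_conj' hg hv, ← h3]
      congr 1
      exact (pp M g).apply_symm_apply r
    rwa [mul_inv_eq_iff_eq_mul] at h2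

/-- `g` commutes with a duad it preserves -/
theorem comm_pr {g : G} (hg : g ∈ P) {p q : Pt k m} (hpq : p.1 = q.1)
    (h1 : (pp M g p = p ∧ pp M g q = q) ∨ (pp M g p = q ∧ pp M g q = p)) :
    g * pr M p q = pr M p q * g := by
  have h2 := h.conj_pr hg hpq
  have h3 : g * pr M p q * g⁻¹ = pr M p q := by
    rcases h1 with h1 | h1
    · rw [h2, h1.1, h1.2]
    · rw [h2, h1.1, h1.2, pr_comm M hpq]
  rwa [mul_inv_eq_iff_eq_mul] at h3

/-- an element inducing the 3-cycle `(a b c)` of one summand -/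
theorem exists_cyc {a b c : Pt k m} (hab : a.1 = b.1) (hbc : b.1 = c.1) (h1 : a ≠ b) (h2 : b ≠ c) (h3 : a ≠ c) :
    ∃ g ∈ P, pp M g a = b ∧ pp M g b = c ∧ pp M g c = a ∧ ∀ r, r ≠ a → r ≠ b → r ≠ c → pp M g r = r := by
  classical
  obtain ⟨g, hg, h4⟩ := h.exists_pp (π := Equiv.swap a b * Equiv.swap b c) (by
    intro r
    rw [Equiv.Perm.mul_apply]
    have key : ∀ x y : Pt k m, x.1 = y.1 → ∀ r, (Equiv.swap x y r).1 = r.1 := by
      intro x y hxy r
      rcases eq_or_ne r x with rfl | hx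
      · rw [Equiv.swap_apply_left, hxy]
      · rcases eq_or_ne r y with rfl | hy
        · rw [Equiv.swap_apply_right, hxy]
        · rw [Equiv.swap_apply_of_ne_of_ne hx hy]
    rw [key a b hab, key b c hbc])
  refine ⟨g, hg, ?_, ?_, ?_, ?_⟩
  · rw [h4, Equiv.Perm.mul_apply, Equiv.swap_apply_of_ne_of_ne h1 h3, Equiv.swap_apply_left]
  · rw [h4, Equiv.Perm.mul_apply, Equiv.swap_apply_left, Equiv.swap_apply_of_ne_of_ne h3.symm h2.symm]
  · rw [h4, Equiv.Perm.mul_apply, Equiv.swap_apply_right, Equiv.swap_apply_right]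
  · intro r ha hb hc
    rw [h4, Equiv.Perm.mul_apply, Equiv.swap_apply_of_ne_of_ne hb hc, Equiv.swap_apply_of_ne_of_ne ha hb]

/-! ### `Ω₁(Z(O₂(P)))` -/

omit h in
theorem zz_comm {y y' : G} (hy : y ∈ zc (o2 P)) (hy' : y' ∈ zc (o2 P)) : y * y' = y' * y :=
  MinSimple.VModule.zc_comm (o2 P) y hy y' hy'

omit h in
theorem zz_sq {y : G} (hy : y ∈ zc (o2 P)) : y * y = 1 := by
  rw [← pow_two]; exact MinSimple.VModule.zc_sq _ y hy

omit h in
theorem zz_conj {g y : G} (hg : g ∈ P) (hy : y ∈ zc (o2 P)) : g * y * g⁻¹ ∈ zc (o2 P) :=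
  (mem_normalizer_iff.1 (((MinSimple.VModule.le_normalizer_o2 P).trans
    (MinSimple.VModule.normalizer_le_normalizer_zc _)) hg) y).1 hy

/-- the action on `Ω₁(Z(O₂(P)))` only depends on the permutation of the points -/
theorem zz_eq {g g' : G} (hg : g ∈ P) (hg' : g' ∈ P) (hgg : pp M g = pp M g') {y : G} (hy : y ∈ zc (o2 P)) :
    g * y * g⁻¹ = g' * y * g'⁻¹ := by
  have h1 : g'⁻¹ * g ∈ P ⊓ centralizer (V : Set G) :=
    mem_inf.2 ⟨P.mul_mem (P.inv_mem hg') hg, (pp_eq_iff h.amb h.hm1 hg' hg).1 hgg.symm⟩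
  have h2 := mem_centralizer_iff.1 (h.cZ h1) y hy
  calc g * y * g⁻¹ = g' * (g'⁻¹ * g * y) * g⁻¹ := by group
    _ = g' * (y * (g'⁻¹ * g)) * g⁻¹ := by rw [h2]
    _ = g' * y * g'⁻¹ := by group

end Sit

end Cfsg.Agent.Omega.IId.SymWr

end

section


/-!
# II.d, `SwBig`: the index of the centraliser of an `S`-duad (for the mixed case, helper142 (D))

`SymWr.Sit S P V M`, `F : Fours M μ ν`, `x.2 ≠ 0`:

* `relIndex_stab_S` : `|S : S_x| = k * 2 ^ m`;
* `relIndex_tn` : `|S : C_S(pr x (μ x))| = k * 2 ^ (m - 1)`;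
* `card_S` : `|S| = k * 2 ^ (m - 1) * |C_S(pr x (μ x))|`.
-/

set_option autoImplicit false

namespace Cfsg.Agent.Omega.IId.SwB

open Cfsg.Agent.Omega.IId.SymWr
open Subgroup Pointwise Cfsg Cfsg.Agent.ZN Cfsg.Agent.Omega.MinPar Cfsg.Agent.Omega.FFThm
open Cfsg.Agent.Omega.Half.SymA (Pt E Mv pm)

universe u

variable {G : Type u} [Group G] [Finite G] {P V : Subgroup G} {k m : ℕ} {S : Sylow 2 G}
  {M : SymK (S : Subgroup G) P V ⊥ k m}

/-- the number of nonzero points -/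
theorem ncard_ne_zero (k m : ℕ) : {q : Pt k m | q.2 ≠ 0}.ncard = k * 2 ^ m := by
  have h1 : {q : Pt k m | q.2 ≠ 0} =
      ((Finset.univ ×ˢ (Finset.univ.erase 0) : Finset (Fin k × Fin (2 ^ m + 1))) : Set _) := by
    ext q
    simp only [_root_.ne_eq, _root_.Set.mem_ofPred_eq, _root_.Finset.coe_product, _root_.Finset.coe_univ, _root_.Finset.coe_erase, _root_.Set.mem_prod, _root_.Set.mem_univ, _root_.Set.mem_sdiff, _root_.Set.mem_singleton_iff, _root_.true_and]
  rw [h1, Set.ncard_coe_finset, Finset.card_product, Finset.card_univ, Fintype.card_fin,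
    Finset.card_erase_of_mem (Finset.mem_univ _), Finset.card_univ, Fintype.card_fin]
  rfl

seal _root_.Finset.card in
theorem relIndex_stab_S (h : Sit S P V M) {x : Pt k m} (hx : x.2 ≠ 0) :
    (stab h x).relIndex (S : Subgroup G) = k * 2 ^ m := by
  let f : (S : Subgroup G) →* Equiv.Perm (Pt k m) :=
    { toFun := fun s => pp M s
      map_one' := h.one
      map_mul' := fun a b => h.mul (h.SP a.2) (h.SP b.2) }
  let _ : MulAction (S : Subgroup G) (Pt k m) := MulAction.compHom _ f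
  have hsm : ∀ (s : (S : Subgroup G)) (y : Pt k m), s • y = pp M s y := fun _ _ => rfl
  have h1 : (stab h x).subgroupOf (S : Subgroup G) = MulAction.stabilizer (S : Subgroup G) x := by
    ext s
    rw [mem_subgroupOf, MulAction.mem_stabilizer_iff, hsm, mem_stab]
    exact ⟨fun h1 => h1.2, fun h1 => ⟨s.2, h1⟩⟩
  rw [relIndex, h1, MulAction.index_stabilizer]
  have h2 : MulAction.orbit (S : Subgroup G) x = {q : Pt k m | q.2 ≠ 0} := by
    ext q
    constructor
    · rintro ⟨s, rfl⟩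
      exact fun h0 => hx ((h.snd s.2).1 h0)
    · intro hq
      obtain ⟨s, hs, h3⟩ := h.trans (p := x) (q := q) hx hq
      exact ⟨⟨s, hs⟩, h3⟩
  rw [h2, ncard_ne_zero]

variable {μ ν : Equiv.Perm (Pt k m)}

omit [Finite G] in
theorem mem_tn (h : Sit S P V M) (F : Fours M μ ν) {x : Pt k m} (hx : x.2 ≠ 0) {s : G} (hs : s ∈ (S : Subgroup G)) :
    s ∈ centralizer ({pr M x (μ x)} : Set G) ↔ pp M s x = x ∨ pp M s x = μ x := by
  have hμ : x.1 = (μ x).1 := (F.mfst x).symm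
  rw [mem_centralizer_singleton_iff]
  constructor
  · intro h1
    have h2 := (h.comm_iff (h.SP hs) (pr_mem M x (μ x))).1 h1 x
    rw [E_pr_left M hμ (F.mne x hx).symm] at h2
    by_contra h3
    push Not at h3
    rw [E_pr_of_ne M hμ h3.1 h3.2] at h2
    exact zero_ne_one h2
  · intro h1
    refine h.comm_pr (h.SP hs) hμ ?_
    rcases h1 with h1 | h1
    · exact Or.inl ⟨h1, by rw [F.meqv s hs, h1]⟩
    · exact Or.inr ⟨h1, by rw [F.meqv s hs, h1, F.msq]⟩

theorem relIndex_stab_tn (h : Sit S P V M) (F : Fours M μ ν) {x : Pt k m} (hx : x.2 ≠ 0) :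
    (stab h x).relIndex ((S : Subgroup G) ⊓ centralizer ({pr M x (μ x)} : Set G)) = 2 := by
  set C : Subgroup G := (S : Subgroup G) ⊓ centralizer ({pr M x (μ x)} : Set G) with hC
  have hCS : ∀ s ∈ C, s ∈ (S : Subgroup G) := fun s hs => (mem_inf.1 hs).1
  let f : C →* Equiv.Perm (Pt k m) :=
    { toFun := fun s => pp M s
      map_one' := h.one
      map_mul' := fun a b => h.mul (h.SP (hCS _ a.2)) (h.SP (hCS _ b.2)) }
  let _ : MulAction C (Pt k m) := MulAction.compHom _ f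
  have hsm : ∀ (s : C) (y : Pt k m), s • y = pp M s y := fun _ _ => rfl
  have h1 : (stab h x).subgroupOf C = MulAction.stabilizer C x := by
    ext s
    rw [mem_subgroupOf, MulAction.mem_stabilizer_iff, hsm, mem_stab]
    exact ⟨fun h1 => h1.2, fun h1 => ⟨hCS _ s.2, h1⟩⟩
  rw [relIndex, h1, MulAction.index_stabilizer]
  have h2 : MulAction.orbit C x = {x, μ x} := by
    ext q
    rw [Set.mem_insert_iff, Set.mem_singleton_iff]
    constructor
    · rintro ⟨s, rfl⟩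
      exact ((mem_tn h F hx (hCS _ s.2)).1 (mem_inf.1 s.2).2 :)
    · intro hq
      have hq0 : q.2 ≠ 0 := by
        rcases hq with rfl | rfl
        · exact hx
        · exact fun h0 => hx (F.mnz.1 h0)
      obtain ⟨s, hs, h3⟩ := h.trans (p := x) (q := q) hx hq0
      refine ⟨⟨s, mem_inf.2 ⟨hs, (mem_tn h F hx hs).2 ?_⟩⟩, h3⟩
      rwa [h3]
  rw [h2, Set.ncard_pair (F.mne x hx).symm]

/-- `|S : C_S(pr x (μ x))| = k * 2 ^ (m - 1)` -/
theorem relIndex_tn (h : Sit S P V M) (F : Fours M μ ν) {x : Pt k m} (hx : x.2 ≠ 0) :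
    ((S : Subgroup G) ⊓ centralizer ({pr M x (μ x)} : Set G)).relIndex (S : Subgroup G) = k * 2 ^ (m - 1) := by
  have hle : stab h x ≤ (S : Subgroup G) ⊓ centralizer ({pr M x (μ x)} : Set G) := fun s hs =>
    mem_inf.2 ⟨hs.1, (mem_tn h F hx hs.1).2 (Or.inl hs.2)⟩
  have h1 := relIndex_mul_relIndex _ _ _ hle (inf_le_left : (S : Subgroup G) ⊓ centralizer ({pr M x (μ x)} : Set G) ≤ S)
  rw [relIndex_stab_tn h F hx, relIndex_stab_S h hx] at h1
  obtain ⟨n, rfl⟩ : ∃ n, m = n + 1 := ⟨m - 1, by have := h.hm; omega⟩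
  rw [Nat.add_sub_cancel]
  rw [pow_succ] at h1
  refine Nat.eq_of_mul_eq_mul_left (by norm_num : 0 < 2) ?_
  rw [h1]
  ring

/-- `|S| = k * 2 ^ (m - 1) * |C_S(pr x (μ x))|` -/
theorem card_S (h : Sit S P V M) (F : Fours M μ ν) {x : Pt k m} (hx : x.2 ≠ 0) :
    Nat.card (S : Subgroup G) =
      k * 2 ^ (m - 1) * Nat.card ((S : Subgroup G) ⊓ centralizer ({pr M x (μ x)} : Set G) : Subgroup G) := by
  rw [← relIndex_tn h F hx, mul_comm]
  exact (card_mul_relIndex inf_le_left).symm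

end Cfsg.Agent.Omega.IId.SwB

end

section


/-!
# II.d, `SwBig`, `T`-`T`: LEMMA E over `T = C_S(n)` (bb OMEGA #19821, (LE); the three term trick)

`V` = the sum of `k` even-subset modules of degree `2 ^ m + 1`, `r = pr M a b` a duad, `N = C_G(r)`,
`R i0 = ⟨r⟩`, `R i1 = ⟨pr M a c⟩`, `R i2 = ⟨pr M b c⟩` the points of the line `L`.  If `Λ ≤ R i0 × C_G(X)` is
normalised by `N`, then `Λ ≤ R i0`.

Otherwise `Λ R i0` contains an involution `f ∈ V` centralised by `X` and `T`; `f` is not constant on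
`Δ = Ω_1 - {a, b}` or on another block `Δ`, so `Λ R i0` contains all duads inside `Δ`.  Three of them with product
`1`: one of the three has its conjugate by the partner `h ∈ N` in `C_G(X)`.  The conjugate of `r` under the
centraliser of this duad commute with `V`; conjugate by `h`.
-/

set_option autoImplicit false

namespace Cfsg.Agent.Omega.IId.SymWr.Ht.LE

open Subgroup Pointwise Cfsg Cfsg.Agent.ZN Cfsg.Agent.Omega.MinPar Cfsg.Agent.Omega.FFThm
open Cfsg.Agent.Omega.Half (Amb)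
open Cfsg.Agent.Omega.Half.SymA (Pt E)
open Cfsg.Agent.Omega.BTwo Cfsg.Agent.Omega.HTwo Cfsg.Agent.Omega.HTwo.Par

universe u

variable {G : Type u} [Group G] {P V : Subgroup G} {k m : ℕ}

/-! ### The functions -/

section fn

variable {S : Sylow 2 G} {M : SymK (S : Subgroup G) P V ⊥ k m}

/-- a nonzero even function takes the value `0` on each block -/
theorem exists_zero (hm : 1 ≤ m) {f : G} (hf : f ∈ V) (i : Fin k) : ∃ x, E M f (i, x) = 0 := by
  by_contra hc
  push Not at hc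
  have h1 : ∀ x, x ≠ 0 → E M f (i, x) = 1 := fun x _ => by
    have := hc x
    revert this
    generalize E M f (i, x) = e
    revert e
    decide
  exact hc 0 (Half.SymA.even0 M hm hf h1)

/-- **a vector constant on `{a, b, c}` separates two letters outside `{a, b}`** -/
theorem exists_sep (hm : 1 ≤ m) {a b c : Pt k m} (hab : a.1 = b.1) (hac : a.1 = c.1) (nac : a ≠ c) (nbc : b ≠ c)
    {f : G} (hf : f ∈ V) (hf1 : f ≠ 1) (h1 : E M f a = E M f b) (h2 : E M f a = E M f c) :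
    ∃ p q : Pt k m, p.1 = q.1 ∧ p ≠ a ∧ p ≠ b ∧ q ≠ a ∧ q ≠ b ∧ E M f p ≠ E M f q := by
  have hb : ∀ e : ZMod 2, e ≠ 0 → e = 1 := by decide
  obtain ⟨p0, hp0⟩ : ∃ p0, E M f p0 ≠ 0 := by
    by_contra hc
    push Not at hc
    apply hf1
    refine Half.SymA.inj M hf (one_mem V) fun p => ?_
    rw [hc p]
    have := Half.SymA.E_mul M (one_mem V) (one_mem V) p
    rw [mul_one] at this
    revert this
    generalize E M 1 p = e
    revert e
    decide
  obtain ⟨x, hx⟩ := exists_zero (M := M) hm hf p0.1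
  by_cases hblk : p0.1 = a.1
  · rcases eq_or_ne (E M f a) 0 with h0 | h0
    · refine ⟨p0, c, hblk.trans hac, ?_, ?_, nac.symm, nbc.symm, ?_⟩
      · rintro rfl; exact hp0 h0
      · rintro rfl; exact hp0 (h1 ▸ h0)
      · rw [← h2, h0]; exact hp0
    · refine ⟨c, (p0.1, x), hac.symm.trans hblk.symm, nac.symm, nbc.symm, ?_, ?_, ?_⟩
      · intro e; rw [e] at hx; exact h0 hx
      · intro e; rw [e, ← h1] at hx; exact h0 hx
      · rw [← h2, hx]; exact h0
  · refine ⟨p0, (p0.1, x), rfl, ?_, ?_, ?_, ?_, ?_⟩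
    · rintro rfl; exact hblk rfl
    · rintro rfl; exact hblk hab.symm
    · intro e; exact hblk (by rw [← e])
    · intro e; exact hblk (by rw [hab, ← e])
    · rw [hx]; exact hp0

/-- a third letter -/
theorem exists_third (hm : 2 ≤ m) {a b p q : Pt k m} :
    ∃ w : Pt k m, w.1 = p.1 ∧ w ≠ a ∧ w ≠ b ∧ w ≠ p ∧ w ≠ q := by
  classical
  have h1 : ({a.2, b.2, p.2, q.2} : Finset (Fin (2 ^ m + 1))).card < Fintype.card (Fin (2 ^ m + 1)) := by
    have h2 : ({a.2, b.2, p.2, q.2} : Finset (Fin (2 ^ m + 1))).card ≤ 4 := Finset.card_le_four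
    have h3 : 2 ^ 2 ≤ 2 ^ m := Nat.pow_le_pow_right (by norm_num) hm
    rw [Fintype.card_fin]
    omega
  obtain ⟨x, hx⟩ := Finset.exists_mem_notMem_of_card_lt_card (s := {a.2, b.2, p.2, q.2}) (t := Finset.univ)
    (by rwa [Finset.card_univ])
  simp only [Finset.mem_univ, Finset.mem_insert, Finset.mem_singleton, not_or, true_and] at hx
  exact ⟨(p.1, x), rfl, fun e => hx.1 (by rw [← e]), fun e => hx.2.1 (by rw [← e]),
    fun e => hx.2.2.1 (by rw [← e]), fun e => hx.2.2.2 (by rw [← e])⟩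

end fn

/-! ### The facts about duads -/

/-- the facts about the duads used for LEMMA E: `Q_p = O₂(C_G(p))` acts on `V` inside `⟨t_p⟩`, `V ≤ Q_p`,
`p^⊥ ≤ Z(Q_p)` -/
structure Dd {S : Sylow 2 G} (M : SymK (S : Subgroup G) P V ⊥ k m) : Prop where
  act : ∀ p q : Pt k m, p.1 = q.1 → p ≠ q → ∀ g ∈ o2 (centralizer ({pr M p q} : Set G)),
    g ∈ P ∧ (pp M g = 1 ∨ pp M g = Equiv.swap p q)
  V_le : ∀ p q : Pt k m, p.1 = q.1 → p ≠ q → V ≤ o2 (centralizer ({pr M p q} : Set G))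
  perp : ∀ p q : Pt k m, p.1 = q.1 → p ≠ q → ∀ v ∈ V, E M v p = E M v q →
    ∀ g ∈ o2 (centralizer ({pr M p q} : Set G)), g * v = v * g

section main

variable [Finite G] {S : Sylow 2 G} {M : SymK (S : Subgroup G) P V ⊥ k m} (h : Sit S P V M)

include h

omit [Finite G] in
/-- `w_q` for `f ∈ V` : if `f` separates `p`, `q`, a subgroup normalised by `N` containing `f` contains the duad -/
theorem pr_mem_of {a b p q : Pt k m} (hab : a.1 = b.1) (hpq : p.1 = q.1) (hpa : p ≠ a) (hpb : p ≠ b) (hqa : q ≠ a)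
    (hqb : q ≠ b) {Λ : Subgroup G} (hN : centralizer ({pr M a b} : Set G) ≤ normalizer (Λ : Set G)) {f : G}
    (hf : f ∈ V) (hfΛ : f ∈ Λ) (hne : E M f p ≠ E M f q) : pr M p q ∈ Λ := by
  classical
  have key : ∀ r : Pt k m, (Equiv.swap p q r).1 = r.1 := by
    intro r
    rcases eq_or_ne r p with rfl | hx
    · rw [Equiv.swap_apply_left, hpq]
    · rcases eq_or_ne r q with rfl | hy
      · rw [Equiv.swap_apply_right, hpq]
      · rw [Equiv.swap_apply_of_ne_of_ne hx hy]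
  obtain ⟨g, hg, h4⟩ := h.exists_pp (π := Equiv.swap p q) key
  have hgr : g * pr M a b = pr M a b * g := by
    refine h.comm_pr hg hab (Or.inl ⟨?_, ?_⟩)
    · rw [h4, Equiv.swap_apply_of_ne_of_ne hpa.symm hqa.symm]
    · rw [h4, Equiv.swap_apply_of_ne_of_ne hpb.symm hqb.symm]
  have hgN : g ∈ centralizer ({pr M a b} : Set G) := by
    rw [mem_centralizer_iff]
    rintro _ rfl
    exact hgr.symm
  have h5 : g * f * g⁻¹ ∈ Λ := (mem_normalizer_iff.1 (hN hgN) f).1 hfΛ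
  have h6 : pr M p q = f * (g * f * g⁻¹) := by
    refine Half.SymA.inj M (pr_mem M _ _) (mul_mem hf (h.amb.conj_mem hg hf)) fun r => ?_
    rw [Half.SymA.E_mul M hf (h.amb.conj_mem hg hf), E_conj' hg hf, h4, E_pr M hpq]
    rw [Equiv.swap_inv]
    have h7 : ∀ x y : ZMod 2, x ≠ y → x + y = 1 := by decide
    have h8 : ∀ x : ZMod 2, x + x = 0 := by decide
    rcases eq_or_ne r p with rfl | hrp
    · rw [Equiv.swap_apply_left, if_pos rfl, if_neg (fun e => hne (by rw [e])), add_zero]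
      exact (h7 _ _ hne).symm
    · rcases eq_or_ne r q with rfl | hrq
      · rw [Equiv.swap_apply_right, if_pos rfl, if_neg hrp, zero_add]
        exact (h7 _ _ hne.symm).symm
      · rw [Equiv.swap_apply_of_ne_of_ne hrp hrq, if_neg hrp, if_neg hrq, add_zero]
        exact (h8 _).symm
  rw [h6]
  exact mul_mem hfΛ h5

omit [Finite G] in
/-- the other duads of the block -/
theorem pr_mem_of_pr {a b p q w : Pt k m} (hab : a.1 = b.1) (hpq : p.1 = q.1) (hwp : w.1 = p.1)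
    (hqa : q ≠ a) (hqb : q ≠ b) (hwa : w ≠ a) (hwb : w ≠ b) (hne : p ≠ q) (hwp' : w ≠ p) (hwq : w ≠ q) {Λ : Subgroup G}
    (hN : centralizer ({pr M a b} : Set G) ≤ normalizer (Λ : Set G)) (hΛ : pr M p q ∈ Λ) : pr M q w ∈ Λ := by
  refine pr_mem_of h hab (hpq.symm.trans hwp.symm) hqa hqb hwa hwb hN (pr_mem M p q) hΛ ?_
  rw [E_pr_right M hpq hne, E_pr_of_ne M hpq hwp' hwq]
  decide

omit [Finite G] in
/-- an element of `X` inducing a transposition -/
theorem exists_sw (D : Dd M) {p q w : Pt k m} (hpq : p.1 = q.1) (hpw : p.1 = w.1) (npq : p ≠ q)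
    (npw : p ≠ w) {ι : Type*} {L : Subgroup G} {R : ι → Subgroup G} (B : BT L R)
    {i j l : ι} (h0 : R i = zpowers (pr M p q)) (h1 : R j = zpowers (pr M p w)) (h2 : R l = zpowers (pr M q w))
    {g v : G} (hg : g ∈ normalizer (R i : Set G)) (hv : v ∈ L)
    (hgv : cj (g * v * g⁻¹) (R j) = R l) : g * v * g⁻¹ ∈ XX L R ∧ g * v * g⁻¹ ∈ P ∧
      pp M (g * v * g⁻¹) = Equiv.swap p q := by
  have hx : g * v * g⁻¹ ∈ WW L (R i) := cj_le_WW hg (conj_mem_cj hv)
  have hx1 : g * v * g⁻¹ ∈ o2 (centralizer ({pr M p q} : Set G)) := by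
    have h3 : g * v * g⁻¹ ∈ o2 (normalizer (R i : Set G)) := B.W_le_Q i hx
    rwa [h0, MinSimple.Basic.normalizer_zpowers_eq (by rw [pow_two]; exact h.Vsq (pr_mem M p q))] at h3
  obtain ⟨hP, h4⟩ := D.act p q hpq npq _ hx1
  refine ⟨W_le_X L R i hx, hP, h4.resolve_left fun h5 => ?_⟩
  have h6 := mem_centralizer_iff.1 ((h.eq_one_iff hP).1 h5) (pr M p w) (pr_mem M p w)
  have h7 : g * v * g⁻¹ * pr M p w * (g * v * g⁻¹)⁻¹ = pr M p w := by
    rw [← h6, mul_inv_cancel_right]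
  have h8 : pr M p w ∈ R l := by
    rw [← hgv, ← h7]
    exact conj_mem_cj (by rw [h1]; exact mem_zpowers _)
  have hjl : j ≠ l := by
    rintro rfl
    have h9 : pr M p w ∈ zpowers (pr M q w) := by rw [← h2, h1]; exact mem_zpowers _
    obtain ⟨n, hn⟩ := mem_zpowers_iff.1 h9
    have h10 := E_pr_left M hpw npw
    have e0 : E M (1 : G) p = 0 := by
      have := Half.SymA.E_mul M (one_mem V) (one_mem V) p
      rw [mul_one] at this
      revert this
      generalize E M 1 p = e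
      revert e
      decide
    rw [← hn] at h10
    rcases Int.even_or_odd n with ⟨t, rfl⟩ | ⟨t, rfl⟩
    · rw [← two_mul, zpow_mul, zpow_two, h.Vsq (pr_mem M q w), one_zpow, e0] at h10
      revert h10; decide
    · rw [zpow_add, zpow_mul, zpow_two, h.Vsq (pr_mem M q w), one_zpow, one_mul, zpow_one,
        E_pr_of_ne M (hpq.symm.trans hpw) npq npw] at h10
      revert h10; decide
  have h9 := B.eq_one hjl (a := pr M p w) (by rw [h1]; exact mem_zpowers _) h8
  have h10 := E_pr_left M hpw npw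
  rw [h9] at h10
  have := Half.SymA.E_mul M (one_mem V) (one_mem V) p
  rw [mul_one, h10] at this
  revert this
  decide

omit [Finite G] h in
/-- if the conjugate of a duad outside `{a, b}` under the partner is centralised by `X`: contradiction -/
theorem kill (D : Dd M) {a b p q : Pt k m} (hab : a.1 = b.1) (hpq : p.1 = q.1) (npq : p ≠ q) (hpa : p ≠ a)
    (hpb : p ≠ b) (hqa : q ≠ a) (hqb : q ≠ b) {ι : Type*} {L : Subgroup G} {R : ι → Subgroup G} (B : BT L R)
    (hLV : L ≤ V) {i0 i1 i2 : ι} (hi : i1 ≠ i2) (hr1 : pr M a b ≠ 1) {g v : G}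
    (hgr : g * pr M a b * g⁻¹ = pr M a b) (hrR : pr M a b ∈ R i0) (hv : v ∈ L)
    (hgv : cj (g * v * g⁻¹) (R i1) = R i2) (hX : g * pr M p q * g⁻¹ ∈ CenX L R) : False := by
  set r := pr M a b with hrdef
  set y := pr M p q with hy
  obtain ⟨x, hx, hxR⟩ := B.trans_X_one i0 i1
  set u := g⁻¹ * x * g with hu
  have huy : u * y = y * u := by
    have h1 := mem_centralizer_iff.1 hX x hx
    calc u * y = g⁻¹ * (x * (g * y * g⁻¹)) * g := by rw [hu]; group
      _ = g⁻¹ * ((g * y * g⁻¹) * x) * g := by rw [h1]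
      _ = y * u := by rw [hu]; group
  have huC : u ∈ centralizer ({y} : Set G) := by
    rw [mem_centralizer_iff]
    rintro _ rfl
    exact huy.symm
  have hEr : E M r p = E M r q := by
    rw [hrdef, E_pr_of_ne M hab hpa hpb, E_pr_of_ne M hab hqa hqb]
  have hrc := D.perp p q hpq npq r (pr_mem M a b) hEr
  have hvV : v ∈ V := hLV hv
  have hvQ : v ∈ o2 (centralizer ({y} : Set G)) := D.V_le p q hpq npq hvV
  -- `u r u⁻¹` commutes with `v`
  have h1 : v * (u * r * u⁻¹) = u * r * u⁻¹ * v := by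
    have h2 : u⁻¹ * v * u ∈ o2 (centralizer ({y} : Set G)) :=
      conj_inv_mem_of_normalizer (MinSimple.VModule.le_normalizer_o2 _ huC) hvQ
    have h3 := hrc _ h2
    calc v * (u * r * u⁻¹) = u * ((u⁻¹ * v * u) * r) * u⁻¹ := by group
      _ = u * (r * (u⁻¹ * v * u)) * u⁻¹ := by rw [h3]
      _ = u * r * u⁻¹ * v := by group
  have h4 : x * r * x⁻¹ ∈ R i1 := by rw [← hxR]; exact conj_mem_cj hrR
  have h5 : g * (u * r * u⁻¹) * g⁻¹ = x * r * x⁻¹ := by
    have h6 : g⁻¹ * r * g = r := by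
      calc g⁻¹ * r * g = g⁻¹ * (g * r * g⁻¹) * g := by rw [hgr]
        _ = r := by group
    calc g * (u * r * u⁻¹) * g⁻¹ = x * (g * r * g⁻¹) * x⁻¹ := by rw [hu]; group
      _ = x * r * x⁻¹ := by rw [hgr]
  have h6 : g * v * g⁻¹ * (x * r * x⁻¹) * (g * v * g⁻¹)⁻¹ = x * r * x⁻¹ := by
    calc g * v * g⁻¹ * (x * r * x⁻¹) * (g * v * g⁻¹)⁻¹
        = g * (v * (g⁻¹ * (x * r * x⁻¹) * g)) * v⁻¹ * g⁻¹ := by group
      _ = g * (v * (u * r * u⁻¹)) * v⁻¹ * g⁻¹ := by rw [← h5]; group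
      _ = g * (u * r * u⁻¹ * v) * v⁻¹ * g⁻¹ := by rw [h1]
      _ = x * r * x⁻¹ := by rw [← h5]; group
  have h7 : x * r * x⁻¹ ∈ R i2 := by
    rw [← hgv, ← h6]
    exact conj_mem_cj h4
  have h8 := B.eq_one hi h4 h7
  have h9 : r = 1 := by
    calc r = x⁻¹ * (x * r * x⁻¹) * x := by group
      _ = 1 := by rw [h8]; group
  exact hr1 h9

/-- **LEMMA E** (#19821, (LE)) -/
theorem le_all (D : Dd M) (zv : zc (o2 P) ≤ V) {a b c : Pt k m} (hab : a.1 = b.1) (hac : a.1 = c.1) (nab : a ≠ b)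
    (nac : a ≠ c) (nbc : b ≠ c) {ι : Type*} {L : Subgroup G} {R : ι → Subgroup G} (B : BTS L R) {i0 i1 i2 : ι}
    (h0 : R i0 = zpowers (pr M a b)) (h1 : R i1 = zpowers (pr M a c)) (h2 : R i2 = zpowers (pr M b c))
    (hTL : (S : Subgroup G) ⊓ centralizer ({pr M a b} : Set G) ≤ normalizer (L : Set G))
    (hQS : o2 (centralizer ({pr M a b} : Set G)) ≤ (S : Subgroup G)) (j : ι) : ThmA.LE L R j := by
  classical
  refine ThmA.le_all B.toBT (i := i0) (fun Λ hΛ hN => ?_) j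
  by_contra hΛR
  set r := pr M a b with hr
  set T := (S : Subgroup G) ⊓ centralizer ({r} : Set G) with hT
  have hrV : r ∈ V := pr_mem M a b
  have hrr : r * r = 1 := h.Vsq hrV
  have hz : ∀ x, ∀ y ∈ V, x ∈ zpowers y → x = 1 ∨ x = y := by
    intro x y hy hx
    obtain ⟨n, rfl⟩ := mem_zpowers_iff.1 hx
    rcases Int.even_or_odd n with ⟨t, rfl⟩ | ⟨t, rfl⟩
    · left; rw [← two_mul, zpow_mul, zpow_two, h.Vsq hy, one_zpow]
    · right; rw [zpow_add, zpow_mul, zpow_two, h.Vsq hy, one_zpow, one_mul, zpow_one]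
  have hr1 : r ≠ 1 := by
    intro e
    have h3 := E_pr_left M hab nab
    rw [← hr, e] at h3
    have := Half.SymA.E_mul M (one_mem V) (one_mem V) a
    rw [mul_one, h3] at this
    revert this
    decide
  have hi01 : i0 ≠ i1 := by
    rintro rfl
    have h3 : pr M a c ∈ zpowers r := by rw [← h0, h1]; exact mem_zpowers _
    rcases hz _ _ hrV h3 with h4 | h4
    · have h5 := E_pr_left M hac nac
      rw [h4] at h5
      have := Half.SymA.E_mul M (one_mem V) (one_mem V) a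
      rw [mul_one, h5] at this
      revert this
      decide
    · have h5 := E_pr_right M hac nac
      rw [h4, hr, E_pr_of_ne M hab nac.symm nbc.symm] at h5
      revert h5
      decide
  have hi02 : i0 ≠ i2 := by
    rintro rfl
    have h3 : pr M b c ∈ zpowers r := by rw [← h0, h2]; exact mem_zpowers _
    have hbc : b.1 = c.1 := hab.symm.trans hac
    rcases hz _ _ hrV h3 with h4 | h4
    · have h5 := E_pr_left M hbc nbc
      rw [h4] at h5
      have := Half.SymA.E_mul M (one_mem V) (one_mem V) b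
      rw [mul_one, h5] at this
      revert this
      decide
    · have h5 := E_pr_right M hbc nbc
      rw [h4, hr, E_pr_of_ne M hab nac.symm nbc.symm] at h5
      revert h5
      decide
  -- the normaliser of the point
  have hNr : normalizer (R i0 : Set G) = centralizer ({r} : Set G) := by
    rw [h0, MinSimple.Basic.normalizer_zpowers_eq (by rw [pow_two]; exact hrr)]
  have hrR : r ∈ R i0 := by rw [h0]; exact mem_zpowers r
  set K := centralizer ({r} : Set G) with hK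
  rw [hNr] at hN
  have hRK : ∀ x, x ∈ R i0 → x = 1 ∨ x = r := fun x hx => hz _ _ hrV (by rwa [h0] at hx)
  have hKr : ∀ g ∈ K, g * r = r * g := fun g hg => (mem_centralizer_iff.1 hg r rfl).symm
  -- `E = R i0 Λ`
  set Ξ := R i0 ⊔ Λ with hΞ
  have hKΞ : K ≤ normalizer (Ξ : Set G) := by
    intro g hg
    have hgR : g ∈ normalizer (R i0 : Set G) := by rw [hNr]; exact hg
    rw [← cj_eq_self_iff, hΞ, cj_sup, cj_eq_self_iff.2 hgR, cj_eq_self_iff.2 (hN hg)]
  have hΞm : ∀ l ∈ Ξ, ∃ a' ∈ R i0, a' * l ∈ CenX L R := by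
    intro l hl
    have h3 : Ξ ≤ RC B.toBT i0 := by
      refine sup_le (fun a' ha => ⟨a'⁻¹, inv_mem ha, ?_⟩) hΛ
      rw [inv_mul_cancel]
      exact one_mem _
    exact h3 hl
  have hE0 : Ξ ⊓ CenX L R ≠ ⊥ := by
    intro h'
    apply hΛR
    intro x hx
    obtain ⟨a', ha, hm⟩ := hΛ x hx
    have h3 : a' * x ∈ Ξ ⊓ CenX L R :=
      ⟨mul_mem ((le_sup_left : R i0 ≤ Ξ) ha) ((le_sup_right : Λ ≤ Ξ) hx), hm⟩
    rw [h', mem_bot, mul_eq_one_iff_eq_inv] at h3
    have h4 : x = a'⁻¹ := by rw [h3, inv_inv]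
    rw [h4]; exact inv_mem ha
  have hTΞ : T ≤ normalizer ((Ξ ⊓ CenX L R : Subgroup G) : Set G) := by
    intro s hs
    have h3 := B.toBT.NV_le_NCenX (hTL hs)
    rw [← cj_eq_self_iff, cj_inf, cj_eq_self_iff.2 (hKΞ hs.2), cj_eq_self_iff.2 h3]
  have hCT : Ξ ⊓ CenX L R ≤ T := by
    have h3 : CenX L R ≤ QQ (R i0) := (B.CenX_le_C).trans (iInf_le _ i0)
    have h4 : QQ (R i0) = o2 K := by
      change o2 (normalizer (R i0 : Set G)) = o2 K
      rw [hNr]
    rw [h4] at h3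
    exact inf_le_right.trans (h3.trans (le_inf hQS (MinSimple.VModule.o2_le K)))
  have hTp : IsPGroup 2 T := S.isPGroup'.to_le inf_le_left
  obtain ⟨f, hf, hf1, hff, hfT⟩ := HT.LemE.exists_inv hTp hE0 hCT hTΞ
  -- `f ∈ V`
  have hfV : f ∈ V := by
    have hQT : o2 P ≤ T := by
      refine le_inf h.QS fun g hg => ?_
      rw [mem_centralizer_iff]
      rintro _ rfl
      exact (mem_centralizer_iff.1 ((h.Q_eq.le hg).2) r hrV)
    have h3 : f ∈ centralizer (o2 P : Set G) := by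
      rw [mem_centralizer_iff]
      exact fun g hg => (hfT g (hQT hg)).symm
    have h4 : f ∈ zc (o2 P) :=
      MinSimple.VModule.mem_zc.2 ⟨h.cQ h3, fun g hg => mem_centralizer_iff.1 h3 g hg,
        by rw [pow_two]; exact hff⟩
    exact zv h4
  have hfX : f ∈ CenX L R := hf.2
  -- `V`-action of `X`
  have hXK : ∀ i, WW L (R i) ≤ XX L R := fun i => W_le_X L R i
  have hQi : ∀ i, WW L (R i) ≤ QQ (R i) := B.toBT.W_le_Q
  have hLV : L ≤ V := by
    rw [← B.toBT.R_sup i0 i1 hi01, h0, h1]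
    exact sup_le (zpowers_le.2 hrV) (zpowers_le.2 (pr_mem M a c))
  have hbc : b.1 = c.1 := hab.symm.trans hac
  have e1 : ∀ p : Pt k m, E M (1 : G) p = 0 := by
    intro p
    have := Half.SymA.E_mul M (one_mem V) (one_mem V) p
    rw [mul_one] at this
    revert this
    generalize E M 1 p = e
    revert e
    decide
  have hi12 : i1 ≠ i2 := by
    rintro rfl
    have h3 : pr M b c ∈ zpowers (pr M a c) := by rw [← h1, h2]; exact mem_zpowers _
    have h5 := E_pr_left M hbc nbc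
    rcases hz _ _ (pr_mem M a c) h3 with h4 | h4
    · rw [h4, e1] at h5
      revert h5; decide
    · rw [h4, E_pr_of_ne M hac nab.symm nbc] at h5
      revert h5; decide
  -- elements of `X` swapping two letters
  obtain ⟨g, hgN, hgt⟩ := B.toBT.mt i0
  obtain ⟨⟨v, hvL, hv⟩, -⟩ := hgt i1 i2 hi01.symm hi02.symm
  obtain ⟨hx1, hx1P, hx1s⟩ := exists_sw h D hab hac nab nac B.toBT h0 h1 h2 hgN hvL hv
  obtain ⟨g', hgN', hgt'⟩ := B.toBT.mt i2
  obtain ⟨⟨v', hvL', hv'⟩, -⟩ := hgt' i1 i0 hi12 hi02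
  have h2' : R i2 = zpowers (pr M c b) := by rw [h2, pr_comm M hbc]
  have h1' : R i1 = zpowers (pr M c a) := by rw [h1, pr_comm M hac]
  have h0' : R i0 = zpowers (pr M b a) := by rw [h0, hr, pr_comm M hab]
  obtain ⟨hx2, hx2P, hx2s⟩ := exists_sw h D hbc.symm hac.symm nbc.symm nac.symm B.toBT h2' h1' h0' hgN' hvL' hv'
  have hEf : ∀ x ∈ XX L R, x ∈ P → ∀ p, E M f (pp M x p) = E M f p := fun x hx hxP =>
    (h.comm_iff hxP hfV).1 (mem_centralizer_iff.1 hfX x hx)
  have hE1 : E M f a = E M f b := by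
    have := hEf _ hx1 hx1P b
    rwa [hx1s, Equiv.swap_apply_right] at this
  have hE2 : E M f b = E M f c := by
    have := hEf _ hx2 hx2P c
    rwa [hx2s, Equiv.swap_apply_left] at this
  obtain ⟨p, q, hpq, hpa, hpb, hqa, hqb, hne⟩ := exists_sep (M := M) h.hm1 hab hac nac nbc hfV hf1 hE1
    (hE1.trans hE2)
  have npq : p ≠ q := fun e => hne (by rw [e])
  obtain ⟨w, hwp, hwa, hwb, hwp', hwq⟩ := exists_third h.hm (a := a) (b := b) (p := p) (q := q)
  -- three duads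
  have m1 : pr M p q ∈ Ξ := pr_mem_of h hab hpq hpa hpb hqa hqb hKΞ hfV hf.1 hne
  have m2 : pr M q w ∈ Ξ := pr_mem_of_pr h hab hpq hwp hqa hqb hwa hwb npq hwp' hwq hKΞ m1
  have m3 : pr M p w ∈ Ξ := by
    rw [← pr_mul M hpq (hpq.symm.trans hwp.symm)]
    exact mul_mem m1 m2
  have hgK : g ∈ K := by rw [← hNr]; exact hgN
  have hgr : g * r * g⁻¹ = r := by rw [hKr g hgK, mul_inv_cancel_right]
  have hcase : ∀ y ∈ Ξ, g * y * g⁻¹ ∈ CenX L R ∨ r * (g * y * g⁻¹) ∈ CenX L R := by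
    intro y hy
    obtain ⟨a', ha', hm'⟩ := hΞm _ (conj_mem_of_normalizer (hKΞ hgK) hy)
    rcases hRK a' ha' with rfl | rfl
    · rw [one_mul] at hm'; exact Or.inl hm'
    · exact Or.inr hm'
  have hkill : ∀ p q : Pt k m, p.1 = q.1 → p ≠ q → p ≠ a → p ≠ b → q ≠ a → q ≠ b →
      g * pr M p q * g⁻¹ ∈ CenX L R → False := fun p q e1 e2 e3 e4 e5 e6 e7 =>
    kill D hab e1 e2 e3 e4 e5 e6 B.toBT hLV hi12 hr1 hgr hrR hvL hv e7
  have hrc : ∀ y ∈ V, r * (g * y * g⁻¹) = g * y * g⁻¹ * r := by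
    intro y hy
    calc r * (g * y * g⁻¹) = (g * r * g⁻¹) * (g * y * g⁻¹) := by rw [hgr]
      _ = g * (r * y) * g⁻¹ := by group
      _ = g * (y * r) * g⁻¹ := by rw [h.Vcomm hrV hy]
      _ = g * y * g⁻¹ * (g * r * g⁻¹) := by group
      _ = g * y * g⁻¹ * r := by rw [hgr]
  rcases hcase _ m1 with c1 | c1
  · exact hkill p q hpq npq hpa hpb hqa hqb c1
  rcases hcase _ m2 with c2 | c2
  · exact hkill q w (hpq.symm.trans hwp.symm) hwq.symm hqa hqb hwa hwb c2
  rcases hcase _ m3 with c3 | c3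
  · exact hkill p w hwp.symm hwp'.symm hpa hpb hwa hwb c3
  -- `r ∈ C_X`
  have hrX : r ∈ CenX L R := by
    have h3 := mul_mem (mul_mem c1 c2) c3
    have h4 : r * (g * pr M p q * g⁻¹) * (r * (g * pr M q w * g⁻¹)) * (r * (g * pr M p w * g⁻¹)) = r := by
      have h5 : pr M p q * pr M q w * pr M p w = 1 := by
        rw [pr_mul M hpq (hpq.symm.trans hwp.symm)]
        exact h.Vsq (pr_mem M p w)
      calc r * (g * pr M p q * g⁻¹) * (r * (g * pr M q w * g⁻¹)) * (r * (g * pr M p w * g⁻¹))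
          = r * ((g * pr M p q * g⁻¹) * r) * (g * pr M q w * g⁻¹) * (r * (g * pr M p w * g⁻¹)) := by group
        _ = r * (r * (g * pr M p q * g⁻¹)) * (g * pr M q w * g⁻¹) * (r * (g * pr M p w * g⁻¹)) := by
            rw [hrc _ (pr_mem M p q)]
        _ = (r * r) * (g * (pr M p q * pr M q w) * g⁻¹) * (r * (g * pr M p w * g⁻¹)) := by group
        _ = (g * (pr M p q * pr M q w) * g⁻¹ * r) * (g * pr M p w * g⁻¹) := by rw [hrr]; group
        _ = r * (g * (pr M p q * pr M q w) * g⁻¹) * (g * pr M p w * g⁻¹) := by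
            rw [hrc _ (mul_mem (pr_mem M p q) (pr_mem M q w))]
        _ = r * (g * (pr M p q * pr M q w * pr M p w) * g⁻¹) := by group
        _ = r := by rw [h5]; group
    rwa [h4] at h3
  obtain ⟨x, hx, hxR⟩ := B.toBT.trans_X_one i0 i1
  have h3 : x * r * x⁻¹ = r := by rw [mem_centralizer_iff.1 hrX x hx, mul_inv_cancel_right]
  have h4 : r ∈ R i1 := by
    rw [← hxR, ← h3]
    exact conj_mem_cj hrR
  exact hr1 (B.toBT.eq_one hi01 hrR h4)

end main

end Cfsg.Agent.Omega.IId.SymWr.Ht.LE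

end

private theorem dce_071aefd4fcd3 : _root_.True := by
  try have : _root_.True := by simp only [_root_.Cfsg.Agent.Omega.IId.SymWr.stab.congr_simp]
  exact _root_.True.intro
end

-- part: Mrg/Omega/IId/SymWrD/Base
section
prune_inst 0x100001004422000000000000200000006000000000230000210008000008010180008700008012000100a22000000020000000490000000000000000000000000002020000400000000000008000000000000000000000000000000000000000000000000
set_option linter.all false
open scoped Cfsg.Agent.FastGrp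

section


/-!
# II.d, `SwBig`, `SwCv` (copy of `SymWr/Base.lean` for `D` arbitrary): the interface for THEOREM L (bb OMEGA #17498, helper142)

`M : SymK S P V ⊥ k m`: `V` is the sum of `k` even-subset modules of degree `2 ^ m + 1`.

* `pp M g` : the permutation of the points induced by `g ∈ P` (`pp_mul`, `pp_inv`, `pp_fst`, `pp_snd`, `exists_pp`);
* `Sit S P V M` : the situation (`V ≤ Ω₁Z(O₂(P))`, `O₂(P) = C_S(V)`, `C_G(O₂(P)) ≤ O₂(P)`);
* `Sit.induced` : a 2-group of permutations of the points inside the summands which is normalised by `S` is induced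
  by `S`.
-/

set_option autoImplicit false

namespace Cfsg.Agent.Omega.IId.SymWrD

open Subgroup Pointwise Cfsg Cfsg.Agent.ZN Cfsg.Agent.Omega.MinPar Cfsg.Agent.Omega.FFThm
open Cfsg.Agent.Omega.Half (Amb amb_of_loc)
open Cfsg.Agent.Omega.Half.SymA (Pt E Mv pm Amb0)
open Cfsg.Agent.MinSimple.VModule (mem_zc zc_le zc_comm zc_sq zc_le_zl le_normalizer_o2 o2_isPGroup o2_le
  normalizer_le_normalizer_zc le_normalizer_zl)

universe u

variable {G : Type u} [Group G] {T P V : Subgroup G} {k m : ℕ}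

section pp

variable (M : SymK T P V ⊥ k m)

open scoped Classical in
/-- the permutation of the points induced by `g` -/
noncomputable def pp (g : G) : Equiv.Perm (Pt k m) := if h : ∃ π, Mv M g π then h.choose else 1

variable {M}

theorem mv_pp {g : G} (hg : g ∈ P) : Mv M g (pp M g) := by
  obtain ⟨π, hπ, -⟩ := Half.SymA.exists_mv (M := M) hg
  have h : ∃ π, Mv M g π := ⟨π, hπ⟩
  rw [pp, dif_pos h]
  exact h.choose_spec

/-- the characteristic function of a conjugate -/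
theorem E_conj {g : G} (hg : g ∈ P) {v : G} (hv : v ∈ V) (p : Pt k m) :
    E M (g * v * g⁻¹) (pp M g p) = E M v p := mv_pp hg v hv p

section amb

variable (hA : Amb0 T P V) (hm : 1 ≤ m)

include hA hm

theorem pp_eq {g : G} (hg : g ∈ P) {π : Equiv.Perm (Pt k m)} (hπ : Mv M g π) : pp M g = π :=
  (mv_pp hg).unique0 hA hm hπ hg

theorem pp_one : pp M 1 = 1 := pp_eq hA hm (one_mem P) (Half.SymA.Mv_one M)

theorem pp_mul {g h : G} (hg : g ∈ P) (hh : h ∈ P) : pp M (g * h) = pp M g * pp M h :=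
  pp_eq hA hm (mul_mem hg hh) ((mv_pp hg).mul0 hA (mv_pp hh) hh)

theorem pp_inv {g : G} (hg : g ∈ P) : pp M g⁻¹ = (pp M g)⁻¹ :=
  pp_eq hA hm (inv_mem hg) ((mv_pp hg).inv0 hA hg)

theorem pp_conj {g h : G} (hg : g ∈ P) (hh : h ∈ P) : pp M (g * h * g⁻¹) = pp M g * pp M h * (pp M g)⁻¹ := by
  rw [pp_mul hA hm (mul_mem hg hh) (inv_mem hg), pp_mul hA hm hg hh, pp_inv hA hm hg]

theorem pp_fst {g : G} (hg : g ∈ P) {p q : Pt k m} (hpq : p.1 = q.1) : (pp M g p).1 = (pp M g q).1 :=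
  (mv_pp hg).fst0 hA hm hg hpq

theorem pp_fst_iff {g : G} (hg : g ∈ P) {p q : Pt k m} : (pp M g p).1 = (pp M g q).1 ↔ p.1 = q.1 := by
  refine ⟨fun h => ?_, pp_fst hA hm hg⟩
  have h1 := pp_fst hA hm (M := M) (inv_mem hg) h
  rw [pp_inv hA hm hg] at h1
  have h2 : ∀ r, (pp M g)⁻¹ (pp M g r) = r := fun r => (pp M g).symm_apply_apply r
  rwa [h2, h2] at h1

theorem pp_snd {t : G} (ht : t ∈ T) {p : Pt k m} : (pp M t p).2 = 0 ↔ p.2 = 0 :=
  (mv_pp (hA.TH ht)).snd0 hA hm ht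

omit hA hm in
theorem E_conj' {g : G} (hg : g ∈ P) {v : G} (hv : v ∈ V) (p : Pt k m) :
    E M (g * v * g⁻¹) p = E M v ((pp M g)⁻¹ p) := by
  have h := E_conj (M := M) hg hv ((pp M g)⁻¹ p)
  rwa [show pp M g ((pp M g)⁻¹ p) = p from (pp M g).apply_symm_apply p] at h

/-- the kernel of the action -/
theorem pp_eq_one_iff {g : G} (hg : g ∈ P) : pp M g = 1 ↔ g ∈ centralizer (V : Set G) := by
  constructor
  · intro h
    rw [mem_centralizer_iff]
    intro v hv
    have h1 : g * v * g⁻¹ = v := by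
      refine Half.SymA.inj M (hA.conj_mem hg hv) hv fun p => ?_
      have := E_conj (M := M) hg hv p
      rwa [h] at this
    rw [mul_inv_eq_iff_eq_mul] at h1
    exact h1.symm
  · intro h
    refine pp_eq hA hm hg fun v hv p => ?_
    rw [mem_centralizer_iff] at h
    have h1 : g * v * g⁻¹ = v := by rw [← h v hv, mul_inv_cancel_right]
    rw [h1]
    rfl

theorem pp_eq_iff {g h : G} (hg : g ∈ P) (hh : h ∈ P) : pp M g = pp M h ↔ g⁻¹ * h ∈ centralizer (V : Set G) := by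
  rw [← pp_eq_one_iff hA hm (M := M) (mul_mem (inv_mem hg) hh), pp_mul hA hm (inv_mem hg) hh, pp_inv hA hm hg,
    inv_mul_eq_one]

end amb

/-- every permutation inside the summands is induced by an element of `P` -/
theorem exists_mv_of_fst (M : SymK T P V ⊥ k m) {π : Equiv.Perm (Pt k m)} (h : ∀ p, (π p).1 = p.1) :
    ∃ g ∈ P, Mv M g π := by
  have hsymm : ∀ p, (π.symm p).1 = p.1 := fun p => by
    have := h (π.symm p)
    rw [π.apply_symm_apply] at this
    exact this.symm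
  let τ : Fin k → Equiv.Perm (Fin (2 ^ m + 1)) := fun i =>
    { toFun := fun x => (π (i, x)).2
      invFun := fun x => (π.symm (i, x)).2
      left_inv := fun x => by
        have h1 : ((i, (π (i, x)).2) : Pt k m) = π (i, x) := Prod.ext (h (i, x)).symm rfl
        simp only [h1, π.symm_apply_apply]
      right_inv := fun x => by
        have h1 : ((i, (π.symm (i, x)).2) : Pt k m) = π.symm (i, x) := Prod.ext (hsymm (i, x)).symm rfl
        simp only [h1, π.apply_symm_apply] }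
  obtain ⟨g, hg, h1, -⟩ := M.lift τ
  refine ⟨g, hg, ?_⟩
  have h2 := Half.SymA.mv_pm M h1
  have h3 : pm 1 τ = π := by
    ext1 p
    exact Prod.ext (h p).symm rfl
  rwa [h3] at h2

theorem exists_pp (hA : Amb0 T P V) (hm : 1 ≤ m) (M : SymK T P V ⊥ k m) {π : Equiv.Perm (Pt k m)}
    (h : ∀ p, (π p).1 = p.1) : ∃ g ∈ P, pp M g = π := by
  obtain ⟨g, hg, h1⟩ := exists_mv_of_fst M h
  exact ⟨g, hg, pp_eq hA hm hg h1⟩

/-- the action as a homomorphism -/
noncomputable def hom (hA : Amb0 T P V) (hm : 1 ≤ m) (M : SymK T P V ⊥ k m) : P →* Equiv.Perm (Pt k m) where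
  toFun g := pp M g
  map_one' := pp_one hA hm
  map_mul' a b := pp_mul hA hm a.2 b.2

end pp

/-- **The situation.** -/
structure Sit (S : Sylow 2 G) (P V : Subgroup G) {k m : ℕ} (M : SymK (S : Subgroup G) P V ⊥ k m) : Prop where
  amb : Amb0 (S : Subgroup G) P V
  hm : 2 ≤ m
  hk : 0 < k
  VZ : V ≤ zc (o2 P)
  Q_eq : o2 P = (S : Subgroup G) ⊓ centralizer (V : Set G)
  cQ : centralizer (o2 P : Set G) ≤ o2 P
  cZ : P ⊓ centralizer (V : Set G) ≤ centralizer (zc (o2 P) : Set G)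

/-- the case `D = 1` -/
theorem Sit.of_sit {S : Sylow 2 G} {M : SymK (S : Subgroup G) P V ⊥ k m} (h : SymWr.Sit S P V M) : Sit S P V M :=
  ⟨h.amb.to0, h.hm, h.hk, h.VZ, h.Q_eq, h.cQ, h.cZ⟩

/-- **The situation, `D` arbitrary**: `V_P = V × D`, `D` is centralised by `P`. -/
structure SitD (S : Sylow 2 G) (P V D : Subgroup G) {k m : ℕ} (M : SymK (S : Subgroup G) P V ⊥ k m) : Prop extends
    Sit S P V M where
  DZ : D ≤ zc (o2 P)
  cenD : ∀ g ∈ P, ∀ d ∈ D, g * d = d * g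
  disj : V ⊓ D = ⊥
  zcVD : zc (S : Subgroup G) ≤ V ⊔ D

/-- the case `D = 1` -/
theorem SitD.of_sit {S : Sylow 2 G} {M : SymK (S : Subgroup G) P V ⊥ k m} (h : SymWr.Sit S P V M) :
    SitD S P V ⊥ M where
  toSit := Sit.of_sit h
  DZ := bot_le
  cenD := fun g _ d hd => by rw [mem_bot.1 hd, mul_one, one_mul]
  disj := inf_bot_eq V
  zcVD := h.amb.zc.trans le_sup_left

namespace Sit

variable {S : Sylow 2 G} {M : SymK (S : Subgroup G) P V ⊥ k m} (h : Sit S P V M)

include h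

theorem hm1 : 1 ≤ m := (by norm_num : 1 ≤ 2).trans h.hm

theorem SP : (S : Subgroup G) ≤ P := h.amb.TH

theorem VS : V ≤ (S : Subgroup G) := h.amb.VT

theorem QS : o2 P ≤ (S : Subgroup G) := h.Q_eq.le.trans inf_le_left

theorem mul {g h' : G} (hg : g ∈ P) (hh : h' ∈ P) : pp M (g * h') = pp M g * pp M h' := pp_mul h.amb h.hm1 hg hh

theorem inv {g : G} (hg : g ∈ P) : pp M g⁻¹ = (pp M g)⁻¹ := pp_inv h.amb h.hm1 hg

theorem one : pp M 1 = 1 := pp_one h.amb h.hm1

theorem conj {g h' : G} (hg : g ∈ P) (hh : h' ∈ P) : pp M (g * h' * g⁻¹) = pp M g * pp M h' * (pp M g)⁻¹ :=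
  pp_conj h.amb h.hm1 hg hh

theorem fst {g : G} (hg : g ∈ P) {p q : Pt k m} (hpq : p.1 = q.1) : (pp M g p).1 = (pp M g q).1 :=
  pp_fst h.amb h.hm1 hg hpq

theorem snd {t : G} (ht : t ∈ (S : Subgroup G)) {p : Pt k m} : (pp M t p).2 = 0 ↔ p.2 = 0 :=
  pp_snd h.amb h.hm1 ht

theorem eq_one_iff {g : G} (hg : g ∈ P) : pp M g = 1 ↔ g ∈ centralizer (V : Set G) := pp_eq_one_iff h.amb h.hm1 hg

theorem mem_Q_iff {s : G} (hs : s ∈ (S : Subgroup G)) : s ∈ o2 P ↔ pp M s = 1 := by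
  rw [h.Q_eq, mem_inf, h.eq_one_iff (h.SP hs)]
  exact ⟨fun h1 => h1.2, fun h1 => ⟨hs, h1⟩⟩

theorem exists_pp {π : Equiv.Perm (Pt k m)} (hπ : ∀ p, (π p).1 = p.1) : ∃ g ∈ P, pp M g = π :=
  SymWrD.exists_pp h.amb h.hm1 M hπ

variable [Finite G]

theorem trans {p q : Pt k m} (hp : p.2 ≠ 0) (hq : q.2 ≠ 0) : ∃ s ∈ (S : Subgroup G), pp M s p = q := by
  obtain ⟨t, ht, π, hπ, h1⟩ := Half.SymA.trans_pts0 S h.amb h.hm1 (M := M) hp hq
  exact ⟨t, ht, by rw [pp_eq h.amb h.hm1 (h.SP ht) hπ, h1]⟩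

/-- the image of `S` in the permutations of the points -/
theorem induced {D : Subgroup (Equiv.Perm (Pt k m))} (hD : IsPGroup 2 D)
    (hfst : ∀ δ ∈ D, ∀ p, (δ p).1 = p.1)
    (hn : ∀ s ∈ (S : Subgroup G), ∀ δ ∈ D, pp M s * δ * (pp M s)⁻¹ ∈ D) {δ : Equiv.Perm (Pt k m)} (hδ : δ ∈ D) :
    ∃ s ∈ (S : Subgroup G), pp M s = δ := by
  have : Fact (Nat.Prime 2) := ⟨Nat.prime_two⟩
  set φ := (hom h.amb h.hm1 M).rangeRestrict with hφ
  have hsurj : Function.Surjective φ := MonoidHom.rangeRestrict_surjective _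
  set S1 : Sylow 2 P := S.subtype h.SP with hS1
  set S2 : Sylow 2 (hom h.amb h.hm1 M).range := S1.mapSurjective hsurj with hS2
  -- `D ≤ range`
  have hle : D ≤ (hom h.amb h.hm1 M).range := by
    intro d hd
    obtain ⟨g, hg, h1⟩ := h.exists_pp (hfst d hd)
    exact ⟨⟨g, hg⟩, h1⟩
  set D' : Subgroup (hom h.amb h.hm1 M).range := D.subgroupOf _ with hD'
  have hD2 : IsPGroup 2 D' := hD.comap_of_injective _ Subtype.coe_injective
  have hmem : ∀ x : (hom h.amb h.hm1 M).range, x ∈ (S2 : Subgroup _) → ∃ s ∈ (S : Subgroup G), pp M s = x := by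
    intro x hx
    have h1 : x ∈ (S1 : Subgroup P).map φ := hx
    obtain ⟨s, hs, rfl⟩ := h1
    have h2 : s ∈ (S : Subgroup G).subgroupOf P := hs
    exact ⟨s, mem_subgroupOf.1 h2, rfl⟩
  have hnorm : (S2 : Subgroup _) ≤ normalizer (D' : Set (hom h.amb h.hm1 M).range) := by
    intro x hx
    obtain ⟨s, hs, h1⟩ := hmem x hx
    refine MinSimple.VModule.mem_normalizer_of_map_le ?_
    rintro _ ⟨d, hd, rfl⟩
    have h2 : (d : Equiv.Perm (Pt k m)) ∈ D := mem_subgroupOf.1 hd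
    change ((MulAut.conj x) d) ∈ D'
    rw [hD', mem_subgroupOf]
    have h3 : (((MulAut.conj x) d : (hom h.amb h.hm1 M).range) : Equiv.Perm (Pt k m)) =
        pp M s * (d : Equiv.Perm (Pt k m)) * (pp M s)⁻¹ := by
      rw [MulAut.conj_apply, Subgroup.coe_mul, Subgroup.coe_mul, Subgroup.coe_inv, ← h1]
    rw [h3]
    exact hn s hs _ h2
  have hsup : IsPGroup 2 ((S2 : Subgroup _) ⊔ D' : Subgroup (hom h.amb h.hm1 M).range) :=
    S2.isPGroup'.to_sup_of_normal_right' hD2 hnorm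
  have heq := S2.is_maximal' hsup le_sup_left
  have h1 : (⟨δ, hle hδ⟩ : (hom h.amb h.hm1 M).range) ∈ (S2 : Subgroup _) := by
    rw [← heq]
    exact mem_sup_right (mem_subgroupOf.2 hδ)
  exact hmem _ h1

end Sit

end Cfsg.Agent.Omega.IId.SymWrD

end

section


/-!
# II.d, `SwBig`, `SwCv` (copy of `SymWr/Fours.lean` for `D` arbitrary): the pairs and the 4-blocks of `S` on the points (THEOREM L, bb OMEGA #17498)

`Fours M μ ν` : `μ`, `ν` are commuting involutions of the points; the `{p, μ p}` (`p.2 ≠ 0`) are the `S`-pairs and the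
`{p, μ p, ν p, μ (ν p)}` the 4-blocks.

* `exists_fours` : existence;
* `Fours.FA`, `Fours.FD` : the group of the permutations preserving all pairs, and the group of the permutations
  preserving all 4-blocks and permuting the pairs; 2-groups (`FA_isPGroup`, `FD_isPGroup`) normalised by `S`;
* `Fours.A`, `Fours.D` : their preimages in `S`; `exists_A`, `exists_D` : all of `FA`, `FD` is induced by `S`.
-/

set_option autoImplicit false

namespace Cfsg.Agent.Omega.IId.SymWrD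

open Cfsg.Agent.Omega.IId.SymWr
open Subgroup Pointwise Cfsg Cfsg.Agent.ZN Cfsg.Agent.Omega.MinPar Cfsg.Agent.Omega.FFThm
open Cfsg.Agent.Omega.Half (Amb amb_of_loc)
open Cfsg.Agent.Omega.Half.SymA (Pt E Mv pm)

universe u

variable {G : Type u} [Group G] {P V : Subgroup G} {k m : ℕ}

/-- The pairs `{p, μ p}` and the 4-blocks `{p, μ p, ν p, μ (ν p)}` of `S`. -/
structure Fours {S : Subgroup G} (M : SymK S P V ⊥ k m) (μ ν : Equiv.Perm (Pt k m)) : Prop where
  mfst : ∀ p, (μ p).1 = p.1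
  nfst : ∀ p, (ν p).1 = p.1
  mzero : ∀ p, p.2 = 0 → μ p = p
  nzero : ∀ p, p.2 = 0 → ν p = p
  mne : ∀ p, p.2 ≠ 0 → μ p ≠ p
  nne : ∀ p, p.2 ≠ 0 → ν p ≠ p
  nmu : ∀ p, p.2 ≠ 0 → ν p ≠ μ p
  msq : ∀ p, μ (μ p) = p
  nsq : ∀ p, ν (ν p) = p
  comm : ∀ p, μ (ν p) = ν (μ p)
  meqv : ∀ s ∈ S, ∀ p, pp M s (μ p) = μ (pp M s p)
  neqv : ∀ s ∈ S, ∀ p, pp M s (ν p) = ν (pp M s p) ∨ pp M s (ν p) = μ (ν (pp M s p))

namespace Fours

section basic

variable {S : Subgroup G} {M : SymK S P V ⊥ k m} {μ ν : Equiv.Perm (Pt k m)} (F : Fours M μ ν)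

include F

theorem mnz {p : Pt k m} : (μ p).2 = 0 ↔ p.2 = 0 := by
  constructor
  · intro h
    by_contra h0
    have h1 := F.mzero _ h
    rw [F.msq] at h1
    exact F.mne p h0 h1.symm
  · intro h
    rw [F.mzero p h, h]

theorem nnz {p : Pt k m} : (ν p).2 = 0 ↔ p.2 = 0 := by
  constructor
  · intro h
    by_contra h0
    have h1 := F.nzero _ h
    rw [F.nsq] at h1
    exact F.nne p h0 h1.symm
  · intro h
    rw [F.nzero p h, h]

end basic

end Fours

section exist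

variable [Finite G] {S : Sylow 2 G} {M : SymK (S : Subgroup G) P V ⊥ k m} (h : Sit S P V M)

/-- the stabiliser of a point in `S` -/
noncomputable def stab (h : Sit S P V M) (x : Pt k m) : Subgroup G where
  carrier := {s | s ∈ (S : Subgroup G) ∧ pp M s x = x}
  mul_mem' := by
    rintro a b ⟨ha, h1⟩ ⟨hb, h2⟩
    refine ⟨mul_mem ha hb, ?_⟩
    rw [h.mul (h.SP ha) (h.SP hb), Equiv.Perm.mul_apply, h2, h1]
  one_mem' := ⟨one_mem _, by rw [h.one]; rfl⟩
  inv_mem' := by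
    rintro a ⟨ha, h1⟩
    refine ⟨inv_mem ha, ?_⟩
    rw [h.inv (h.SP ha), Equiv.Perm.inv_eq_iff_eq, h1]

/-- the stabiliser of a summand in `S` -/
noncomputable def stabB (h : Sit S P V M) (x : Pt k m) : Subgroup G where
  carrier := {s | s ∈ (S : Subgroup G) ∧ (pp M s x).1 = x.1}
  mul_mem' := by
    rintro a b ⟨ha, h1⟩ ⟨hb, h2⟩
    refine ⟨mul_mem ha hb, ?_⟩
    rw [h.mul (h.SP ha) (h.SP hb), Equiv.Perm.mul_apply, h.fst (h.SP ha) h2, h1]
  one_mem' := ⟨one_mem _, by rw [h.one]; rfl⟩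
  inv_mem' := by
    rintro a ⟨ha, h1⟩
    refine ⟨inv_mem ha, ?_⟩
    have h2 := h.fst (inv_mem (h.SP ha)) h1
    rw [h.inv (h.SP ha), show (pp M a)⁻¹ (pp M a x) = x from (pp M a).symm_apply_apply x] at h2
    rw [h.inv (h.SP ha)]
    exact h2.symm

omit [Finite G] in
theorem mem_stab {h : Sit S P V M} {x : Pt k m} {s : G} : s ∈ stab h x ↔ s ∈ (S : Subgroup G) ∧ pp M s x = x := Iff.rfl

omit [Finite G] in
theorem card_mul_relIndex {A K : Subgroup G} (h : A ≤ K) : Nat.card A * A.relIndex K = Nat.card K := by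
  have h1 := relIndex_mul_relIndex (⊥ : Subgroup G) A K bot_le h
  rwa [relIndex_bot_left, relIndex_bot_left] at h1

/-- two proper subgroups between a subgroup of index `≥ 4` and a 2-group -/
theorem exists_chain {A T : Subgroup G} (hT : IsPGroup 2 T) (hAT : A ≤ T) (h4 : 4 ∣ A.relIndex T) :
    ∃ K L : Subgroup G, A ≤ K ∧ K ≤ L ∧ L ≤ T ∧ A.relIndex K = 2 ∧ K.relIndex L = 2 := by
  have : Fact (Nat.Prime 2) := ⟨Nat.prime_two⟩
  obtain ⟨n, hn⟩ := IsPGroup.iff_card.1 hT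
  obtain ⟨a, ha⟩ := IsPGroup.iff_card.1 (hT.to_le hAT)
  have hmul : Nat.card A * A.relIndex T = Nat.card T := card_mul_relIndex hAT
  have han : a + 2 ≤ n := by
    obtain ⟨c, hc⟩ := h4
    have h1 : 2 ^ (a + 2) ∣ 2 ^ n := ⟨c, by rw [← hn, ← hmul, ha, hc, pow_add]; ring⟩
    exact (Nat.pow_dvd_pow_iff_le_right (by norm_num)).1 h1
  have hA' : Nat.card (A.subgroupOf T) = 2 ^ a := by
    rw [← ha]
    exact Nat.card_congr (Subgroup.subgroupOfEquivOfLe hAT).toEquiv
  obtain ⟨K', hK', hAK⟩ := Sylow.exists_subgroup_card_pow_prime_le (G := T) 2 (n := a) (m := a + 1)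
    (by rw [hn]; exact pow_dvd_pow 2 (by omega)) _ hA' (by omega)
  obtain ⟨L', hL', hKL⟩ := Sylow.exists_subgroup_card_pow_prime_le (G := T) 2 (n := a + 1) (m := a + 2)
    (by rw [hn]; exact pow_dvd_pow 2 (by omega)) _ hK' (by omega)
  have hcard : ∀ R : Subgroup T, Nat.card (R.map T.subtype) = Nat.card R := fun R =>
    (Nat.card_congr (Subgroup.equivMapOfInjective R _ T.subtype_injective).toEquiv).symm
  have hAK' : A ≤ K'.map T.subtype := fun x hx => ⟨⟨x, hAT hx⟩, hAK (mem_subgroupOf.2 hx), rfl⟩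
  have hKL' : K'.map T.subtype ≤ L'.map T.subtype := Subgroup.map_mono hKL
  refine ⟨K'.map T.subtype, L'.map T.subtype, hAK', hKL', map_subtype_le _, ?_, ?_⟩
  · have h1 := card_mul_relIndex hAK'
    rw [hcard, hK', ha, pow_succ] at h1
    exact Nat.eq_of_mul_eq_mul_left (by positivity) h1
  · have h1 := card_mul_relIndex hKL'
    rw [hcard, hcard, hK', hL', pow_succ] at h1
    exact Nat.eq_of_mul_eq_mul_left (by positivity) h1

omit [Finite G] in
theorem stab_le (x : Pt k m) : stab h x ≤ stabB h x := fun s hs => ⟨hs.1, by rw [hs.2]⟩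

seal _root_.Finset.card in
theorem relIndex_stab {x : Pt k m} (hx : x.2 ≠ 0) : (stab h x).relIndex (stabB h x) = 2 ^ m := by
  let f : stabB h x →* Equiv.Perm (Pt k m) :=
    { toFun := fun s => pp M s
      map_one' := h.one
      map_mul' := fun a b => h.mul (h.SP a.2.1) (h.SP b.2.1) }
  letI : MulAction (stabB h x) (Pt k m) := MulAction.compHom _ f
  have hsm : ∀ (s : stabB h x) (y : Pt k m), s • y = pp M s y := fun _ _ => rfl
  have h1 : (stab h x).subgroupOf (stabB h x) = MulAction.stabilizer (stabB h x) x := by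
    ext s
    rw [mem_subgroupOf, MulAction.mem_stabilizer_iff, hsm, mem_stab]
    exact ⟨fun h1 => h1.2, fun h1 => ⟨s.2.1, h1⟩⟩
  rw [relIndex, h1, MulAction.index_stabilizer]
  have h2 : MulAction.orbit (stabB h x) x = (fun y : Fin (2 ^ m + 1) => ((x.1, y) : Pt k m)) '' {y | y ≠ 0} := by
    ext q
    constructor
    · rintro ⟨s, rfl⟩
      refine ⟨(pp M s x).2, fun h0 => hx ((h.snd s.2.1).1 h0), ?_⟩
      exact Prod.ext s.2.2.symm rfl
    · rintro ⟨y, hy, rfl⟩
      obtain ⟨s, hs, h3⟩ := h.trans (p := x) (q := (x.1, y)) hx hy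
      exact ⟨⟨s, hs, by rw [h3]⟩, (by exact h3)⟩
  rw [h2, Set.ncard_image_of_injective _ (fun a b hab => (Prod.ext_iff.1 hab).2)]
  have h3 : {y : Fin (2 ^ m + 1) | y ≠ 0} = ((Finset.univ.erase 0 : Finset (Fin (2 ^ m + 1))) : Set _) := by
    ext y
    simp only [_root_.ne_eq, _root_.Set.mem_ofPred_eq, _root_.Finset.coe_erase, _root_.Finset.coe_univ, _root_.Set.mem_sdiff, _root_.Set.mem_univ, _root_.Set.mem_singleton_iff, _root_.true_and]
  rw [h3, Set.ncard_coe_finset, Finset.card_erase_of_mem (Finset.mem_univ _), Finset.card_univ, Fintype.card_fin]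
  rfl

set_option maxHeartbeats 2000000 in
include h in
/-- **Existence of the pairs and the 4-blocks.** -/
theorem exists_fours : ∃ μ ν, Fours M μ ν := by
  classical
  have hne : ((1 : Fin (2 ^ m + 1)) : Fin (2 ^ m + 1)) ≠ 0 := by
    have h2 : 2 ≤ 2 ^ m := by
      calc 2 = 2 ^ 1 := by norm_num
        _ ≤ 2 ^ m := Nat.pow_le_pow_right (by norm_num) h.hm1
    intro h0
    have h1 := congrArg Fin.val h0
    rw [Fin.val_zero, Fin.val_one', Nat.mod_eq_of_lt (by omega)] at h1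
    exact one_ne_zero h1
  set x₀ : Pt k m := (⟨0, h.hk⟩, 1) with hx₀
  have hx : x₀.2 ≠ 0 := hne
  have h4 : 4 ∣ (stab h x₀).relIndex (stabB h x₀) := by
    rw [relIndex_stab h hx]
    exact (Nat.pow_dvd_pow_iff_le_right (x := 2) (by norm_num)).2 h.hm
  have hT1 : stabB h x₀ ≤ (S : Subgroup G) := fun s hs => hs.1
  obtain ⟨K, L, hStK, hKL, hLT, hK2, hL2⟩ := exists_chain (S.isPGroup'.to_le hT1) (stab_le h x₀) h4
  have hLS : L ≤ (S : Subgroup G) := hLT.trans hT1
  have hKS : K ≤ (S : Subgroup G) := hKL.trans hLS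
  have hStS : stab h x₀ ≤ (S : Subgroup G) := hStK.trans hKS
  obtain ⟨t, htK, htSt⟩ : ∃ t ∈ K, t ∉ stab h x₀ := by
    by_contra h0
    push Not at h0
    have : (stab h x₀).relIndex K = 1 := relIndex_eq_one.2 h0
    omega
  obtain ⟨u, huL, huK⟩ : ∃ u ∈ L, u ∉ K := by
    by_contra h0
    push Not at h0
    have : K.relIndex L = 1 := relIndex_eq_one.2 h0
    omega
  have htS := hKS htK
  have huS := hLS huL
  -- products
  have hmul : ∀ a ∈ (S : Subgroup G), ∀ b ∈ (S : Subgroup G), ∀ p, pp M (a * b) p = pp M a (pp M b p) := by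
    intro a ha b hb p
    rw [h.mul (h.SP ha) (h.SP hb), Equiv.Perm.mul_apply]
  have heq : ∀ a ∈ (S : Subgroup G), ∀ b ∈ (S : Subgroup G), (pp M a x₀ = pp M b x₀ ↔ a⁻¹ * b ∈ stab h x₀) := by
    intro a ha b hb
    rw [mem_stab, hmul _ (inv_mem ha) _ hb, h.inv (h.SP ha), Equiv.Perm.inv_eq_iff_eq]
    exact ⟨fun h1 => ⟨mul_mem (inv_mem ha) hb, h1.symm⟩, fun h1 => h1.2.symm⟩
  have hK : ∀ a ∈ K, ∀ b ∈ K, a ∉ stab h x₀ → b ∉ stab h x₀ → pp M a x₀ = pp M b x₀ := by
    intro a ha b hb h1 h2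
    rw [heq a (hKS ha) b (hKS hb), Half.mul_mem_of_index_two hK2 (inv_mem ha) hb, inv_mem_iff]
    exact iff_of_false h1 h2
  have hnz : ∀ s ∈ (S : Subgroup G), (pp M s x₀).2 ≠ 0 := fun s hs h0 => hx ((h.snd hs).1 h0)
  have hbase : ∀ p : Pt k m, p.2 ≠ 0 → ∃ s ∈ (S : Subgroup G), pp M s x₀ = p := fun p hp => h.trans hx hp
  choose! c hcS hc using hbase
  -- `μ`
  obtain ⟨μ, hμd⟩ : ∃ μ : Pt k m → Pt k m, ∀ p, μ p = if p.2 = 0 then p else pp M (c p * t) x₀ := ⟨_, fun _ => rfl⟩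
  have hμ0 : ∀ p, p.2 = 0 → μ p = p := fun p hp => by rw [hμd, if_pos hp]
  have hμ1 : ∀ p, p.2 ≠ 0 → μ p = pp M (c p * t) x₀ := fun p hp => by rw [hμd, if_neg hp]
  have hμ : ∀ s ∈ (S : Subgroup G), μ (pp M s x₀) = pp M (s * t) x₀ := by
    intro s hs
    have h1 : μ (pp M s x₀) = pp M (c (pp M s x₀) * t) x₀ := hμ1 _ (hnz s hs)
    rw [h1]
    have h2 := hc _ (hnz s hs)
    have h3 := hcS _ (hnz s hs)
    set s' := c (pp M s x₀) with hs'
    rw [heq s' h3 s hs] at h2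
    rw [hmul s' h3 t htS, hmul s hs t htS]
    have h4 : pp M s (pp M t x₀) = pp M s' (pp M (s'⁻¹ * s * t) x₀) := by
      rw [← hmul s hs t htS, ← hmul s' h3 _ (mul_mem (mul_mem (inv_mem h3) hs) htS)]
      congr 2
      group
    rw [h4]
    (with_reducible congr 1)
    refine hK t htK _ (mul_mem (hStK h2) htK) htSt ?_
    intro h5
    exact htSt ((Subgroup.mul_mem_cancel_left _ h2).1 h5)
  have htt : t * t ∈ stab h x₀ := (Half.mul_mem_of_index_two hK2 htK htK).2 Iff.rfl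
  have hfix : ∀ s ∈ (S : Subgroup G), ∀ a ∈ stab h x₀, pp M (s * a) x₀ = pp M s x₀ := by
    intro s hs a ha
    rw [hmul s hs a (hStS ha), ha.2]
  have hμμ : ∀ p, μ (μ p) = p := by
    intro p
    by_cases hp : p.2 = 0
    · rw [hμ0 p hp, hμ0 p hp]
    · conv_lhs => rw [← hc p hp]
      rw [hμ _ (hcS p hp), hμ _ (mul_mem (hcS p hp) htS), mul_assoc, hfix _ (hcS p hp) _ htt, hc p hp]
  have hμne : ∀ p, p.2 ≠ 0 → μ p ≠ p := by
    intro p hp h0
    have h1 : μ p = pp M (c p * t) x₀ := hμ1 p hp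
    rw [h1] at h0
    conv_rhs at h0 => rw [← hc p hp]
    rw [eq_comm, heq _ (hcS p hp) _ (mul_mem (hcS p hp) htS), inv_mul_cancel_left] at h0
    exact htSt h0
  have hμeqv : ∀ s ∈ (S : Subgroup G), ∀ p, pp M s (μ p) = μ (pp M s p) := by
    intro s hs p
    by_cases hp : p.2 = 0
    · rw [hμ0 p hp, hμ0 _ ((h.snd hs).2 hp)]
    · have h1 : μ p = pp M (c p * t) x₀ := hμ1 p hp
      rw [h1, ← hmul s hs _ (mul_mem (hcS p hp) htS), ← mul_assoc, ← hμ _ (mul_mem hs (hcS p hp)),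
        hmul s hs _ (hcS p hp), hc p hp]
  have hμfst : ∀ p, (μ p).1 = p.1 := by
    intro p
    by_cases hp : p.2 = 0
    · rw [hμ0 p hp]
    · have h1 : μ p = pp M (c p * t) x₀ := hμ1 p hp
      rw [h1, hmul _ (hcS p hp) _ htS]
      conv_rhs => rw [← hc p hp]
      exact h.fst (h.SP (hcS p hp)) (hLT (hKL htK)).2
  have hμnz : ∀ p, p.2 ≠ 0 → (μ p).2 ≠ 0 := by
    intro p hp h0
    have h1 := hμ0 _ h0
    rw [hμμ] at h1
    exact hμne p hp h1.symm
  -- the 4-blocks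
  obtain ⟨β, hβd⟩ : ∃ β : Pt k m → Pt k m → Prop, ∀ p q, β p q ↔ ∃ s ∈ (S : Subgroup G), ∃ l ∈ L,
      pp M s x₀ = p ∧ pp M (s * l) x₀ = q := ⟨_, fun _ _ => Iff.rfl⟩
  have hβs : ∀ s ∈ (S : Subgroup G), ∀ q, β (pp M s x₀) q ↔ ∃ l ∈ L, pp M (s * l) x₀ = q := by
    intro s hs q
    rw [hβd]
    constructor
    · rintro ⟨s', hs', l, hl, h1, h2⟩
      have h3 := (heq s hs s' hs').1 h1.symm
      refine ⟨s⁻¹ * s' * l, mul_mem (hKL (hStK h3)) hl, ?_⟩
      rw [← h2]
      (with_reducible congr 2)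
      group
    · rintro ⟨l, hl, h1⟩
      exact ⟨s, hs, l, hl, rfl, h1⟩
  have hβsymm : ∀ p q, β p q → β q p := by
    intro p q hpq
    obtain ⟨s, hs, l, hl, rfl, rfl⟩ := (hβd p q).1 hpq
    exact (hβd _ _).2 ⟨s * l, mul_mem hs (hLS hl), l⁻¹, inv_mem hl, rfl, by rw [mul_inv_cancel_right]⟩
  have hβtrans : ∀ p q r, β p q → β q r → β p r := by
    intro p q r hpq h1
    obtain ⟨s, hs, l, hl, rfl, rfl⟩ := (hβd p q).1 hpq
    obtain ⟨l', hl', h2⟩ := (hβs _ (mul_mem hs (hLS hl)) r).1 h1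
    exact (hβd _ _).2 ⟨s, hs, l * l', mul_mem hl hl', rfl, by rw [← mul_assoc, h2]⟩
  have hβeqv : ∀ s ∈ (S : Subgroup G), ∀ p q, β p q → β (pp M s p) (pp M s q) := by
    intro s hs p q hpq
    obtain ⟨s', hs', l, hl, rfl, rfl⟩ := (hβd p q).1 hpq
    refine (hβd _ _).2 ⟨s * s', mul_mem hs hs', l, hl, hmul s hs s' hs' _, ?_⟩
    rw [mul_assoc, hmul s hs _ (mul_mem hs' (hLS hl))]
  have hβrefl : ∀ p, p.2 ≠ 0 → β p p := fun p hp => (hβd _ _).2 ⟨c p, hcS p hp, 1, one_mem L, hc p hp, by rw [mul_one, hc p hp]⟩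
  have hβnz : ∀ p q, β p q → p.2 ≠ 0 ∧ q.2 ≠ 0 := by
    intro p q hpq
    obtain ⟨s, hs, l, hl, rfl, rfl⟩ := (hβd p q).1 hpq
    exact ⟨hnz s hs, hnz _ (mul_mem hs (hLS hl))⟩
  have hβfst : ∀ p q, β p q → q.1 = p.1 := by
    intro p q hpq
    obtain ⟨s, hs, l, hl, rfl, rfl⟩ := (hβd p q).1 hpq
    rw [hmul s hs l (hLS hl)]
    exact h.fst (h.SP hs) (hLT hl).2
  -- the four points
  have hcls : ∀ s ∈ (S : Subgroup G), ∀ q, β (pp M s x₀) q ↔ q = pp M s x₀ ∨ q = μ (pp M s x₀) ∨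
      q = pp M (s * u) x₀ ∨ q = μ (pp M (s * u) x₀) := by
    intro s hs q
    rw [hβs s hs q, hμ s hs, hμ _ (mul_mem hs huS)]
    constructor
    · rintro ⟨l, hl, rfl⟩
      have hin : ∀ a ∈ K, ∀ s' ∈ (S : Subgroup G), pp M (s' * a) x₀ = pp M s' x₀ ∨ pp M (s' * a) x₀ = pp M (s' * t) x₀ := by
        intro a ha s' hs'
        by_cases h1 : a ∈ stab h x₀
        · left; exact hfix s' hs' a h1
        · right
          rw [hmul s' hs' a (hKS ha), hmul s' hs' t htS, hK a ha t htK h1 htSt]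
      by_cases h1 : l ∈ K
      · rcases hin l h1 s hs with h2 | h2
        · left; exact h2
        · right; left; exact h2
      · have h2 : u⁻¹ * l ∈ K := by
          rw [Half.mul_mem_of_index_two hL2 (inv_mem huL) hl, inv_mem_iff]
          exact iff_of_false huK h1
        have h3 := hin _ h2 (s * u) (mul_mem hs huS)
        have h4 : s * u * (u⁻¹ * l) = s * l := by group
        rw [h4] at h3
        rcases h3 with h3 | h3
        · right; right; left; exact h3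
        · right; right; right; exact h3
    · rintro (rfl | rfl | rfl | rfl)
      · exact ⟨1, one_mem L, by rw [mul_one]⟩
      · exact ⟨t, hKL htK, rfl⟩
      · exact ⟨u, huL, rfl⟩
      · exact ⟨u * t, mul_mem huL (hKL htK), by rw [mul_assoc]⟩
  have hne1 : ∀ s ∈ (S : Subgroup G), pp M (s * u) x₀ ≠ pp M s x₀ := by
    intro s hs h0
    rw [eq_comm, heq s hs _ (mul_mem hs huS), inv_mul_cancel_left] at h0
    exact huK (hStK h0)
  have hne2 : ∀ s ∈ (S : Subgroup G), pp M (s * u) x₀ ≠ μ (pp M s x₀) := by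
    intro s hs h0
    rw [hμ s hs, eq_comm, heq _ (mul_mem hs htS) _ (mul_mem hs huS)] at h0
    have h1 : t * ((s * t)⁻¹ * (s * u)) ∈ K := mul_mem htK (hStK h0)
    have h2 : t * ((s * t)⁻¹ * (s * u)) = u := by group
    rw [h2] at h1
    exact huK h1
  -- representatives
  have : Nonempty (Pt k m) := ⟨x₀⟩
  obtain ⟨ρ, hρd⟩ : ∃ ρ : Pt k m → Pt k m, ∀ p, ρ p = Classical.epsilon (fun q => β p q) := ⟨_, fun _ => rfl⟩
  have hρ : ∀ p, p.2 ≠ 0 → β p (ρ p) := fun p hp => by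
    rw [hρd]
    exact Classical.epsilon_spec (p := fun q => β p q) ⟨p, hβrefl p hp⟩
  have hρeq : ∀ p q, β p q → ρ p = ρ q := by
    intro p q hpq
    have h1 : (fun r => β p r) = fun r => β q r := by
      funext r
      exact propext ⟨fun h2 => hβtrans _ _ _ (hβsymm _ _ hpq) h2, fun h2 => hβtrans _ _ _ hpq h2⟩
    rw [hρd, hρd, h1]
  have hρnz : ∀ p, p.2 ≠ 0 → (ρ p).2 ≠ 0 := fun p hp => (hβnz _ _ (hρ p hp)).2
  obtain ⟨r', hrd⟩ : ∃ r' : Pt k m → Pt k m, ∀ p, r' p = pp M (c (ρ p) * u) x₀ := ⟨_, fun _ => rfl⟩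
  have hr' : ∀ p q, β p q → r' p = r' q := by
    intro p q hpq
    rw [hrd, hrd, hρeq p q hpq]
  have hfour : ∀ p, p.2 ≠ 0 → ∀ q, β p q ↔ q = ρ p ∨ q = μ (ρ p) ∨ q = r' p ∨ q = μ (r' p) := by
    intro p hp q
    have h1 := hcls _ (hcS _ (hρnz p hp)) q
    rw [hc _ (hρnz p hp), ← hrd] at h1
    rw [← h1]
    exact ⟨fun h2 => hβtrans _ _ _ (hβsymm _ _ (hρ p hp)) h2, fun h2 => hβtrans _ _ _ (hρ p hp) h2⟩
  have hd1 : ∀ p, p.2 ≠ 0 → r' p ≠ ρ p := by
    intro p hp
    have h1 := hne1 _ (hcS _ (hρnz p hp))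
    rwa [hc _ (hρnz p hp), ← hrd] at h1
  have hd2 : ∀ p, p.2 ≠ 0 → r' p ≠ μ (ρ p) := by
    intro p hp
    have h1 := hne2 _ (hcS _ (hρnz p hp))
    rwa [hc _ (hρnz p hp), ← hrd] at h1
  have hr'nz : ∀ p, p.2 ≠ 0 → (r' p).2 ≠ 0 := fun p hp => by
    rw [hrd]
    exact hnz _ (mul_mem (hcS _ (hρnz p hp)) huS)
  have hβr : ∀ p, p.2 ≠ 0 → β p (r' p) := fun p hp => (hfour p hp _).2 (Or.inr (Or.inr (Or.inl rfl)))
  have hβμ : ∀ p, p.2 ≠ 0 → β p (μ p) := by
    intro p hp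
    have h1 := (hcls _ (hcS p hp) (μ (pp M (c p) x₀))).2 (Or.inr (Or.inl rfl))
    rwa [hc p hp] at h1
  -- `ν`
  obtain ⟨ν, hνd⟩ : ∃ ν : Pt k m → Pt k m, ∀ p, ν p = if p.2 = 0 then p else if p = ρ p then r' p else
    if p = μ (ρ p) then μ (r' p) else if p = r' p then ρ p else μ (ρ p) := ⟨_, fun _ => rfl⟩
  have hν0 : ∀ p, p.2 = 0 → ν p = p := fun p hp => by rw [hνd, if_pos hp]
  have hμinj : ∀ p q, μ p = μ q → p = q := fun p q hpq => by rw [← hμμ p, hpq, hμμ]
  have hν1 : ∀ p, p.2 ≠ 0 → p = ρ p → ν p = r' p := fun p hp h1 => by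
    rw [hνd, if_neg hp, if_pos h1]
  have hν2 : ∀ p, p.2 ≠ 0 → p = μ (ρ p) → ν p = μ (r' p) := fun p hp h1 => by
    rw [hνd, if_neg hp, if_neg fun h2 => hμne _ (hρnz p hp) (h1.symm.trans h2), if_pos h1]
  have hν3 : ∀ p, p.2 ≠ 0 → p = r' p → ν p = ρ p := fun p hp h1 => by
    rw [hνd, if_neg hp, if_neg fun h2 => hd1 p hp (h1.symm.trans h2), if_neg fun h2 => hd2 p hp (h1.symm.trans h2),
      if_pos h1]
  have hν4 : ∀ p, p.2 ≠ 0 → p = μ (r' p) → ν p = μ (ρ p) := fun p hp h1 => by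
    rw [hνd, if_neg hp, if_neg, if_neg, if_neg]
    · intro h2
      exact hμne _ (hr'nz p hp) (h1.symm.trans h2)
    · intro h2
      exact hd1 p hp (hμinj _ _ (h1.symm.trans h2))
    · intro h2
      apply hd2 p hp
      rw [← h2, ← hμμ (r' p), ← h1]
  -- the value of `ν`, in general
  have hνβ : ∀ p, p.2 ≠ 0 → β p (ν p) ∧ ν p ≠ p ∧ ν p ≠ μ p ∧ ν (ν p) = p ∧ μ (ν p) = ν (μ p) := by
    intro p hp
    have hb := (hfour p hp p).1 (hβrefl p hp)
    have hμp := hμnz p hp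
    have e1 : ρ (μ p) = ρ p := (hρeq _ _ (hβμ p hp)).symm
    have e2 : r' (μ p) = r' p := (hr' _ _ (hβμ p hp)).symm
    have e3 : ρ (r' p) = ρ p := (hρeq _ _ (hβr p hp)).symm
    have e4 : r' (r' p) = r' p := (hr' _ _ (hβr p hp)).symm
    have hb2 : β p (μ (r' p)) := (hfour p hp _).2 (Or.inr (Or.inr (Or.inr rfl)))
    have e5 : ρ (μ (r' p)) = ρ p := (hρeq _ _ hb2).symm
    have e6 : r' (μ (r' p)) = r' p := (hr' _ _ hb2).symm
    have e7 : ρ (ρ p) = ρ p := (hρeq _ _ (hρ p hp)).symm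
    have e8 : r' (ρ p) = r' p := (hr' _ _ (hρ p hp)).symm
    have hb3 : β p (μ (ρ p)) := (hfour p hp _).2 (Or.inr (Or.inl rfl))
    have e9 : ρ (μ (ρ p)) = ρ p := (hρeq _ _ hb3).symm
    have e10 : r' (μ (ρ p)) = r' p := (hr' _ _ hb3).symm
    have n1 := hρnz p hp
    have n2 := hr'nz p hp
    have n3 := hμnz _ n1
    have n4 := hμnz _ n2
    have v1 : ν (ρ p) = r' p := by rw [hν1 _ n1 e7.symm, e8]
    have v2 : ν (μ (ρ p)) = μ (r' p) := by rw [hν2 _ n3 (by rw [e9]), e10]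
    have v3 : ν (r' p) = ρ p := by rw [hν3 _ n2 e4.symm, e3]
    have v4 : ν (μ (r' p)) = μ (ρ p) := by rw [hν4 _ n4 (by rw [e6]), e5]
    have key : ∀ x, (x = ρ p ∨ x = μ (ρ p) ∨ x = r' p ∨ x = μ (r' p)) →
        β p (ν x) ∧ ν x ≠ x ∧ ν x ≠ μ x ∧ ν (ν x) = x ∧ μ (ν x) = ν (μ x) := by
      intro x hx
      rcases hx with hx | hx | hx | hx
      · subst hx
        refine ⟨?_, ?_, ?_, ?_, ?_⟩
        · rw [v1]; exact hβr p hp
        · rw [v1]; exact hd1 p hp
        · rw [v1]; exact hd2 p hp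
        · rw [v1, v3]
        · rw [v1, v2]
      · subst hx
        refine ⟨?_, ?_, ?_, ?_, ?_⟩
        · rw [v2]; exact hb2
        · rw [v2]
          intro h2
          exact hd1 p hp (hμinj _ _ h2)
        · rw [v2, hμμ]
          intro h2
          apply hd2 p hp
          rw [← h2, hμμ]
        · rw [v2, v4]
        · rw [v2, hμμ, hμμ, v1]
      · subst hx
        refine ⟨?_, ?_, ?_, ?_, ?_⟩
        · rw [v3]; exact hρ p hp
        · rw [v3]; exact (hd1 p hp).symm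
        · rw [v3]
          intro h2
          apply hd2 p hp
          rw [h2, hμμ]
        · rw [v3, v1]
        · rw [v3, v4]
      · subst hx
        refine ⟨?_, ?_, ?_, ?_, ?_⟩
        · rw [v4]; exact hb3
        · rw [v4]
          intro h2
          exact hd1 p hp (hμinj _ _ h2).symm
        · rw [v4, hμμ]; exact (hd2 p hp).symm
        · rw [v4, v2]
        · rw [v4, hμμ, hμμ, v3]
    exact key p hb
  have hν2' : ∀ p, ν (ν p) = p := by
    intro p
    by_cases hp : p.2 = 0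
    · rw [hν0 p hp, hν0 p hp]
    · exact (hνβ p hp).2.2.2.1
  refine ⟨⟨μ, μ, hμμ, hμμ⟩, ⟨ν, ν, hν2', hν2'⟩, ?_⟩
  exact {
    mfst := hμfst
    nfst := by
      intro p
      by_cases hp : p.2 = 0
      · exact congrArg Prod.fst (hν0 p hp)
      · exact hβfst _ _ (hνβ p hp).1
    mzero := hμ0
    nzero := hν0
    mne := hμne
    nne := fun p hp => (hνβ p hp).2.1
    nmu := fun p hp => (hνβ p hp).2.2.1
    msq := hμμ
    nsq := hν2'
    comm := by
      intro p
      by_cases hp : p.2 = 0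
      · change μ (ν p) = ν (μ p)
        rw [hν0 p hp, hμ0 p hp, hν0 p hp]
      · exact (hνβ p hp).2.2.2.2
    meqv := hμeqv
    neqv := by
      intro s hs p
      change pp M s (ν p) = ν (pp M s p) ∨ pp M s (ν p) = μ (ν (pp M s p))
      by_cases hp : p.2 = 0
      · left
        rw [hν0 p hp, hν0 _ ((h.snd hs).2 hp)]
      · obtain ⟨b1, b2, b3, -, -⟩ := hνβ p hp
        have c1 := hβeqv s hs _ _ b1
        have hq : (pp M s p).2 ≠ 0 := fun h0 => hp ((h.snd hs).1 h0)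
        obtain ⟨d1, d2, d3, d4, d5⟩ := hνβ _ hq
        have hinj := (pp M s).injective
        have f1 : pp M s (ν p) ≠ pp M s p := fun h0 => b2 (hinj h0)
        have f2 : pp M s (ν p) ≠ μ (pp M s p) := by
          rw [← hμeqv s hs]
          exact fun h0 => b3 (hinj h0)
        -- the class of `q = pp M s p`
        have hcq := hcls _ (hcS _ hq) (pp M s (ν p))
        rw [hc _ hq] at hcq
        have c2 := hcq.1 c1
        have hcq' := hcls _ (hcS _ hq) (ν (pp M s p))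
        rw [hc _ hq] at hcq'
        have c3 := hcq'.1 d1
        rcases c2 with c2 | c2 | c2 | c2
        · exact absurd c2 f1
        · exact absurd c2 f2
        · rcases c3 with c3 | c3 | c3 | c3
          · exact absurd c3 d2
          · exact absurd c3 d3
          · left; rw [c2, c3]
          · right; rw [c2, c3, hμμ]
        · rcases c3 with c3 | c3 | c3 | c3
          · exact absurd c3 d2
          · exact absurd c3 d3
          · right; rw [c2, c3]
          · left; rw [c2, c3] }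

end exist

/-! ### The groups of permutations preserving the pairs, resp. the 4-blocks -/

namespace Fours

section grp

variable {S : Subgroup G} {M : SymK S P V ⊥ k m} {μ ν : Equiv.Perm (Pt k m)} (F : Fours M μ ν)

/-- the permutations preserving all pairs -/
def FA (F : Fours M μ ν) : Subgroup (Equiv.Perm (Pt k m)) where
  carrier := {π | ∀ p, π p = p ∨ π p = μ p}
  mul_mem' := by
    intro π ρ h1 h2 p
    rw [Equiv.Perm.mul_apply]
    rcases h2 p with h3 | h3
    · rw [h3]; exact h1 p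
    · rw [h3]
      rcases h1 (μ p) with h4 | h4
      · right; exact h4
      · left; rw [h4, F.msq]
  one_mem' := fun p => Or.inl rfl
  inv_mem' := by
    intro π h1 p
    have h3 : π (π⁻¹ p) = p := π.apply_symm_apply p
    rcases h1 (π⁻¹ p) with h2 | h2
    · left
      rw [← h2, h3]
    · right
      rw [h3] at h2
      rw [h2, F.msq, ← h2]

/-- `q` lies in the 4-block of `p` -/
def Cl (μ ν : Equiv.Perm (Pt k m)) (p q : Pt k m) : Prop := q = p ∨ q = μ p ∨ q = ν p ∨ q = μ (ν p)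

include F in
theorem Cl.symm {p q : Pt k m} (h : Cl μ ν p q) : Cl μ ν q p := by
  rcases h with rfl | rfl | rfl | rfl
  · exact Or.inl rfl
  · right; left; rw [F.msq]
  · right; right; left; rw [F.nsq]
  · right; right; right; rw [← F.comm, F.nsq, F.msq]

include F in
theorem Cl.trans {p q r : Pt k m} (h : Cl μ ν p q) (h' : Cl μ ν q r) : Cl μ ν p r := by
  rcases h with rfl | rfl | rfl | rfl
  · exact h'
  · rcases h' with rfl | rfl | rfl | rfl
    · exact Or.inr (Or.inl rfl)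
    · left; rw [F.msq]
    · right; right; right; rw [F.comm]
    · right; right; left; rw [← F.comm, F.msq]
  · rcases h' with rfl | rfl | rfl | rfl
    · exact Or.inr (Or.inr (Or.inl rfl))
    · exact Or.inr (Or.inr (Or.inr rfl))
    · left; rw [F.nsq]
    · right; left; rw [F.nsq]
  · rcases h' with rfl | rfl | rfl | rfl
    · exact Or.inr (Or.inr (Or.inr rfl))
    · right; right; left; rw [F.msq]
    · right; left; rw [← F.comm, F.nsq]
    · left; rw [← F.comm, F.nsq, F.msq]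

/-- the permutations preserving the 4-blocks and permuting the pairs -/
def FD (F : Fours M μ ν) : Subgroup (Equiv.Perm (Pt k m)) where
  carrier := {π | (∀ p, Cl μ ν p (π p)) ∧ ∀ p, π (μ p) = μ (π p)}
  mul_mem' := by
    rintro π ρ ⟨h1, h1'⟩ ⟨h2, h2'⟩
    refine ⟨fun p => ?_, fun p => ?_⟩
    · exact Cl.trans F (h2 p) (h1 (ρ p))
    · rw [Equiv.Perm.mul_apply, Equiv.Perm.mul_apply, h2', h1']
  one_mem' := ⟨fun p => Or.inl rfl, fun p => rfl⟩
  inv_mem' := by
    rintro π ⟨h1, h1'⟩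
    refine ⟨fun p => ?_, fun p => ?_⟩
    · have h3 : π (π⁻¹ p) = p := π.apply_symm_apply p
      have h2 := h1 (π⁻¹ p)
      rw [h3] at h2
      exact h2.symm F
    · rw [Equiv.Perm.inv_eq_iff_eq, h1', show π (π⁻¹ p) = p from π.apply_symm_apply p]

theorem FA_sq {π : Equiv.Perm (Pt k m)} (h : π ∈ F.FA) : π * π = 1 := by
  ext1 p
  rw [Equiv.Perm.mul_apply]
  change π (π p) = p
  rcases h p with h1 | h1
  · rw [h1, h1]
  · rw [h1]
    rcases h (μ p) with h2 | h2
    · have h3 := π.injective (h1.trans h2.symm)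
      rw [h2, ← h3]
    · rw [h2, F.msq]

theorem FA_comm_mu {π : Equiv.Perm (Pt k m)} (h : π ∈ F.FA) (p : Pt k m) : π (μ p) = μ (π p) := by
  have h0 : π (π p) = p := by
    have := F.FA_sq h
    rw [← Equiv.Perm.mul_apply, this]
    rfl
  rcases h p with h1 | h1
  · rcases h (μ p) with h2 | h2
    · rw [h2, h1]
    · rw [F.msq] at h2
      have h3 := π.injective (h2.trans h1.symm)
      rw [h1, h3, h1]
  · rw [h1, F.msq]
    rw [h1] at h0
    exact h0

theorem FA_le_FD : F.FA ≤ F.FD := fun π h => ⟨fun p => by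
  rcases h p with h1 | h1
  · exact Or.inl h1
  · exact Or.inr (Or.inl h1), F.FA_comm_mu h⟩

theorem FA_isPGroup : IsPGroup 2 F.FA := fun π => ⟨1, by
  apply Subtype.ext
  change (π : Equiv.Perm (Pt k m)) ^ 2 ^ 1 = 1
  rw [pow_one, pow_two]
  exact F.FA_sq π.2⟩

/-- `π ∈ FD` which moves a pair -/
theorem FD_mov {π : Equiv.Perm (Pt k m)} (h : π ∈ F.FD) {p : Pt k m} (hp : p.2 ≠ 0)
    (h1 : ¬ (π p = p ∨ π p = μ p)) : (π p = ν p ∨ π p = μ (ν p)) ∧ (π (ν p) = p ∨ π (ν p) = μ p) := by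
  have h2 : π p = ν p ∨ π p = μ (ν p) := by
    rcases h.1 p with h3 | h3 | h3 | h3
    · exact absurd (Or.inl h3) h1
    · exact absurd (Or.inr h3) h1
    · exact Or.inl h3
    · exact Or.inr h3
  refine ⟨h2, ?_⟩
  have hn1 := F.nne p hp
  have hn2 := F.nmu p hp
  have h4 : Cl μ ν p (π (ν p)) := Cl.trans F (Or.inr (Or.inr (Or.inl rfl))) (h.1 (ν p))
  rcases h4 with h4 | h4 | h4 | h4
  · exact Or.inl h4
  · exact Or.inr h4
  · exfalso
    rcases h2 with h3 | h3
    · exact hn1 (π.injective (h4.trans h3.symm))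
    · have h5 : π (μ p) = π (ν p) := by rw [h.2, h3, F.msq, h4]
      exact hn2 (π.injective h5).symm
  · exfalso
    rcases h2 with h3 | h3
    · have h5 : π (μ p) = π (ν p) := by rw [h.2, h3, h4]
      exact hn2 (π.injective h5).symm
    · exact hn1 (π.injective (h4.trans h3.symm))

theorem FD_sq {π : Equiv.Perm (Pt k m)} (h : π ∈ F.FD) : π * π ∈ F.FA := by
  intro p
  rw [Equiv.Perm.mul_apply]
  by_cases h1 : π p = p ∨ π p = μ p
  · rcases h1 with h1 | h1
    · left; rw [h1, h1]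
    · left; rw [h1, h.2, h1, F.msq]
  · by_cases hp : p.2 = 0
    · exfalso
      apply h1
      left
      rcases h.1 p with h3 | h3 | h3 | h3
      · exact h3
      · rw [h3, F.mzero p hp]
      · rw [h3, F.nzero p hp]
      · rw [h3, F.nzero p hp, F.mzero p hp]
    · obtain ⟨h2, h3⟩ := F.FD_mov h hp h1
      rcases h2 with h2 | h2
      · rw [h2]; exact h3
      · rw [h2, h.2]
        rcases h3 with h3 | h3
        · right; rw [h3]
        · left; rw [h3, F.msq]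

theorem FD_isPGroup : IsPGroup 2 F.FD := fun π => ⟨2, by
  apply Subtype.ext
  change (π : Equiv.Perm (Pt k m)) ^ 2 ^ 2 = 1
  have h1 := F.FA_sq (F.FD_sq π.2)
  rw [show 2 ^ 2 = 2 + 2 by norm_num, pow_add, pow_two]
  exact h1⟩

theorem FA_fst {π : Equiv.Perm (Pt k m)} (h : π ∈ F.FA) (p : Pt k m) : (π p).1 = p.1 := by
  rcases h p with h1 | h1
  · rw [h1]
  · rw [h1, F.mfst]

theorem FD_fst {π : Equiv.Perm (Pt k m)} (h : π ∈ F.FD) (p : Pt k m) : (π p).1 = p.1 := by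
  rcases h.1 p with h1 | h1 | h1 | h1
  · rw [h1]
  · rw [h1, F.mfst]
  · rw [h1, F.nfst]
  · rw [h1, F.mfst, F.nfst]

end grp

section sylow

variable {S : Sylow 2 G} {M : SymK (S : Subgroup G) P V ⊥ k m} {μ ν : Equiv.Perm (Pt k m)}
  (h : Sit S P V M) (F : Fours M μ ν)

include F

theorem conj_FA {s : G} (hs : s ∈ (S : Subgroup G)) {π : Equiv.Perm (Pt k m)} (hπ : π ∈ F.FA) :
    pp M s * π * (pp M s)⁻¹ ∈ F.FA := by
  intro p
  rw [Equiv.Perm.mul_apply, Equiv.Perm.mul_apply]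
  have h3 : pp M s ((pp M s)⁻¹ p) = p := (pp M s).apply_symm_apply p
  rcases hπ ((pp M s)⁻¹ p) with h1 | h1
  · left; rw [h1, h3]
  · right; rw [h1, F.meqv s hs, h3]

theorem cl_eqv {s : G} (hs : s ∈ (S : Subgroup G)) {p q : Pt k m} (hpq : Cl μ ν p q) :
    Cl μ ν (pp M s p) (pp M s q) := by
  rcases hpq with rfl | rfl | rfl | rfl
  · exact Or.inl rfl
  · right; left; exact F.meqv s hs _
  · rcases F.neqv s hs p with h1 | h1
    · right; right; left; exact h1
    · right; right; right; exact h1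
  · rw [F.meqv s hs]
    rcases F.neqv s hs p with h1 | h1
    · right; right; right; rw [h1]
    · right; right; left; rw [h1, F.msq]

theorem conj_FD {s : G} (hs : s ∈ (S : Subgroup G)) {π : Equiv.Perm (Pt k m)} (hπ : π ∈ F.FD) :
    pp M s * π * (pp M s)⁻¹ ∈ F.FD := by
  have h3 : ∀ p, pp M s ((pp M s)⁻¹ p) = p := fun p => (pp M s).apply_symm_apply p
  refine ⟨fun p => ?_, fun p => ?_⟩
  · rw [Equiv.Perm.mul_apply, Equiv.Perm.mul_apply]
    have h1 := cl_eqv F hs (hπ.1 ((pp M s)⁻¹ p))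
    rwa [h3] at h1
  · have h4 : (pp M s)⁻¹ (μ p) = μ ((pp M s)⁻¹ p) := by
      rw [Equiv.Perm.inv_eq_iff_eq, F.meqv s hs, h3]
    rw [Equiv.Perm.mul_apply, Equiv.Perm.mul_apply, h4, hπ.2, F.meqv s hs]
    rfl

/-- the elements of `S` which preserve all pairs -/
def A (h : Sit S P V M) (F : Fours M μ ν) : Subgroup G where
  carrier := {s | s ∈ (S : Subgroup G) ∧ pp M s ∈ F.FA}
  mul_mem' := by
    rintro a b ⟨ha, h1⟩ ⟨hb, h2⟩
    exact ⟨mul_mem ha hb, by rw [h.mul (h.SP ha) (h.SP hb)]; exact mul_mem h1 h2⟩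
  one_mem' := ⟨one_mem _, by rw [h.one]; exact one_mem _⟩
  inv_mem' := by
    rintro a ⟨ha, h1⟩
    exact ⟨inv_mem ha, by rw [h.inv (h.SP ha)]; exact inv_mem h1⟩

/-- the elements of `S` which preserve all 4-blocks -/
def D (h : Sit S P V M) (F : Fours M μ ν) : Subgroup G where
  carrier := {s | s ∈ (S : Subgroup G) ∧ pp M s ∈ F.FD}
  mul_mem' := by
    rintro a b ⟨ha, h1⟩ ⟨hb, h2⟩
    exact ⟨mul_mem ha hb, by rw [h.mul (h.SP ha) (h.SP hb)]; exact mul_mem h1 h2⟩
  one_mem' := ⟨one_mem _, by rw [h.one]; exact one_mem _⟩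
  inv_mem' := by
    rintro a ⟨ha, h1⟩
    exact ⟨inv_mem ha, by rw [h.inv (h.SP ha)]; exact inv_mem h1⟩

omit F in
theorem mem_A {h : Sit S P V M} {F : Fours M μ ν} {s : G} :
    s ∈ A h F ↔ s ∈ (S : Subgroup G) ∧ pp M s ∈ F.FA := Iff.rfl

omit F in
theorem mem_D {h : Sit S P V M} {F : Fours M μ ν} {s : G} :
    s ∈ D h F ↔ s ∈ (S : Subgroup G) ∧ pp M s ∈ F.FD := Iff.rfl

omit F in
theorem A_le (h : Sit S P V M) (F : Fours M μ ν) : A h F ≤ (S : Subgroup G) := fun _ hs => hs.1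

omit F in
theorem D_le (h : Sit S P V M) (F : Fours M μ ν) : D h F ≤ (S : Subgroup G) := fun _ hs => hs.1

omit F in
theorem A_le_D (h : Sit S P V M) (F : Fours M μ ν) : A h F ≤ D h F := fun _ hs => ⟨hs.1, F.FA_le_FD hs.2⟩

omit F in
theorem Q_le_A (h : Sit S P V M) (F : Fours M μ ν) : o2 P ≤ A h F := fun s hs =>
  ⟨h.QS hs, by rw [(h.mem_Q_iff (h.QS hs)).1 hs]; exact one_mem _⟩

variable [Finite G]

omit F in
theorem S_le_normalizer_A (h : Sit S P V M) (F : Fours M μ ν) :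
    (S : Subgroup G) ≤ normalizer (A h F : Set G) := by
  intro s hs
  refine MinSimple.VModule.mem_normalizer_of_map_le ?_
  rintro _ ⟨a, ha, rfl⟩
  change s * a * s⁻¹ ∈ A h F
  refine ⟨mul_mem (mul_mem hs ha.1) (inv_mem hs), ?_⟩
  rw [h.conj (h.SP hs) (h.SP ha.1)]
  exact conj_FA F hs ha.2

include h

/-- all of `FA` is induced by `A` -/
theorem exists_A {π : Equiv.Perm (Pt k m)} (hπ : π ∈ F.FA) : ∃ s ∈ A h F, pp M s = π := by
  obtain ⟨s, hs, h1⟩ := h.induced F.FA_isPGroup (fun δ hδ p => F.FA_fst hδ p)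
    (fun s hs δ hδ => conj_FA F hs hδ) hπ
  exact ⟨s, ⟨hs, by rw [h1]; exact hπ⟩, h1⟩

/-- all of `FD` is induced by `D` -/
theorem exists_D {π : Equiv.Perm (Pt k m)} (hπ : π ∈ F.FD) : ∃ s ∈ D h F, pp M s = π := by
  obtain ⟨s, hs, h1⟩ := h.induced F.FD_isPGroup (fun δ hδ p => F.FD_fst hδ p)
    (fun s hs δ hδ => conj_FD F hs hδ) hπ
  exact ⟨s, ⟨hs, by rw [h1]; exact hπ⟩, h1⟩

end sylow

end Fours

end Cfsg.Agent.Omega.IId.SymWrD

end

section


/-!
# II.d, `SwBig`, `SwCv` (copy of `SymWr/Pr.lean` for `D` arbitrary): the duads (THEOREM L, bb OMEGA #17498)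

* `pr M p q` : the element of `V` with support `{p, q}` (`p`, `q` in the same summand); `conj_pr`;
* `comm_iff` : `g ∈ P` commutes with `v ∈ V` iff the support of `v` is invariant;
* `exists_cyc` : 3-cycles.
-/

set_option autoImplicit false

namespace Cfsg.Agent.Omega.IId.SymWrD

open Cfsg.Agent.Omega.IId.SymWr
open Subgroup Pointwise Cfsg Cfsg.Agent.ZN Cfsg.Agent.Omega.MinPar Cfsg.Agent.Omega.FFThm
open Cfsg.Agent.Omega.Half (Amb amb_of_loc)
open Cfsg.Agent.Omega.Half.SymA (Pt E Mv pm)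

universe u

variable {G : Type u} [Group G] {P V : Subgroup G} {k m : ℕ}

open scoped Classical in
/-- the duad `{p, q}` -/
noncomputable def pr {S : Subgroup G} (M : SymK S P V ⊥ k m) (p q : Pt k m) : G :=
  if h : p.1 = q.1 then (Half.SymA.exists_pair M h).choose else 1

section pr

variable {S : Subgroup G} (M : SymK S P V ⊥ k m)

theorem pr_mem (p q : Pt k m) : pr M p q ∈ V := by
  unfold pr
  split_ifs with h
  · exact (Half.SymA.exists_pair M h).choose_spec.1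
  · exact one_mem V

open scoped Classical in
theorem E_pr {p q : Pt k m} (h : p.1 = q.1) (r : Pt k m) :
    E M (pr M p q) r = (if r = p then 1 else 0) + (if r = q then 1 else 0) := by
  unfold pr
  rw [dif_pos h]
  exact (Half.SymA.exists_pair M h).choose_spec.2 r

theorem E_pr_left {p q : Pt k m} (h : p.1 = q.1) (hne : p ≠ q) : E M (pr M p q) p = 1 := by
  rw [E_pr M h, if_pos rfl, if_neg hne, add_zero]

theorem E_pr_right {p q : Pt k m} (h : p.1 = q.1) (hne : p ≠ q) : E M (pr M p q) q = 1 := by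
  rw [E_pr M h, if_pos rfl, if_neg hne.symm, zero_add]

theorem E_pr_of_ne {p q r : Pt k m} (h : p.1 = q.1) (h1 : r ≠ p) (h2 : r ≠ q) : E M (pr M p q) r = 0 := by
  rw [E_pr M h, if_neg h1, if_neg h2, add_zero]

theorem pr_comm {p q : Pt k m} (h : p.1 = q.1) : pr M p q = pr M q p :=
  Half.SymA.inj M (pr_mem M _ _) (pr_mem M _ _) fun r => by rw [E_pr M h, E_pr M h.symm, add_comm]

theorem pr_mul {p q r : Pt k m} (h : p.1 = q.1) (h' : q.1 = r.1) : pr M p q * pr M q r = pr M p r := by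
  refine Half.SymA.inj M (mul_mem (pr_mem M _ _) (pr_mem M _ _)) (pr_mem M _ _) fun s => ?_
  rw [Half.SymA.E_mul M (pr_mem M _ _) (pr_mem M _ _), E_pr M h, E_pr M h', E_pr M (h.trans h')]
  have : ∀ a b c : ZMod 2, a + b + (b + c) = a + c := by decide
  exact this _ _ _

end pr

namespace Sit

variable {S : Sylow 2 G} {M : SymK (S : Subgroup G) P V ⊥ k m} (h : Sit S P V M)

include h

theorem Vcomm {a b : G} (ha : a ∈ V) (hb : b ∈ V) : a * b = b * a := h.amb.comm a ha b hb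

theorem Vsq {a : G} (ha : a ∈ V) : a * a = 1 := by rw [← pow_two]; exact h.amb.sq a ha

theorem conj_pr {g : G} (hg : g ∈ P) {p q : Pt k m} (hpq : p.1 = q.1) :
    g * pr M p q * g⁻¹ = pr M (pp M g p) (pp M g q) := by
  refine Half.SymA.inj M (h.amb.conj_mem hg (pr_mem M _ _)) (pr_mem M _ _) fun r => ?_
  rw [E_conj' hg (pr_mem M _ _), E_pr M hpq, E_pr M (h.fst hg hpq)]
  simp only [Equiv.Perm.inv_eq_iff_eq]

/-- `g ∈ P` commutes with `v ∈ V` iff it preserves the support -/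
theorem comm_iff {g : G} (hg : g ∈ P) {v : G} (hv : v ∈ V) :
    g * v = v * g ↔ ∀ p, E M v (pp M g p) = E M v p := by
  constructor
  · intro h1 p
    have h2 := E_conj (M := M) hg hv p
    rwa [h1, mul_inv_cancel_right] at h2
  · intro h1
    have h2 : g * v * g⁻¹ = v := by
      refine Half.SymA.inj M (h.amb.conj_mem hg hv) hv fun r => ?_
      have h3 := h1 ((pp M g)⁻¹ r)
      rw [E_conj' hg hv, ← h3]
      (with_reducible congr 1)
      exact (pp M g).apply_symm_apply r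
    rwa [mul_inv_eq_iff_eq_mul] at h2

/-- `g` commutes with a duad it preserves -/
theorem comm_pr {g : G} (hg : g ∈ P) {p q : Pt k m} (hpq : p.1 = q.1)
    (h1 : (pp M g p = p ∧ pp M g q = q) ∨ (pp M g p = q ∧ pp M g q = p)) :
    g * pr M p q = pr M p q * g := by
  have h2 := h.conj_pr hg hpq
  have h3 : g * pr M p q * g⁻¹ = pr M p q := by
    rcases h1 with h1 | h1
    · rw [h2, h1.1, h1.2]
    · rw [h2, h1.1, h1.2, pr_comm M hpq]
  rwa [mul_inv_eq_iff_eq_mul] at h3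

/-- an element inducing the 3-cycle `(a b c)` of one summand -/
theorem exists_cyc {a b c : Pt k m} (hab : a.1 = b.1) (hbc : b.1 = c.1) (h1 : a ≠ b) (h2 : b ≠ c) (h3 : a ≠ c) :
    ∃ g ∈ P, pp M g a = b ∧ pp M g b = c ∧ pp M g c = a ∧ ∀ r, r ≠ a → r ≠ b → r ≠ c → pp M g r = r := by
  classical
  obtain ⟨g, hg, h4⟩ := h.exists_pp (π := Equiv.swap a b * Equiv.swap b c) (by
    intro r
    rw [Equiv.Perm.mul_apply]
    have key : ∀ x y : Pt k m, x.1 = y.1 → ∀ r, (Equiv.swap x y r).1 = r.1 := by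
      intro x y hxy r
      rcases eq_or_ne r x with rfl | hx
      · rw [Equiv.swap_apply_left, hxy]
      · rcases eq_or_ne r y with rfl | hy
        · rw [Equiv.swap_apply_right, hxy]
        · rw [Equiv.swap_apply_of_ne_of_ne hx hy]
    rw [key a b hab, key b c hbc])
  refine ⟨g, hg, ?_, ?_, ?_, ?_⟩
  · rw [h4, Equiv.Perm.mul_apply, Equiv.swap_apply_of_ne_of_ne h1 h3, Equiv.swap_apply_left]
  · rw [h4, Equiv.Perm.mul_apply, Equiv.swap_apply_left, Equiv.swap_apply_of_ne_of_ne h3.symm h2.symm]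
  · rw [h4, Equiv.Perm.mul_apply, Equiv.swap_apply_right, Equiv.swap_apply_right]
  · intro r ha hb hc
    rw [h4, Equiv.Perm.mul_apply, Equiv.swap_apply_of_ne_of_ne hb hc, Equiv.swap_apply_of_ne_of_ne ha hb]

/-! ### `Ω₁(Z(O₂(P)))` -/

omit h in
theorem zz_comm {y y' : G} (hy : y ∈ zc (o2 P)) (hy' : y' ∈ zc (o2 P)) : y * y' = y' * y :=
  MinSimple.VModule.zc_comm (o2 P) y hy y' hy'

omit h in
theorem zz_sq {y : G} (hy : y ∈ zc (o2 P)) : y * y = 1 := by
  rw [← pow_two]; exact MinSimple.VModule.zc_sq _ y hy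

omit h in
theorem zz_conj {g y : G} (hg : g ∈ P) (hy : y ∈ zc (o2 P)) : g * y * g⁻¹ ∈ zc (o2 P) :=
  (mem_normalizer_iff.1 (((MinSimple.VModule.le_normalizer_o2 P).trans
    (MinSimple.VModule.normalizer_le_normalizer_zc _)) hg) y).1 hy

/-- the action on `Ω₁(Z(O₂(P)))` only depends on the permutation of the points -/
theorem zz_eq {g g' : G} (hg : g ∈ P) (hg' : g' ∈ P) (hgg : pp M g = pp M g') {y : G} (hy : y ∈ zc (o2 P)) :
    g * y * g⁻¹ = g' * y * g'⁻¹ := by
  have h1 : g'⁻¹ * g ∈ P ⊓ centralizer (V : Set G) :=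
    mem_inf.2 ⟨P.mul_mem (P.inv_mem hg') hg, (pp_eq_iff h.amb h.hm1 hg' hg).1 hgg.symm⟩
  have h2 := mem_centralizer_iff.1 (h.cZ h1) y hy
  calc g * y * g⁻¹ = g' * (g'⁻¹ * g * y) * g⁻¹ := by group
    _ = g' * (y * (g'⁻¹ * g)) * g⁻¹ := by rw [h2]
    _ = g' * y * g'⁻¹ := by group

end Sit

end Cfsg.Agent.Omega.IId.SymWrD

end

section


/-!
# II.d, `SwBig`, `SwCv` (copy of `SymWr/LThm.lean` for `D` arbitrary): THEOREM L, the last step (bb OMEGA #17498, (1)-(4))

`L_of` : from the conclusions of (T) (`hT1`, `hT2`) and (HH) (`hHH`): `O₂(C_G(n)) ≤ P` for the duad `n = {x, μ x}`,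
`m ≥ 3`.
-/

set_option autoImplicit false

namespace Cfsg.Agent.Omega.IId.SymWrD

open Cfsg.Agent.Omega.IId.SymWr
open Subgroup Pointwise Cfsg Cfsg.Agent.ZN Cfsg.Agent.Omega.MinPar Cfsg.Agent.Omega.FFThm
open Cfsg.Agent.Omega.Half (Amb amb_of_loc)
open Cfsg.Agent.Omega.Half.SymA (Pt E Mv pm)
open Cfsg.Agent.MinSimple.VModule (mem_zc zc_le zc_comm zc_sq zc_le_zl le_normalizer_o2 o2_isPGroup o2_le
  normalizer_le_normalizer_zc le_normalizer_zl)

universe u

variable {G : Type u} [Group G] {P V : Subgroup G} {k m : ℕ}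

theorem mem_sup_norm {A B : Subgroup G} (h : A ≤ normalizer (B : Set G)) {x : G} (hx : x ∈ A ⊔ B) :
    ∃ a ∈ A, ∃ b ∈ B, a * b = x := by
  have h1 : x ∈ ((A ⊔ B : Subgroup G) : Set G) := hx
  rw [coe_mul_of_left_le_normalizer_right A B h] at h1
  exact Set.mem_mul.mp h1

theorem exists_pt (hm : 3 ≤ m) (l : Fin k) (s : Finset (Pt k m)) (hs : s.card ≤ 8) : ∃ p : Pt k m, p.1 = l ∧ p ∉ s := by
  classical
  by_contra h0
  push Not at h0
  have h1 : (Finset.univ.image fun y : Fin (2 ^ m + 1) => ((l, y) : Pt k m)) ⊆ s := by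
    intro p hp
    obtain ⟨y, -, rfl⟩ := Finset.mem_image.1 hp
    exact h0 _ rfl
  have h2 := Finset.card_le_card h1
  rw [Finset.card_image_of_injective _ (fun a b hab => (Prod.ext_iff.1 hab).2), Finset.card_univ,
    Fintype.card_fin] at h2
  have h3 : 2 ^ 3 ≤ 2 ^ m := Nat.pow_le_pow_right (by norm_num) hm
  omega

/-- an element of `V` with support in one summand which is fixed by `Sym` of this summand is `1` -/
theorem Sit.eq_one_of_fixed {S : Sylow 2 G} {M : SymK (S : Subgroup G) P V ⊥ k m} (h : Sit S P V M) {l : Fin k}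
    {v : G} (hv : v ∈ V) (h1 : ∀ p : Pt k m, p.1 ≠ l → E M v p = 0)
    (h2 : ∀ g ∈ P, (∀ p : Pt k m, p.1 ≠ l → pp M g p = p) → g * v = v * g) : v = 1 := by
  classical
  -- constant on the summand
  have h3 : ∀ p q : Pt k m, p.1 = l → q.1 = l → E M v p = E M v q := by
    intro p q hp hq
    obtain ⟨g, hg, h4⟩ := h.exists_pp (π := Equiv.swap p q) (by
      intro r
      rcases eq_or_ne r p with rfl | hr
      · rw [Equiv.swap_apply_left, hq, hp]
      · rcases eq_or_ne r q with rfl | hr'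
        · rw [Equiv.swap_apply_right, hq, hp]
        · rw [Equiv.swap_apply_of_ne_of_ne hr hr'])
    have h5 := (h.comm_iff hg hv).1 (h2 g hg fun r hr => by
      rw [h4, Equiv.swap_apply_of_ne_of_ne]
      · rintro rfl; exact hr hp
      · rintro rfl; exact hr hq) q
    rw [h4, Equiv.swap_apply_right] at h5
    exact h5
  refine Half.SymA.eq_one M hv fun p => ?_
  by_cases hp : p.1 = l
  · have h4 := Half.SymA.even M hv l
    rw [Finset.sum_congr rfl fun x _ => h3 (l, x) p rfl hp, Finset.sum_const, Finset.card_univ, Fintype.card_fin,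
      nsmul_eq_mul] at h4
    have h5 : ((2 ^ m + 1 : ℕ) : ZMod 2) = 1 := by
      have h6 : ((2 ^ m : ℕ) : ZMod 2) = 0 := by
        rw [ZMod.natCast_eq_zero_iff]
        exact dvd_pow_self 2 (by have := h.hm; omega)
      rw [Nat.cast_add, h6, zero_add, Nat.cast_one]
    rwa [h5, one_mul] at h4
  · exact h1 p hp

section main

variable [Finite G] {S : Sylow 2 G} {M : SymK (S : Subgroup G) P V ⊥ k m} {μ ν : Equiv.Perm (Pt k m)}

/-- the conclusion of (HH) for the summand `l` -/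
def HH (h : Sit S P V M) (F : Fours M μ ν) (l : Fin k) : Prop :=
  ∀ y ∈ zc (o2 P), (∀ t ∈ Fours.A h F, t * y = y * t) →
    (∀ s ∈ (S : Subgroup G), (∀ p : Pt k m, p.1 = l → pp M s p = p) → s * y = y * s) →
    ∃ v ∈ V, ∃ φ ∈ zc (o2 P), (∀ p : Pt k m, p.1 ≠ l → E M v p = 0) ∧ E M v (l, 0) = 0 ∧
      (∀ p, E M v (μ p) = E M v p) ∧
      (∀ g ∈ P, (∀ p : Pt k m, p.1 ≠ l → pp M g p = p) → g * φ = φ * g) ∧ y = v * φ

/-- the conclusion of (T) for the duad `{x, μ x}` -/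
def TT (h : Sit S P V M) (F : Fours M μ ν) (x : Pt k m) : Prop :=
  (∀ g ∈ o2 (centralizer ({pr M x (μ x)} : Set G)), ∀ a b : Pt k m, a.1 = x.1 → b.1 = x.1 → a ≠ b → a ≠ x →
    a ≠ μ x → b ≠ x → b ≠ μ x → g * pr M a b = pr M a b * g → g ∈ Fours.A h F) ∧
  ∀ g ∈ o2 (centralizer ({pr M x (μ x)} : Set G)), g ∈ P → pp M g = 1 ∨ pp M g = Equiv.swap x (μ x)

/-- **THEOREM L** from (T) and (HH). -/
theorem L_of (h : Sit S P V M) (F : Fours M μ ν) (hm : 3 ≤ m) {x : Pt k m} (hx : x.2 ≠ 0) (hT : TT h F x)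
    (hHH : HH h F x.1) : o2 (centralizer ({pr M x (μ x)} : Set G)) ≤ P := by
  classical
  set n := pr M x (μ x) with hn
  set C := centralizer ({n} : Set G) with hC
  set W := o2 C with hW
  obtain ⟨hT1, hT2⟩ := hT
  have hmf := F.mfst
  have hnf := F.nfst
  have hmx : (μ x).2 ≠ 0 := fun h0 => hx (F.mnz.1 h0)
  have hνx : (ν x).2 ≠ 0 := fun h0 => hx (F.nnz.1 h0)
  have hμνx : (μ (ν x)).2 ≠ 0 := fun h0 => hνx (F.mnz.1 h0)
  have hnV : n ∈ V := pr_mem M _ _
  have hmemC : ∀ g, g ∈ C ↔ g * n = n * g := by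
    intro g
    rw [hC, mem_centralizer_singleton_iff]
  have hVQ : V ≤ o2 P := h.VZ.trans (zc_le _)
  have hVcQ : ∀ q ∈ o2 P, ∀ v ∈ V, q * v = v * q := fun q hq v hv => (mem_zc.1 (h.VZ hv)).2.1 q hq
  have hWC : W ≤ C := o2_le C
  have hCW : C ≤ normalizer (W : Set G) := le_normalizer_o2 C
  have hW2 : IsPGroup 2 W := o2_isPGroup C
  -- elements of `A` and of `S_(l)` centralise `n`
  have hAcomm : ∀ t ∈ Fours.A h F, ∀ y : Pt k m, t * pr M y (μ y) = pr M y (μ y) * t := by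
    intro t ht y
    refine h.comm_pr (h.SP ht.1) (hmf y).symm ?_
    have h1 := F.FA_comm_mu ht.2 y
    rcases ht.2 y with h2 | h2
    · left; exact ⟨h2, by rw [h1, h2]⟩
    · right; exact ⟨h2, by rw [h1, h2, F.msq]⟩
  have hAC : Fours.A h F ≤ C := fun t ht => (hmemC t).2 (hAcomm t ht x)
  have hScomm : ∀ s ∈ (S : Subgroup G), (∀ p : Pt k m, p.1 = x.1 → pp M s p = p) → ∀ y : Pt k m, y.1 = x.1 →
      s * pr M y (μ y) = pr M y (μ y) * s := by
    intro s hs h1 y hy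
    exact h.comm_pr (h.SP hs) (hmf y).symm (Or.inl ⟨h1 y hy, h1 _ ((hmf y).trans hy)⟩)
  -- `X₀`
  set X := W ⊓ P with hX
  have hXd : ∀ g ∈ X, ∀ a b : Pt k m, a.1 = b.1 → a ≠ x → a ≠ μ x → b ≠ x → b ≠ μ x →
      g * pr M a b = pr M a b * g := by
    intro g hg a b hab h1 h2 h3 h4
    refine h.comm_pr hg.2 hab (Or.inl ?_)
    rcases hT2 g hg.1 hg.2 with h5 | h5
    · rw [h5]; exact ⟨rfl, rfl⟩
    · rw [h5, Equiv.swap_apply_of_ne_of_ne h1 h2, Equiv.swap_apply_of_ne_of_ne h3 h4]; exact ⟨rfl, rfl⟩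
  have d1 : ν x ≠ x := F.nne x hx
  have d2 : ν x ≠ μ x := F.nmu x hx
  have d3 : μ (ν x) ≠ x := by
    intro h0
    have h1 := congrArg μ h0
    rw [F.msq] at h1
    exact d2 h1
  have d4 : μ (ν x) ≠ μ x := fun h0 => d1 (μ.injective h0)
  have d5 : ν x ≠ μ (ν x) := (F.mne _ hνx).symm
  have hXA : X ≤ Fours.A h F := by
    intro g hg
    refine hT1 g hg.1 (ν x) (μ (ν x)) (hnf x) ((hmf _).trans (hnf x)) d5 d1 d2 d3 d4 ?_
    exact hXd g hg _ _ (hmf _).symm d1 d2 d3 d4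
  have hAX : ∀ g ∈ W, g ∈ Fours.A h F → g ∈ X := fun g hg hgA => ⟨hg, h.SP hgA.1⟩
  -- `Q⁺`
  set Q := o2 P ⊔ X with hQ
  have hQA : Q ≤ Fours.A h F := sup_le (Fours.Q_le_A h F) hXA
  have hQC : Q ≤ C := hQA.trans hAC
  have hQ2 : IsPGroup 2 Q := S.isPGroup'.to_le (hQA.trans (Fours.A_le h F))
  have hPX : C ⊓ P ≤ normalizer (X : Set G) := by
    intro g hg
    refine MinSimple.VModule.mem_normalizer_of_map_le ?_
    rintro _ ⟨a, ha, rfl⟩
    change g * a * g⁻¹ ∈ X
    exact ⟨(mem_normalizer_iff.1 (hCW hg.1) a).1 ha.1, P.mul_mem (P.mul_mem hg.2 ha.2) (P.inv_mem hg.2)⟩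
  have hPQ : C ⊓ P ≤ normalizer (Q : Set G) := by
    intro g hg
    refine MinSimple.VModule.mem_normalizer_of_map_le ?_
    rw [hQ, Subgroup.map_sup]
    apply sup_le_sup
    · rintro _ ⟨a, ha, rfl⟩
      exact (mem_normalizer_iff.1 (le_normalizer_o2 P hg.2) a).1 ha
    · rintro _ ⟨a, ha, rfl⟩
      exact (mem_normalizer_iff.1 (hPX hg) a).1 ha
  have hWQ : ∀ g ∈ W, g ∈ Q → g ∈ X := fun g hg hgQ => hAX g hg (hQA hgQ)
  by_contra hWP
  -- `b₀ ∈ W` normalising `Q⁺`, not in `P`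
  have hnot1 : ¬ W ⊓ normalizer (Q : Set G) ≤ P := by
    intro h0
    have hlt : Q < Q ⊔ W := by
      refine lt_of_le_of_ne le_sup_left fun h1 => hWP ?_
      have h2 : W ≤ Q := by rw [h1]; exact le_sup_right
      exact h2.trans (hQA.trans ((Fours.A_le h F).trans h.SP))
    have h2 : IsPGroup 2 (Q ⊔ W : Subgroup G) := hQ2.to_sup_of_normal_right' hW2 (hQC.trans hCW)
    obtain ⟨s, hs, hsn, hsQ, -⟩ := MinSimple.Choice97.exists_normalizing h2 hlt
    obtain ⟨q, hq, w, hw, rfl⟩ := mem_sup_norm (hQC.trans hCW) hs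
    have hwn : w ∈ normalizer (Q : Set G) := by
      have h3 := (normalizer (Q : Set G)).mul_mem ((normalizer (Q : Set G)).inv_mem (le_normalizer hq)) hsn
      rwa [inv_mul_cancel_left] at h3
    exact hsQ (mul_mem hq (mem_sup_right ⟨hw, h0 ⟨hw, hwn⟩⟩))
  -- `T_n`
  set W1 := W ⊓ normalizer (Q : Set G) with hW1
  set T := (S : Subgroup G) ⊓ C with hT
  have hTP : T ≤ C ⊓ P := fun t ht => ⟨ht.2, h.SP ht.1⟩
  have hT2' : IsPGroup 2 T := S.isPGroup'.to_le inf_le_left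
  have hTW1 : T ≤ normalizer (W1 : Set G) := by
    intro t ht
    refine MinSimple.VModule.mem_normalizer_of_map_le ?_
    rintro _ ⟨a, ha, rfl⟩
    change t * a * t⁻¹ ∈ W1
    have h1 := hPQ (hTP ht)
    exact ⟨(mem_normalizer_iff.1 (hCW ht.2) a).1 ha.1,
      (normalizer (Q : Set G)).mul_mem ((normalizer (Q : Set G)).mul_mem h1 ha.2)
        ((normalizer (Q : Set G)).inv_mem h1)⟩
  have hXT : X ≤ T := fun g hg => ⟨(hXA hg).1, hWC hg.1⟩
  obtain ⟨b, hbW, hbQ, hbT, hbP⟩ : ∃ b ∈ W, b ∈ normalizer (Q : Set G) ∧ b ∈ normalizer (T : Set G) ∧ b ∉ P := by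
    have hlt : T < T ⊔ W1 := by
      refine lt_of_le_of_ne le_sup_left fun h1 => hnot1 ?_
      have h2 : W1 ≤ T := by rw [h1]; exact le_sup_right
      exact h2.trans (inf_le_left.trans h.SP)
    have h2 : IsPGroup 2 (T ⊔ W1 : Subgroup G) := hT2'.to_sup_of_normal_right' (hW2.to_le inf_le_left) hTW1
    obtain ⟨s, hs, hsn, hsT, -⟩ := MinSimple.Choice97.exists_normalizing h2 hlt
    obtain ⟨t, ht, b, hb, rfl⟩ := mem_sup_norm hTW1 hs
    have hbn : b ∈ normalizer (T : Set G) := by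
      have h3 := (normalizer (T : Set G)).mul_mem ((normalizer (T : Set G)).inv_mem (le_normalizer ht)) hsn
      rwa [inv_mul_cancel_left] at h3
    exact ⟨b, hb.1, hb.2, hbn, fun h0 => hsT (mul_mem ht (hXT ⟨hb.1, h0⟩))⟩
  have hbX : ∀ t ∈ T, t * b * t⁻¹ * b⁻¹ ∈ X := by
    intro t ht
    have h1 : t * b * t⁻¹ * b⁻¹ ∈ W :=
      W.mul_mem ((mem_normalizer_iff.1 (hCW ht.2) b).1 hbW) (W.inv_mem hbW)
    have h2 : t * b * t⁻¹ * b⁻¹ ∈ T := by
      have h3 := (mem_normalizer_iff.1 hbT t⁻¹).1 (T.inv_mem ht)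
      have h4 : t * b * t⁻¹ * b⁻¹ = t * (b * t⁻¹ * b⁻¹) := by group
      rw [h4]
      exact T.mul_mem ht h3
    exact ⟨h1, (hTP h2).2⟩
  -- `Z⁺`
  set Z := zc Q with hZ
  have hZZ : ∀ y ∈ Z, y ∈ zc (o2 P) := by
    intro y hy
    obtain ⟨h1, h2, h3⟩ := mem_zc.1 hy
    have h4 : y ∈ o2 P := h.cQ (mem_centralizer_iff.2 fun q hq => h2 q (mem_sup_left hq))
    exact mem_zc.2 ⟨h4, fun q hq => h2 q (mem_sup_left hq), h3⟩
  have hbZ : ∀ y ∈ Z, b * y * b⁻¹ ∈ Z := fun y hy =>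
    (mem_normalizer_iff.1 (normalizer_le_normalizer_zc _ hbQ) y).1 hy
  have hXZ : ∀ g ∈ X, ∀ y ∈ Z, g * y = y * g := fun g hg y hy => (mem_zc.1 hy).2.1 g (mem_sup_right hg)
  have hPZ : ∀ g ∈ C, g ∈ P → ∀ y ∈ Z, g * y * g⁻¹ ∈ Z := fun g hg hgP y hy =>
    (mem_normalizer_iff.1 (normalizer_le_normalizer_zc _ (hPQ ⟨hg, hgP⟩)) y).1 hy
  have hdZ : ∀ a c : Pt k m, a.1 = c.1 → a ≠ x → a ≠ μ x → c ≠ x → c ≠ μ x → pr M a c ∈ Z := by
    intro a c hac h1 h2 h3 h4
    refine mem_zc.2 ⟨mem_sup_left (hVQ (pr_mem M _ _)), ?_, by rw [pow_two]; exact h.Vsq (pr_mem M _ _)⟩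
    have h5 : Q ≤ centralizer ({pr M a c} : Set G) := by
      refine sup_le (fun q hq => mem_centralizer_singleton_iff.2 (hVcQ q hq _ (pr_mem M _ _))) fun q hq => ?_
      exact mem_centralizer_singleton_iff.2 (hXd q hq a c hac h1 h2 h3 h4)
    intro q hq
    exact mem_centralizer_singleton_iff.1 (h5 hq)
  -- conjugates under `b` of the fixed points of `t ∈ T`
  have hfix : ∀ y ∈ Z, ∀ t ∈ T, t * y = y * t → t * (b * y * b⁻¹) = b * y * b⁻¹ * t := by
    intro y hy t ht hty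
    have h1 := hXZ _ (hbX t ht) _ (hbZ y hy)
    have h2 : t * y * t⁻¹ = y := by rw [hty, mul_inv_cancel_right]
    calc t * (b * y * b⁻¹) = (t * b * t⁻¹ * b⁻¹) * (b * (t * y * t⁻¹) * b⁻¹) * (b * t * b⁻¹) := by group
      _ = (t * b * t⁻¹ * b⁻¹) * (b * y * b⁻¹) * (b * t * b⁻¹) := by rw [h2]
      _ = (b * y * b⁻¹) * (t * b * t⁻¹ * b⁻¹) * (b * t * b⁻¹) := by rw [h1]
      _ = b * y * b⁻¹ * t := by group
  -- `p^b`
  set q0 := pr M (ν x) (μ (ν x)) with hq0
  have hq0Z : q0 ∈ Z := hdZ _ _ (hmf _).symm d1 d2 d3 d4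
  have hTq0 : ∀ t ∈ T, t * q0 = q0 * t := by
    intro t ht
    have htP := h.SP ht.1
    refine h.comm_pr htP (hmf _).symm ?_
    have h1 : E M n (pp M t x) = 1 := by
      rw [(h.comm_iff htP hnV).1 ((hmemC t).1 ht.2) x]
      exact E_pr_left M (hmf x).symm (F.mne x hx).symm
    have h2 : pp M t x = x ∨ pp M t x = μ x := by
      by_contra h0
      push Not at h0
      rw [E_pr_of_ne M (hmf x).symm h0.1 h0.2] at h1
      exact zero_ne_one h1
    have h3 : pp M t (μ (ν x)) = μ (pp M t (ν x)) := F.meqv t ht.1 _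
    have h4 : pp M t (ν x) = ν x ∨ pp M t (ν x) = μ (ν x) := by
      rcases h2 with h2 | h2
      · rcases F.neqv t ht.1 x with h5 | h5
        · left; rw [h5, h2]
        · right; rw [h5, h2]
      · rcases F.neqv t ht.1 x with h5 | h5
        · right; rw [h5, h2, F.comm]
        · left; rw [h5, h2, ← F.comm, F.msq]
    rcases h4 with h4 | h4
    · left; exact ⟨h4, by rw [h3, h4]⟩
    · right; exact ⟨h4, by rw [h3, h4, F.msq]⟩
  have hAT : Fours.A h F ≤ T := fun t ht => ⟨ht.1, hAC ht⟩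
  have hST : ∀ s ∈ (S : Subgroup G), (∀ p : Pt k m, p.1 = x.1 → pp M s p = p) → s ∈ T := fun s hs h1 =>
    ⟨hs, (hmemC s).2 (hScomm s hs h1 x rfl)⟩
  obtain ⟨v, hvV, φ, hφZ, hv1, hv0, hvμ, hφ, hvφ⟩ := hHH (b * q0 * b⁻¹) (hZZ _ (hbZ _ hq0Z))
    (fun t ht => hfix _ hq0Z t (hAT ht) (hTq0 t (hAT ht)))
    (fun s hs h1 => hfix _ hq0Z s (hST s hs h1) (hTq0 s (hST s hs h1)))
  -- `b` normalises `X`
  have hbXn : ∀ g ∈ X, b * g * b⁻¹ ∈ X := by
    intro g hg
    exact hWQ _ (W.mul_mem (W.mul_mem hbW hg.1) (W.inv_mem hbW))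
      ((mem_normalizer_iff.1 hbQ g).1 (mem_sup_right hg))
  -- (2) elements of `P` which commute with `n`, `p`, `p^b` commute with `b` on `Z⁺`
  have hcom : ∀ g ∈ P, g * n = n * g → g * q0 = q0 * g → g * (b * q0 * b⁻¹) = b * q0 * b⁻¹ * g →
      ∀ y ∈ Z, g * (b * y * b⁻¹) * g⁻¹ = b * (g * y * g⁻¹) * b⁻¹ := by
    intro g hgP hgn hg0 hgb y hy
    have hgC : g ∈ C := (hmemC g).2 hgn
    set w := g * b * g⁻¹ * b⁻¹ with hw
    have hwW : w ∈ W := W.mul_mem ((mem_normalizer_iff.1 (hCW hgC) b).1 hbW) (W.inv_mem hbW)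
    have h1 : b⁻¹ * w * b ∈ X := by
      refine hAX _ (W.mul_mem (W.mul_mem (W.inv_mem hbW) hwW) hbW) ?_
      refine hT1 _ (W.mul_mem (W.mul_mem (W.inv_mem hbW) hwW) hbW) (ν x) (μ (ν x)) (hnf x)
        ((hmf _).trans (hnf x)) d5 d1 d2 d3 d4 ?_
      change b⁻¹ * w * b * q0 = q0 * (b⁻¹ * w * b)
      have e1 : g⁻¹ * q0 * g = q0 := by
        rw [mul_assoc, ← hg0, inv_mul_cancel_left]
      have e2 : b⁻¹ * w * b = b⁻¹ * g * b * g⁻¹ := by rw [hw]; group
      rw [e2]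
      calc b⁻¹ * g * b * g⁻¹ * q0 = b⁻¹ * g * b * (g⁻¹ * q0 * g) * g⁻¹ := by group
        _ = b⁻¹ * (g * (b * q0 * b⁻¹)) * b * g⁻¹ := by rw [e1]; group
        _ = q0 * (b⁻¹ * g * b * g⁻¹) := by rw [hgb]; group
    have h2 : w ∈ X := by
      have := hbXn _ h1
      have e3 : b * (b⁻¹ * w * b) * b⁻¹ = w := by group
      rwa [e3] at this
    have h3 := hXZ w h2 _ (hbZ _ (hPZ g hgC hgP y hy))
    calc g * (b * y * b⁻¹) * g⁻¹ = w * (b * (g * y * g⁻¹) * b⁻¹) * w⁻¹ := by rw [hw]; group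
      _ = b * (g * y * g⁻¹) * b⁻¹ := by rw [h3, mul_inv_cancel_right]
  -- (3) the points
  obtain ⟨y, w, hy1, hw1, hy2, hyx, hyμ, hyν, hyμν, hwx, hwμ, hwν, hwμν, hwy, hwμy, hEw, hwz⟩ :
      ∃ y w : Pt k m, y.1 = x.1 ∧ w.1 = x.1 ∧ y.2 ≠ 0 ∧ y ≠ x ∧ y ≠ μ x ∧ y ≠ ν x ∧ y ≠ μ (ν x) ∧
        w ≠ x ∧ w ≠ μ x ∧ w ≠ ν x ∧ w ≠ μ (ν x) ∧ w ≠ y ∧ w ≠ μ y ∧ E M v w = E M v y ∧
        (w = (x.1, 0) ∨ w.2 ≠ 0) := by
    by_cases h0 : ∃ y : Pt k m, y.1 = x.1 ∧ y.2 ≠ 0 ∧ y ≠ x ∧ y ≠ μ x ∧ y ≠ ν x ∧ y ≠ μ (ν x) ∧ E M v y = 0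
    · obtain ⟨y, h1, h2, h3, h4, h5, h6, h7⟩ := h0
      have hne : ∀ r : Pt k m, r.2 ≠ 0 → ((x.1, 0) : Pt k m) ≠ r := by
        rintro r hr rfl
        exact hr rfl
      exact ⟨y, (x.1, 0), h1, rfl, h2, h3, h4, h5, h6, hne _ hx, hne _ hmx, hne _ hνx, hne _ hμνx, hne _ h2,
        hne _ (fun h8 => h2 (F.mnz.1 h8)), by rw [hv0, h7], Or.inl rfl⟩
    · push Not at h0
      obtain ⟨y, hy, hys⟩ := exists_pt hm x.1 {(x.1, 0), x, μ x, ν x, μ (ν x)} (by
        refine (Finset.card_le_five).trans (by norm_num))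
      simp only [Finset.mem_insert, Finset.mem_singleton, not_or] at hys
      obtain ⟨e1, e2, e3, e4, e5⟩ := hys
      have hy2 : y.2 ≠ 0 := fun h1 => e1 (Prod.ext hy h1)
      obtain ⟨w, hw, hws⟩ := exists_pt hm x.1 {(x.1, 0), x, μ x, ν x, μ (ν x), y, μ y} (by
        refine (Finset.card_insert_le _ _).trans ?_
        have := Finset.card_le_six (a := x) (b := μ x) (c := ν x) (d := μ (ν x)) (e := y) (f := μ y)
        omega)
      simp only [Finset.mem_insert, Finset.mem_singleton, not_or] at hws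
      obtain ⟨f1, f2, f3, f4, f5, f6, f7⟩ := hws
      have hw2 : w.2 ≠ 0 := fun h1 => f1 (Prod.ext hw h1)
      have k1 := h0 y hy hy2 e2 e3 e4 e5
      have k2 := h0 w hw hw2 f2 f3 f4 f5
      rw [Half.SymA.zmod2_ne] at k1 k2
      exact ⟨y, w, hy, hw, hy2, e2, e3, e4, e5, f2, f3, f4, f5, f6, f7, by rw [k1, k2], Or.inr hw2⟩
  have hμyx : μ y ≠ x := by
    intro h0
    have h1 := congrArg μ h0
    rw [F.msq] at h1
    exact hyμ h1
  have hμyμ : μ y ≠ μ x := fun h0 => hyx (μ.injective h0)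
  have hμyν : μ y ≠ ν x := by
    intro h0
    have h1 := congrArg μ h0
    rw [F.msq] at h1
    exact hyμν h1
  have hμyμν : μ y ≠ μ (ν x) := fun h0 => hyν (μ.injective h0)
  have hyμy : y ≠ μ y := (F.mne y hy2).symm
  have hμy1 : (μ y).1 = x.1 := (hmf y).trans hy1
  -- the 3-cycle
  obtain ⟨g, hg, c1, c2, c3, c4⟩ := h.exists_cyc (a := y) (b := μ y) (c := w) (hmf y).symm (hμy1.trans hw1.symm)
    hyμy hwμy.symm hwy.symm
  have hgB : ∀ p : Pt k m, p.1 ≠ x.1 → pp M g p = p := by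
    intro p hp
    refine c4 p ?_ ?_ ?_
    · rintro rfl; exact hp hy1
    · rintro rfl; exact hp hμy1
    · rintro rfl; exact hp hw1
  have hgn : g * n = n * g := h.comm_pr hg (hmf x).symm
    (Or.inl ⟨c4 x hyx.symm hμyx.symm hwx.symm, c4 _ hyμ.symm hμyμ.symm hwμ.symm⟩)
  have hg0 : g * q0 = q0 * g := h.comm_pr hg (hmf _).symm
    (Or.inl ⟨c4 _ hyν.symm hμyν.symm hwν.symm, c4 _ hyμν.symm hμyμν.symm hwμν.symm⟩)
  have hgv : g * v = v * g := by
    rw [h.comm_iff hg hvV]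
    intro p
    by_cases p1 : p = y
    · rw [p1, c1, hvμ]
    · by_cases p2 : p = μ y
      · rw [p2, c2, hEw, hvμ]
      · by_cases p3 : p = w
        · rw [p3, c3, hEw]
        · rw [c4 p p1 p2 p3]
  have hgφ : g * φ = φ * g := hφ g hg hgB
  have hgb : g * (b * q0 * b⁻¹) = b * q0 * b⁻¹ * g := by
    rw [hvφ, ← mul_assoc, hgv, mul_assoc, hgφ, mul_assoc]
  have hcom' := hcom g hg hgn hg0 hgb
  -- (4)
  set q1 := pr M y (μ y) with hq1
  have hq1Z : q1 ∈ Z := hdZ _ _ (hmf _).symm hyx hyμ hμyx hμyμ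
  obtain ⟨v1, hv1V, φ1, hφ1Z, hv11, hv10, hv1μ, hφ1, hvφ1⟩ := hHH (b * q1 * b⁻¹) (hZZ _ (hbZ _ hq1Z))
    (fun t ht => hfix _ hq1Z t (hAT ht) (hAcomm t ht y))
    (fun s hs h1 => hfix _ hq1Z s (hST s hs h1) (hScomm s hs h1 y hy1))
  have hgC : g ∈ C := (hmemC g).2 hgn
  have hZcomm : ∀ a ∈ zc (o2 P), ∀ c ∈ zc (o2 P), a * c = c * a := fun a ha c hc => Sit.zz_comm ha hc
  -- the three conjugates of `q₁`
  have e1 : g * q1 * g⁻¹ = pr M (μ y) w := by
    rw [hq1, h.conj_pr hg (hmf y).symm, c1, c2]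
  have e2 : g * (g * q1 * g⁻¹) * g⁻¹ = pr M w y := by
    rw [e1, h.conj_pr hg (hμy1.trans hw1.symm), c2, c3]
  have e3 : q1 * (g * q1 * g⁻¹) * (g * (g * q1 * g⁻¹) * g⁻¹) = 1 := by
    rw [e2, e1, hq1, pr_mul M (hmf y).symm (hμy1.trans hw1.symm), pr_comm M (hy1.trans hw1.symm),
      h.Vsq (pr_mem M _ _)]
  have hgq1Z : g * q1 * g⁻¹ ∈ Z := hPZ g hgC hg _ hq1Z
  set u := b * q1 * b⁻¹ with hu
  have e4 : g * u * g⁻¹ = b * (g * q1 * g⁻¹) * b⁻¹ := hcom' q1 hq1Z
  have e5 : g * (g * u * g⁻¹) * g⁻¹ = b * (g * (g * q1 * g⁻¹) * g⁻¹) * b⁻¹ := by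
    rw [e4]
    exact hcom' _ hgq1Z
  have e6 : u * (g * u * g⁻¹) * (g * (g * u * g⁻¹) * g⁻¹) = 1 := by
    rw [e5, e4, hu]
    calc b * q1 * b⁻¹ * (b * (g * q1 * g⁻¹) * b⁻¹) * (b * (g * (g * q1 * g⁻¹) * g⁻¹) * b⁻¹)
        = b * (q1 * (g * q1 * g⁻¹) * (g * (g * q1 * g⁻¹) * g⁻¹)) * b⁻¹ := by group
      _ = 1 := by rw [e3, mul_one, mul_inv_cancel]
  -- `u = v₁ φ₁`
  have hgφ1 : g * φ1 * g⁻¹ = φ1 := by rw [hφ1 g hg hgB, mul_inv_cancel_right]
  set v2 := g * v1 * g⁻¹ with hv2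
  set v3 := g * v2 * g⁻¹ with hv3
  have hv2V : v2 ∈ V := h.amb.conj_mem hg hv1V
  have hv3V : v3 ∈ V := h.amb.conj_mem hg hv2V
  have e7 : g * u * g⁻¹ = v2 * φ1 := by
    rw [hvφ1]
    calc g * (v1 * φ1) * g⁻¹ = (g * v1 * g⁻¹) * (g * φ1 * g⁻¹) := by group
      _ = v2 * φ1 := by rw [hgφ1]
  have e8 : g * (g * u * g⁻¹) * g⁻¹ = v3 * φ1 := by
    rw [e7]
    calc g * (v2 * φ1) * g⁻¹ = (g * v2 * g⁻¹) * (g * φ1 * g⁻¹) := by group
      _ = v3 * φ1 := by rw [hgφ1]
  have hφφ : φ1 * φ1 = 1 := Sit.zz_sq hφ1Z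
  have e9 : v1 * v2 * v3 * φ1 = 1 := by
    rw [e8, e7, hvφ1] at e6
    have k1 := hZcomm _ hφ1Z _ (h.VZ hv2V)
    have k2 := hZcomm _ hφ1Z _ (h.VZ hv3V)
    calc v1 * v2 * v3 * φ1 = v1 * v2 * v3 * φ1 * (φ1 * φ1) := by rw [hφφ, mul_one]
      _ = v1 * v2 * (v3 * φ1) * φ1 * φ1 := by group
      _ = v1 * v2 * (φ1 * v3) * φ1 * φ1 := by rw [k2]
      _ = v1 * (v2 * φ1) * (v3 * φ1) * φ1 := by group
      _ = v1 * (φ1 * v2) * (φ1 * v3) * φ1 := by rw [k1, k2]
      _ = v1 * φ1 * (v2 * φ1) * (v3 * φ1) := by group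
      _ = 1 := e6
  have hv123 : v1 * v2 * v3 ∈ V := V.mul_mem (V.mul_mem hv1V hv2V) hv3V
  have e10 : φ1 = v1 * v2 * v3 := by
    have k1 := mul_eq_one_iff_eq_inv.1 e9
    rw [k1, eq_comm]
    exact inv_eq_of_mul_eq_one_left hφφ
  -- supports
  have hEg : ∀ a ∈ V, (∀ p : Pt k m, p.1 ≠ x.1 → E M a p = 0) →
      ∀ p : Pt k m, p.1 ≠ x.1 → E M (g * a * g⁻¹) p = 0 := by
    intro a ha h1 p hp
    have h2 := E_conj (M := M) hg ha p
    rw [hgB p hp] at h2
    rw [h2, h1 p hp]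
  have hv21 := hEg v1 hv1V hv11
  have hv31 := hEg v2 hv2V hv21
  have hφ1V : φ1 ∈ V := by rw [e10]; exact hv123
  have hφ1one : φ1 = 1 := by
    refine h.eq_one_of_fixed (l := x.1) hφ1V (fun p hp => ?_) hφ1
    rw [e10, Half.SymA.E_mul M (V.mul_mem hv1V hv2V) hv3V, Half.SymA.E_mul M hv1V hv2V, hv11 p hp, hv21 p hp,
      hv31 p hp]
    rfl
  rw [hφ1one] at e10
  have huv : u = v1 := by rw [hvφ1, hφ1one, mul_one]
  -- `v₁` has support in `{y, μ y}`
  have hEv : ∀ p : Pt k m, p ≠ y → p ≠ μ y → p ≠ w → E M v1 p = 0 := by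
    intro p p1 p2 p3
    have k1 : pp M g p = p := c4 p p1 p2 p3
    have k2 : E M v2 p = E M v1 p := by
      have := E_conj (M := M) hg hv1V p
      rwa [k1] at this
    have k3 : E M v3 p = E M v2 p := by
      have := E_conj (M := M) hg hv2V p
      rwa [k1] at this
    have k4 : E M (v1 * v2 * v3) p = 0 := by rw [← e10, Half.SymA.E_one]
    rw [Half.SymA.E_mul M (V.mul_mem hv1V hv2V) hv3V, Half.SymA.E_mul M hv1V hv2V, k3, k2] at k4
    have k5 : ∀ a : ZMod 2, a + a + a = 0 → a = 0 := by decide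
    exact k5 _ k4
  have hEw1 : E M v1 w = 0 := by
    rcases hwz with h1 | h1
    · rw [h1]; exact hv10
    · rw [← hv1μ w]
      refine hEv _ ?_ ?_ (F.mne w h1)
      · intro h2
        have h3 := congrArg μ h2
        rw [F.msq] at h3
        exact hwμy h3
      · intro h2
        exact hwy (μ.injective h2)
  have hfin : u = q1 := by
    rcases Half.SymA.zmod2 (E M v1 y) with h1 | h1
    · exfalso
      have h2 : v1 = 1 := by
        refine Half.SymA.eq_one M hv1V fun p => ?_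
        by_cases p1 : p = y
        · rw [p1, h1]
        · by_cases p2 : p = μ y
          · rw [p2, hv1μ, h1]
          · by_cases p3 : p = w
            · rw [p3, hEw1]
            · exact hEv p p1 p2 p3
      have h3 : q1 = 1 := by
        have h4 : u = 1 := by rw [huv, h2]
        rw [hu] at h4
        calc q1 = b⁻¹ * (b * q1 * b⁻¹) * b := by group
          _ = 1 := by rw [h4]; group
      have h5 := E_pr_left M (hmf y).symm hyμy
      rw [← hq1, h3, Half.SymA.E_one] at h5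
      exact zero_ne_one h5
    · rw [huv]
      refine Half.SymA.inj M hv1V (pr_mem M _ _) fun p => ?_
      by_cases p1 : p = y
      · rw [p1, h1, E_pr_left M (hmf y).symm hyμy]
      · by_cases p2 : p = μ y
        · rw [p2, hv1μ, h1, E_pr_right M (hmf y).symm hyμy]
        · rw [E_pr_of_ne M (hmf y).symm p1 p2]
          by_cases p3 : p = w
          · rw [p3, hEw1]
          · exact hEv p p1 p2 p3
  apply hbP
  refine h.SP (hT1 b hbW y (μ y) hy1 hμy1 hyμy hyx hyμ hμyx hμyμ ?_).1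
  change b * q1 = q1 * b
  rw [hu, mul_inv_eq_iff_eq_mul] at hfin
  exact hfin

end main

end Cfsg.Agent.Omega.IId.SymWrD

end

section


/-!
# II.d, `SwBig`, `SwCv` (copy of `SymWr/LTwoTr.lean` for `D` arbitrary), `m = 2`: transport of the duads by `S` (for `LTwo`, bb OMEGA #18061 / #18702)

`F : Fours M μ ν`; the `S`-duads are the `n_x = pr M x (μ x)`, `x.2 ≠ 0`.

* `conj_dd` : `s n_x s⁻¹ = n_{s x}` for `s ∈ S`; `exists_conj_dd` : `S` is transitive on the duads, with `s ∈ S` moving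
  the point `x` to the given point `y`; `o2_conj` : the same for `O₂(C_G(n_x))`; `not_le_of` : `¬ O₂(C_G(n_x)) ≤ P`
  for one `x` gives it for all `x`;
* `dd_eq_iff` : `n_x = n_y ↔ y = x ∨ y = μ x`;
* `DX F` : the type of the duads, `2 * card = k * 2 ^ m` (`two_mul_card_DX`; `card_DX` for `m = 2`);
* `act h F : S →* Perm (DX F)`, `ker_act` : the kernel is `Fours.A h F`; `comm_all_iff`.
-/

set_option autoImplicit false

namespace Cfsg.Agent.Omega.IId.SymWrD

open Cfsg.Agent.Omega.IId.SymWr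
open Subgroup Pointwise Cfsg Cfsg.Agent.ZN Cfsg.Agent.Omega.MinPar Cfsg.Agent.Omega.FFThm
open Cfsg.Agent.Omega.Half (Amb amb_of_loc)
open Cfsg.Agent.Omega.Half.SymA (Pt E Mv pm)

universe u

variable {G : Type u} [Group G] {P V : Subgroup G} {k m : ℕ}

namespace LTwoTr

/-- conjugation of `O₂(C_G(r))` -/
theorem o2_cj [Finite G] {r r' d q : G} (h : d * r * d⁻¹ = r') (hq : q ∈ o2 (centralizer ({r} : Set G))) :
    d * q * d⁻¹ ∈ o2 (centralizer ({r'} : Set G)) := by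
  have e1 : (centralizer ({r} : Set G)).map (MulAut.conj d).toMonoidHom = centralizer ({r'} : Set G) := by
    ext x
    rw [mem_centralizer_singleton_iff, ← h]
    constructor
    · rintro ⟨y, hy, rfl⟩
      have hy' : y * r = r * y := mem_centralizer_singleton_iff.1 hy
      change d * y * d⁻¹ * (d * r * d⁻¹) = d * r * d⁻¹ * (d * y * d⁻¹)
      calc d * y * d⁻¹ * (d * r * d⁻¹) = d * (y * r) * d⁻¹ := by group
        _ = d * (r * y) * d⁻¹ := by rw [hy']
        _ = d * r * d⁻¹ * (d * y * d⁻¹) := by group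
    · intro h1
      refine ⟨d⁻¹ * x * d, mem_centralizer_singleton_iff.2 ?_, ?_⟩
      · calc d⁻¹ * x * d * r = d⁻¹ * (x * (d * r * d⁻¹)) * d := by group
          _ = d⁻¹ * (d * r * d⁻¹ * x) * d := by rw [h1]
          _ = r * (d⁻¹ * x * d) := by group
      · change d * (d⁻¹ * x * d) * d⁻¹ = x
        group
  have e2 : o2 (centralizer ({r'} : Set G)) = (o2 (centralizer ({r} : Set G))).map (MulAut.conj d).toMonoidHom := by
    rw [← e1]
    exact o2_map _ (MulAut.conj d).injective _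
  rw [e2]
  exact ⟨q, hq, rfl⟩

section dd

variable {S : Sylow 2 G} {M : SymK (S : Subgroup G) P V ⊥ k m} (h : Sit S P V M) {μ ν : Equiv.Perm (Pt k m)}
  (F : Fours M μ ν)

include h F in
/-- `s n_x s⁻¹ = n_{s x}` -/
theorem conj_dd {s : G} (hs : s ∈ (S : Subgroup G)) (x : Pt k m) :
    s * pr M x (μ x) * s⁻¹ = pr M (pp M s x) (μ (pp M s x)) := by
  rw [h.conj_pr (h.SP hs) (F.mfst x).symm, F.meqv s hs x]

include h F in
/-- `S` is transitive on the duads -/
theorem exists_conj_dd [Finite G] {x y : Pt k m} (hx : x.2 ≠ 0) (hy : y.2 ≠ 0) :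
    ∃ s ∈ (S : Subgroup G), pp M s x = y ∧ s * pr M x (μ x) * s⁻¹ = pr M y (μ y) := by
  obtain ⟨s, hs, h1⟩ := h.trans hx hy
  exact ⟨s, hs, h1, by rw [conj_dd h F hs, h1]⟩

include h F in
/-- if `O₂(C_G(n_x))` is not in `P` for one point, then for all points -/
theorem not_le_of [Finite G] {x y : Pt k m} (hx : x.2 ≠ 0) (hy : y.2 ≠ 0)
    (hn : ¬ o2 (centralizer ({pr M x (μ x)} : Set G)) ≤ P) :
    ¬ o2 (centralizer ({pr M y (μ y)} : Set G)) ≤ P := by
  intro h1
  apply hn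
  intro g hg
  obtain ⟨s, hs, h2, h3⟩ := exists_conj_dd h F hx hy
  have h4 := h1 (o2_cj h3 hg)
  have h5 : g = s⁻¹ * (s * g * s⁻¹) * s := by group
  rw [h5]
  exact P.mul_mem (P.mul_mem (P.inv_mem (h.SP hs)) h4) (h.SP hs)

include F in
/-- `n_x = n_y ↔ y ∈ {x, μ x}` -/
theorem dd_eq_iff {x y : Pt k m} (hx : x.2 ≠ 0) (hy : y.2 ≠ 0) :
    pr M x (μ x) = pr M y (μ y) ↔ y = x ∨ y = μ x := by
  constructor
  · intro h1
    by_contra h2
    rw [not_or] at h2
    have h3 := E_pr_of_ne M (F.mfst x).symm h2.1 h2.2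
    rw [h1, E_pr_left M (F.mfst y).symm (F.mne y hy).symm] at h3
    exact one_ne_zero h3
  · rintro (h1 | h1)
    · rw [h1]
    · rw [h1, F.msq, pr_comm M (F.mfst x)]

include h F in
/-- `s ∈ S` commutes with `n_x` iff it preserves `{x, μ x}` -/
theorem comm_dd_iff {s : G} (hs : s ∈ (S : Subgroup G)) {x : Pt k m} (hx : x.2 ≠ 0) :
    s * pr M x (μ x) = pr M x (μ x) * s ↔ pp M s x = x ∨ pp M s x = μ x := by
  have hsx : (pp M s x).2 ≠ 0 := fun h0 => hx ((h.snd hs).1 h0)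
  rw [← dd_eq_iff F hx hsx, ← conj_dd h F hs x, eq_comm (a := pr M x (μ x)), mul_inv_eq_iff_eq_mul]

include h F in
/-- **The kernel of `S` on the duads is `A`.** -/
theorem comm_all_iff {s : G} (hs : s ∈ (S : Subgroup G)) :
    (∀ x : Pt k m, x.2 ≠ 0 → s * pr M x (μ x) = pr M x (μ x) * s) ↔ s ∈ Fours.A h F := by
  constructor
  · intro h1
    refine ⟨hs, fun p => ?_⟩
    by_cases hp : p.2 = 0
    · left
      have h2 : ((1 : Fin (2 ^ m + 1)) : Fin (2 ^ m + 1)) ≠ 0 := by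
        have h3 : 2 ≤ 2 ^ m := by
          calc 2 = 2 ^ 1 := by norm_num
            _ ≤ 2 ^ m := Nat.pow_le_pow_right (by norm_num) h.hm1
        intro h4
        have h5 := congrArg Fin.val h4
        rw [Fin.val_one', Fin.val_zero, Nat.mod_eq_of_lt (by omega)] at h5
        exact one_ne_zero h5
      have h3 := (comm_dd_iff h F hs (x := (p.1, 1)) h2).1 (h1 _ h2)
      have h4 : (pp M s (p.1, 1)).1 = p.1 := by
        rcases h3 with h3 | h3
        · rw [h3]
        · rw [h3, F.mfst]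
      have h5 : (pp M s p).1 = p.1 := by
        rw [← h4]
        exact h.fst (h.SP hs) rfl
      exact Prod.ext h5 (((h.snd hs).2 hp).trans hp.symm)
    · exact (comm_dd_iff h F hs hp).1 (h1 p hp)
  · rintro ⟨-, h1⟩ x hx
    exact (comm_dd_iff h F hs hx).2 (h1 x)

/-! ### The type of the duads -/

/-- the duads -/
def DX (_ : Fours M μ ν) : Type u := {v : G // ∃ x : Pt k m, x.2 ≠ 0 ∧ v = pr M x (μ x)}

/-- the duad of a point -/
noncomputable def dd (x : {x : Pt k m // x.2 ≠ 0}) : DX F := ⟨pr M x (μ x), x, x.2, rfl⟩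

theorem dd_val (x : {x : Pt k m // x.2 ≠ 0}) : (dd F x).1 = pr M x (μ x) := rfl

theorem dd_surj : Function.Surjective (dd F) := by
  rintro ⟨v, x, hx, rfl⟩
  exact ⟨⟨x, hx⟩, rfl⟩

instance finite_DX : Finite (DX F) := Finite.of_surjective _ (dd_surj F)

/-- `2 |DX| = k 2 ^ m` -/
theorem two_mul_card_DX : 2 * Nat.card (DX F) = k * 2 ^ m := by
  classical
  have h1 : Nat.card {x : Pt k m // x.2 ≠ 0} = k * 2 ^ m := by
    have e : {x : Pt k m // x.2 ≠ 0} ≃ Fin k × {y : Fin (2 ^ m + 1) // y ≠ 0} :=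
      { toFun := fun x => (x.1.1, ⟨x.1.2, x.2⟩)
        invFun := fun x => ⟨(x.1, x.2.1), x.2.2⟩
        left_inv := fun x => rfl
        right_inv := fun x => rfl }
    rw [Nat.card_congr e, Nat.card_prod, Nat.card_eq_fintype_card, Fintype.card_fin, Nat.card_eq_fintype_card,
      Fintype.card_subtype_compl, Fintype.card_fin, Fintype.card_subtype_eq]
    congr 1
  have h2 : Nat.card {x : Pt k m // x.2 ≠ 0} = ∑ᶠ v : DX F, Nat.card {x : {x : Pt k m // x.2 ≠ 0} // dd F x = v} := by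
    have : Fintype (DX F) := Fintype.ofFinite _
    rw [finsum_eq_sum_of_fintype, ← Nat.card_sigma]
    exact (Nat.card_congr (Equiv.sigmaFiberEquiv (dd F))).symm
  have h3 : ∀ v : DX F, Nat.card {x : {x : Pt k m // x.2 ≠ 0} // dd F x = v} = 2 := by
    intro v
    obtain ⟨x, rfl⟩ := dd_surj F v
    have hμ : (μ x.1).2 ≠ 0 := fun h0 => x.2 (F.mnz.1 h0)
    rw [Nat.card_eq_two_iff]
    refine ⟨⟨x, rfl⟩, ⟨⟨μ x.1, hμ⟩, Subtype.ext ?_⟩, ?_, ?_⟩
    · exact ((dd_eq_iff F x.2 hμ).2 (Or.inr rfl)).symm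
    · intro h4
      have h5 := congrArg (fun y => (y.1.1 : Pt k m)) h4
      exact F.mne x.1 x.2 h5.symm
    · rw [Set.eq_univ_iff_forall]
      rintro ⟨y, hy⟩
      have h5 : pr M y.1 (μ y.1) = pr M x.1 (μ x.1) := congrArg Subtype.val hy
      rcases (dd_eq_iff F x.2 y.2).1 h5.symm with h6 | h6
      · left
        exact Subtype.ext (Subtype.ext h6)
      · right
        exact Subtype.ext (Subtype.ext h6)
  have : Fintype (DX F) := Fintype.ofFinite _
  rw [← h1, h2, finsum_eq_sum_of_fintype, Finset.sum_congr rfl fun v _ => h3 v, Finset.sum_const, Finset.card_univ,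
    ← Nat.card_eq_fintype_card, smul_eq_mul, mul_comm]

theorem card_DX {M : SymK (S : Subgroup G) P V ⊥ k 2} {μ ν : Equiv.Perm (Pt k 2)} (F : Fours M μ ν) :
    Nat.card (DX F) = 2 * k := by
  have := two_mul_card_DX F
  omega

/-- **The action of `S` on the duads.** -/
noncomputable def act (h : Sit S P V M) (F : Fours M μ ν) : (S : Subgroup G) →* Equiv.Perm (DX F) where
  toFun s :=
    { toFun := fun v => ⟨s * v.1 * (s : G)⁻¹, by
        obtain ⟨x, hx, hv⟩ := v.2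
        exact ⟨pp M s x, fun h0 => hx ((h.snd s.2).1 h0), by rw [hv, conj_dd h F s.2]⟩⟩
      invFun := fun v => ⟨(s : G)⁻¹ * v.1 * s, by
        obtain ⟨x, hx, hv⟩ := v.2
        refine ⟨pp M (s : G)⁻¹ x, fun h0 => hx (((h.snd (inv_mem s.2)).1 h0 :)), ?_⟩
        have h1 := conj_dd h F (inv_mem s.2) x
        rw [inv_inv] at h1
        rw [hv, h1]⟩
      left_inv := fun v => Subtype.ext (by
        change (s : G)⁻¹ * (s * v.1 * (s : G)⁻¹) * s = v.1
        group)
      right_inv := fun v => Subtype.ext (by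
        change (s : G) * ((s : G)⁻¹ * v.1 * s) * (s : G)⁻¹ = v.1
        group) }
  map_one' := by
    ext v
    exact Subtype.ext (by
      change (1 : G) * v.1 * (1 : G)⁻¹ = v.1
      group)
  map_mul' s t := by
    ext v
    exact Subtype.ext (by
      change (s * t : G) * v.1 * (s * t : G)⁻¹ = s * (t * v.1 * (t : G)⁻¹) * (s : G)⁻¹
      group)

theorem act_val (s : (S : Subgroup G)) (v : DX F) : (act h F s v).1 = s * v.1 * (s : G)⁻¹ := rfl

/-- **The kernel of the action on the duads is `A`.** -/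
theorem ker_act : (act h F).ker = (Fours.A h F).subgroupOf (S : Subgroup G) := by
  ext s
  rw [MonoidHom.mem_ker, mem_subgroupOf, ← comm_all_iff h F s.2]
  constructor
  · intro h1 x hx
    have h2 : (act h F s (dd F ⟨x, hx⟩)).1 = (dd F ⟨x, hx⟩).1 := by rw [h1]; rfl
    rw [act_val, dd_val, mul_inv_eq_iff_eq_mul] at h2
    exact h2
  · intro h1
    ext v
    obtain ⟨x, rfl⟩ := dd_surj F v
    refine Subtype.ext ?_
    rw [act_val, dd_val, mul_inv_eq_iff_eq_mul]
    exact h1 x x.2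

theorem mem_ker_act {s : (S : Subgroup G)} : s ∈ (act h F).ker ↔ (s : G) ∈ Fours.A h F := by
  rw [ker_act, mem_subgroupOf]

end dd

end LTwoTr

end Cfsg.Agent.Omega.IId.SymWrD

end

private theorem dce_0f4d6e4f7c1e : _root_.True := by
  try have : _root_.True := by simp only [_root_.Cfsg.Agent.Omega.IId.SymWrD.stab.congr_simp]
  try have : _root_.True := by simp only [_root_.Cfsg.Agent.Omega.IId.SymWrD.pp.eq_1]
  exact _root_.True.intro
end

-- part: Mrg/Omega/IId/SymWrD/Mod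
section
prune_inst 0x101001000400000000180000000000003000000000400000004008000000000020000801004001020010024020000020020000000000000000000000000400000000000080080000210000008004000000000000000000000000000000000000000000000
set_option linter.all false
open scoped Cfsg.Agent.FastGrp

section


/-!
# II.d, `SwBig`, `SwCv` (copy of `SymWr/Mod.lean` for `D` arbitrary): `Ω₁(Z(O₂(P)))` as a module; (E) and (HH) of THEOREM L (bb OMEGA #17498)

* `ZM P` : `Ω₁(Z(O₂(P)))`, additive; `Gam h` : the image of `P` in the permutations of the points, acting on `ZM P`;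
* `edat` : the hypotheses of (E);
* `HH_all` : the conclusion `HH h F l` of (HH), for every summand.
-/

set_option autoImplicit false

namespace Cfsg.Agent.Omega.IId.SymWrD

open Cfsg.Agent.Omega.IId.SymWr
open Subgroup Pointwise Cfsg Cfsg.Agent.ZN Cfsg.Agent.Omega.MinPar Cfsg.Agent.Omega.FFThm
open Cfsg.Agent.Omega.Half (Amb amb_of_loc)
open Cfsg.Agent.Omega.Half.SymA (Pt E Mv pm)
open Cfsg.Agent.MinSimple.VModule (mem_zc zc_le zc_comm zc_sq zc_le_zl le_normalizer_o2 o2_isPGroup o2_le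
  normalizer_le_normalizer_zc le_normalizer_zl)
open Cfsg.Agent.Omega.IId.LFour (SymF.lab SymF.lab_mem SymF.e_lab SymF.lab_add SymF.lab_eq_one_iff)

universe u

variable {G : Type u} [Group G] {P V : Subgroup G} {k m : ℕ}

/-! ### The module -/

/-- `Ω₁(Z(O₂(P)))` -/
@[ext] structure ZM (P : Subgroup G) where
  /-- the element of `G` -/
  val : G
  mem : val ∈ zc (o2 P)

namespace ZM

instance : Add (ZM P) := ⟨fun x y => ⟨x.val * y.val, mul_mem x.mem y.mem⟩⟩
instance : Zero (ZM P) := ⟨⟨1, one_mem _⟩⟩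
instance : Neg (ZM P) := ⟨fun x => ⟨x.val⁻¹, inv_mem x.mem⟩⟩

theorem val_add (x y : ZM P) : (x + y).val = x.val * y.val := rfl
theorem val_zero : (0 : ZM P).val = 1 := rfl
theorem val_neg (x : ZM P) : (-x).val = x.val⁻¹ := rfl

instance : AddCommGroup (ZM P) where
  add_assoc x y z := ZM.ext (mul_assoc _ _ _)
  zero_add x := ZM.ext (one_mul _)
  add_zero x := ZM.ext (mul_one _)
  neg_add_cancel x := ZM.ext (inv_mul_cancel _)
  add_comm x y := ZM.ext (Sit.zz_comm x.mem y.mem)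
  nsmul := nsmulRec
  zsmul := zsmulRec

theorem add_self (y : ZM P) : y + y = 0 := ZM.ext (Sit.zz_sq y.mem)

end ZM

variable {S : Sylow 2 G} {M : SymK (S : Subgroup G) P V ⊥ k m}

/-- the image of `P` in the permutations of the points -/
noncomputable abbrev Gam (h : Sit S P V M) : Subgroup (Equiv.Perm (Pt k m)) := (hom h.amb h.hm1 M).range

seal _root_.Cfsg.Agent.Omega.IId.SymWrD.pp in
theorem Gam_ex (h : Sit S P V M) (γ : Gam h) : ∃ g ∈ P, pp M g = γ := by
  obtain ⟨g, hg⟩ := γ.2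
  exact ⟨g, g.2, hg⟩

seal _root_.Cfsg.Agent.Omega.IId.SymWrD.pp in
theorem mem_Gam (h : Sit S P V M) {g : G} (hg : g ∈ P) : pp M g ∈ Gam h := ⟨⟨g, hg⟩, rfl⟩

/-- a preimage in `P` -/
noncomputable def lft (h : Sit S P V M) (γ : Gam h) : G := (Gam_ex h γ).choose

theorem lft_mem (h : Sit S P V M) (γ : Gam h) : lft h γ ∈ P := (Gam_ex h γ).choose_spec.1

seal _root_.Cfsg.Agent.Omega.IId.SymWrD.pp in
theorem pp_lft (h : Sit S P V M) (γ : Gam h) : pp M (lft h γ) = γ := (Gam_ex h γ).choose_spec.2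

noncomputable instance actG (h : Sit S P V M) : DistribMulAction (Gam h) (ZM P) where
  smul γ y := ⟨lft h γ * y.val * (lft h γ)⁻¹, Sit.zz_conj (lft_mem h γ) y.mem⟩
  one_smul y := by
    apply ZM.ext
    change lft h 1 * y.val * (lft h 1)⁻¹ = y.val
    rw [h.zz_eq (lft_mem h 1) (one_mem P) (by rw [pp_lft, h.one]; rfl) y.mem, one_mul, inv_one, mul_one]
  mul_smul γ δ y := by
    apply ZM.ext
    change lft h (γ * δ) * y.val * (lft h (γ * δ))⁻¹ =
      lft h γ * (lft h δ * y.val * (lft h δ)⁻¹) * (lft h γ)⁻¹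
    rw [h.zz_eq (lft_mem h (γ * δ)) (mul_mem (lft_mem h γ) (lft_mem h δ))
      (by rw [h.mul (lft_mem h γ) (lft_mem h δ), pp_lft, pp_lft, pp_lft]; rfl) y.mem]
    group
  smul_zero γ := by
    apply ZM.ext
    change lft h γ * 1 * (lft h γ)⁻¹ = 1
    group
  smul_add γ x y := by
    apply ZM.ext
    change lft h γ * (x.val * y.val) * (lft h γ)⁻¹ =
      lft h γ * x.val * (lft h γ)⁻¹ * (lft h γ * y.val * (lft h γ)⁻¹)
    group

seal _root_.Cfsg.Agent.Omega.IId.SymWrD.pp in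
theorem smul_val (h : Sit S P V M) {γ : Gam h} {g : G} (hg : g ∈ P) (hgγ : pp M g = γ) (y : ZM P) :
    (γ • y).val = g * y.val * g⁻¹ :=
  h.zz_eq (lft_mem h γ) hg (by rw [pp_lft, hgγ]) y.mem

seal _root_.Cfsg.Agent.Omega.IId.SymWrD.pp in
theorem smul_eq_iff (h : Sit S P V M) {γ : Gam h} {g : G} (hg : g ∈ P) (hgγ : pp M g = γ) (y : ZM P) :
    γ • y = y ↔ g * y.val = y.val * g := by
  rw [ZM.ext_iff, smul_val h hg hgγ, mul_inv_eq_iff_eq_mul]

/-- the action on the summands -/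
def bl (γ : Equiv.Perm (Pt k m)) (hγ : ∀ p q : Pt k m, p.1 = q.1 → (γ p).1 = (γ q).1)
    (hγ' : ∀ p q : Pt k m, p.1 = q.1 → (γ.symm p).1 = (γ.symm q).1) : Equiv.Perm (Fin k) where
  toFun i := (γ (i, 0)).1
  invFun i := (γ.symm (i, 0)).1
  left_inv i := by
    have h1 := hγ' ((γ (i, 0)).1, 0) (γ (i, 0)) rfl
    rw [γ.symm_apply_apply] at h1
    exact h1
  right_inv i := by
    have h1 := hγ ((γ.symm (i, 0)).1, 0) (γ.symm (i, 0)) rfl
    rw [γ.apply_symm_apply] at h1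
    exact h1

theorem Gam_fst (h : Sit S P V M) (γ : Gam h) {p q : Pt k m} (hpq : p.1 = q.1) :
    ((γ : Equiv.Perm (Pt k m)) p).1 = ((γ : Equiv.Perm (Pt k m)) q).1 := by
  rw [← pp_lft h γ]
  exact h.fst (lft_mem h γ) hpq

theorem Gam_fst' (h : Sit S P V M) (γ : Gam h) {p q : Pt k m} (hpq : p.1 = q.1) :
    ((γ : Equiv.Perm (Pt k m)).symm p).1 = ((γ : Equiv.Perm (Pt k m)).symm q).1 :=
  Gam_fst h γ⁻¹ hpq

/-- the action of `Gam h` on the summands -/
def aa (h : Sit S P V M) (γ : Gam h) : Equiv.Perm (Fin k) :=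
  bl γ (fun _ _ hpq => Gam_fst h γ hpq) (fun _ _ hpq => Gam_fst' h γ hpq)

theorem aa_apply (h : Sit S P V M) (γ : Gam h) (p : Pt k m) : aa h γ p.1 = ((γ : Equiv.Perm (Pt k m)) p).1 :=
  Gam_fst h γ rfl

/-- the image of `S` -/
noncomputable def SS (h : Sit S P V M) : Subgroup (Gam h) := ((S : Subgroup G).subgroupOf P).map (hom h.amb h.hm1 M).rangeRestrict

seal _root_.Cfsg.Agent.Omega.IId.SymWrD.pp in
seal _root_.Finset.card in
theorem mem_SS (h : Sit S P V M) {γ : Gam h} : γ ∈ SS h ↔ ∃ s ∈ (S : Subgroup G), pp M s = γ := by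
  constructor
  · rintro ⟨s, hs, rfl⟩
    exact ⟨s, mem_subgroupOf.1 hs, rfl⟩
  · rintro ⟨s, hs, h1⟩
    exact ⟨⟨s, h.SP hs⟩, mem_subgroupOf.2 hs, Subtype.ext h1⟩

/-- the permutations which fix the points outside the summand `i` -/
noncomputable def BB (h : Sit S P V M) (i : Fin k) : Subgroup (Gam h) where
  carrier := {γ | ∀ p : Pt k m, p.1 ≠ i → (γ : Equiv.Perm (Pt k m)) p = p}
  mul_mem' := by
    intro a b ha hb p hp
    change (a : Equiv.Perm (Pt k m)) ((b : Equiv.Perm (Pt k m)) p) = p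
    rw [hb p hp, ha p hp]
  one_mem' := fun p _ => rfl
  inv_mem' := by
    intro a ha p hp
    change (a : Equiv.Perm (Pt k m)).symm p = p
    rw [Equiv.symm_apply_eq, ha p hp]

theorem BB_fst (h : Sit S P V M) {i : Fin k} {γ : Gam h} (hγ : γ ∈ BB h i) (p : Pt k m) :
    ((γ : Equiv.Perm (Pt k m)) p).1 = p.1 := by
  by_cases hp : p.1 = i
  · by_contra h1
    have h2 : ((γ : Equiv.Perm (Pt k m)) p).1 ≠ i := by rw [← hp]; exact h1
    have h3 := hγ _ h2
    exact h1 (congrArg Prod.fst ((γ : Equiv.Perm (Pt k m)).injective h3))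
  · rw [hγ p hp]

/-! ### Elements of `V` -/

/-- an element of `V` with a given support function -/
theorem exists_ZM (h : Sit S P V M) (f : Pt k m → ZMod 2) (hf : ∀ i, ∑ x, f (i, x) = 0) :
    ∃ v : ZM P, v.val ∈ V ∧ ∀ p, E M v.val p = f p := by
  obtain ⟨v, hv, h1⟩ := Half.SymA.exists_E M f hf
  exact ⟨⟨v, h.VZ hv⟩, hv, h1⟩

theorem E_smul (h : Sit S P V M) (γ : Gam h) {v : ZM P} (hv : v.val ∈ V) (p : Pt k m) :
    E M (γ • v).val p = E M v.val ((γ : Equiv.Perm (Pt k m)).symm p) := by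
  rw [smul_val h (lft_mem h γ) (pp_lft h γ), E_conj' (lft_mem h γ) hv, pp_lft]
  rfl

theorem smul_mem_V (h : Sit S P V M) (γ : Gam h) {v : ZM P} (hv : v.val ∈ V) : (γ • v).val ∈ V := by
  rw [smul_val h (lft_mem h γ) (pp_lft h γ)]
  exact h.amb.conj_mem (lft_mem h γ) hv

theorem eq_of_E (h : Sit S P V M) {v w : ZM P} (hv : v.val ∈ V) (hw : w.val ∈ V) (hE : ∀ p, E M v.val p = E M w.val p) :
    v = w := ZM.ext (Half.SymA.inj M hv hw hE)

theorem sum_ne_zero (hm : 1 ≤ m) : ∑ x : Fin (2 ^ m + 1), (if x = 0 then (0 : ZMod 2) else 1) = 0 := by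
  have h1 : ∀ x : Fin (2 ^ m + 1), (if x = 0 then (0 : ZMod 2) else 1) = 1 + if x = 0 then 1 else 0 := by
    intro x
    split_ifs
    · rfl
    · rfl
  rw [Finset.sum_congr rfl fun x _ => h1 x, Finset.sum_add_distrib, Finset.sum_const, Finset.card_univ,
    Fintype.card_fin, Finset.sum_ite_eq' Finset.univ (0 : Fin (2 ^ m + 1)), if_pos (Finset.mem_univ _),
    nsmul_eq_mul, mul_one, Nat.cast_add, Nat.cast_one]
  have h6 : ((2 ^ m : ℕ) : ZMod 2) = 0 := by
    rw [ZMod.natCast_eq_zero_iff]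
    exact dvd_pow_self 2 (by omega)
  rw [h6]
  rfl

/-- the vector `σ_i`: the nonzero points of the summand `i` -/
theorem exists_sg (h : Sit S P V M) (i : Fin k) :
    ∃ v : ZM P, v.val ∈ V ∧ ∀ p : Pt k m, E M v.val p = if p.1 = i then (if p.2 = 0 then 0 else 1) else 0 := by
  apply exists_ZM h
  intro j
  by_cases hj : j = i
  · simp only [hj, if_true]
    exact sum_ne_zero h.hm1
  · simp only [if_neg hj, Finset.sum_const_zero]

/-- the vector `σ_i` -/
noncomputable def sg (h : Sit S P V M) (i : Fin k) : ZM P := (exists_sg h i).choose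

theorem sg_mem (h : Sit S P V M) (i : Fin k) : (sg h i).val ∈ V := (exists_sg h i).choose_spec.1

theorem E_sg (h : Sit S P V M) (i : Fin k) (p : Pt k m) :
    E M (sg h i).val p = if p.1 = i then (if p.2 = 0 then 0 else 1) else 0 := (exists_sg h i).choose_spec.2 p

/-- the vector `z` -/
theorem exists_zv (h : Sit S P V M) :
    ∃ v : ZM P, v.val ∈ V ∧ ∀ p : Pt k m, E M v.val p = if p.2 = 0 then 0 else 1 := by
  apply exists_ZM h
  intro j
  exact sum_ne_zero h.hm1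

/-- the vector `z` -/
noncomputable def zv (h : Sit S P V M) : ZM P := (exists_zv h).choose

theorem zv_mem (h : Sit S P V M) : (zv h).val ∈ V := (exists_zv h).choose_spec.1

theorem E_zv (h : Sit S P V M) (p : Pt k m) : E M (zv h).val p = if p.2 = 0 then 0 else 1 :=
  (exists_zv h).choose_spec.2 p

theorem sum_sg (h : Sit S P V M) (s : Finset (Fin k)) :
    (∑ i ∈ s, sg h i).val ∈ V ∧
      ∀ p : Pt k m, E M (∑ i ∈ s, sg h i).val p = if p.1 ∈ s then (if p.2 = 0 then 0 else 1) else 0 := by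
  classical
  induction s using Finset.induction_on with
  | empty =>
    refine ⟨by rw [Finset.sum_empty]; exact one_mem V, fun p => ?_⟩
    rw [Finset.sum_empty, ZM.val_zero, Half.SymA.E_one]
    simp
  | insert a s ha ih =>
    refine ⟨by rw [Finset.sum_insert ha, ZM.val_add]; exact mul_mem (sg_mem h a) ih.1, fun p => ?_⟩
    rw [Finset.sum_insert ha, ZM.val_add, Half.SymA.E_mul M (sg_mem h a) ih.1, E_sg, ih.2]
    by_cases h1 : p.1 = a
    · have h2 : p.1 ∉ s := by rw [h1]; exact ha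
      have h3 : p.1 ∈ insert a s := by rw [h1]; exact Finset.mem_insert_self _ _
      rw [if_pos h1, if_neg h2, add_zero, if_pos h3]
    · rw [if_neg h1, zero_add]
      by_cases h2 : p.1 ∈ s
      · rw [if_pos h2, if_pos (Finset.mem_insert_of_mem h2)]
      · rw [if_neg h2, if_neg]
        rw [Finset.mem_insert, not_or]
        exact ⟨h1, h2⟩

/-- the summand `i` -/
def VV (h : Sit S P V M) (i : Fin k) : AddSubgroup (ZM P) where
  carrier := {v | v.val ∈ V ∧ ∀ p : Pt k m, p.1 ≠ i → E M v.val p = 0}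
  add_mem' := by
    rintro a b ⟨ha, h1⟩ ⟨hb, h2⟩
    refine ⟨mul_mem ha hb, fun p hp => ?_⟩
    rw [ZM.val_add, Half.SymA.E_mul M ha hb, h1 p hp, h2 p hp, add_zero]
  zero_mem' := ⟨one_mem V, fun p _ => Half.SymA.E_one M p⟩
  neg_mem' := by
    rintro a ⟨ha, h1⟩
    refine ⟨inv_mem ha, fun p hp => ?_⟩
    rw [ZM.val_neg, Half.SymA.E_inv M ha, h1 p hp]

/-! ### (E) -/

section edat

variable [Finite G]

instance : Finite (ZM P) := Finite.of_injective (fun y : ZM P => y.val) fun _ _ h => ZM.ext h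

theorem not_dvd_SS (h : Sit S P V M) : ¬ 2 ∣ (SS h).index := by
  have : Fact (Nat.Prime 2) := ⟨Nat.prime_two⟩
  have hsurj : Function.Surjective (hom h.amb h.hm1 M).rangeRestrict := MonoidHom.rangeRestrict_surjective _
  set S1 : Sylow 2 P := S.subtype h.SP with hS1
  have h1 := (S1.mapSurjective hsurj).not_dvd_index
  exact h1

/-- the permutations which fix all summands -/
noncomputable def G0 (h : Sit S P V M) : Subgroup (Gam h) where
  carrier := {γ | ∀ p : Pt k m, ((γ : Equiv.Perm (Pt k m)) p).1 = p.1}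
  mul_mem' := by
    intro a b ha hb p
    change ((a : Equiv.Perm (Pt k m)) ((b : Equiv.Perm (Pt k m)) p)).1 = p.1
    rw [ha, hb]
  one_mem' := fun p => rfl
  inv_mem' := by
    intro a ha p
    change ((a : Equiv.Perm (Pt k m)).symm p).1 = p.1
    rw [← ha ((a : Equiv.Perm (Pt k m)).symm p), Equiv.apply_symm_apply]

theorem BB_le (h : Sit S P V M) (i : Fin k) : BB h i ≤ G0 h := fun _ hγ p => BB_fst h hγ p

theorem oddB (h : Sit S P V M) (i : Fin k) : Odd ((SS h).relIndex (BB h i)) := by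
  have h1 : ¬ 2 ∣ (SS h).relIndex ⊤ := by rw [relIndex_top_right]; exact not_dvd_SS h
  have h2 : (⊤ : Subgroup (Gam h)) ≤ normalizer (G0 h : Set (Gam h)) := by
    intro γ _
    refine MinSimple.VModule.mem_normalizer_of_map_le ?_
    rintro _ ⟨b, hb, rfl⟩
    intro p
    change ((γ : Equiv.Perm (Pt k m)) ((b : Equiv.Perm (Pt k m)) ((γ : Equiv.Perm (Pt k m)).symm p))).1 = p.1
    rw [Gam_fst h γ (hb _), Equiv.apply_symm_apply]
  have h3 := NO3b.UMethod.not_dvd_inf le_top h1 le_top h2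
  have h4 : G0 h ≤ normalizer (BB h i : Set (Gam h)) := by
    intro γ hγ
    refine MinSimple.VModule.mem_normalizer_of_map_le ?_
    rintro _ ⟨b, hb, rfl⟩
    intro p hp
    change (γ : Equiv.Perm (Pt k m)) ((b : Equiv.Perm (Pt k m)) ((γ : Equiv.Perm (Pt k m)).symm p)) = p
    have h5 : ((γ : Equiv.Perm (Pt k m)).symm p).1 = p.1 := (G0 h).inv_mem hγ p
    rw [hb _ (by rw [h5]; exact hp), Equiv.apply_symm_apply]
  have h5 := NO3b.UMethod.not_dvd_inf inf_le_left h3 (BB_le h i) h4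
  have h6 : BB h i ⊓ (G0 h ⊓ SS h) = BB h i ⊓ SS h := by
    rw [← inf_assoc, inf_eq_left.2 (BB_le h i)]
  rw [h6, inf_comm, inf_relIndex_right] at h5
  rw [← Nat.not_even_iff_odd, even_iff_two_dvd]
  exact h5

seal _root_.Cfsg.Agent.Omega.IId.SymWrD.pp in
theorem fix_iff (h : Sit S P V M) (s : G) (hs : s ∈ P) (y : ZM P) :
    (⟨pp M s, mem_Gam h hs⟩ : Gam h) • y = y ↔ s * y.val = y.val * s := smul_eq_iff h hs rfl y

/-- the fixed points of `S` in `V` -/
theorem fixS_V (h : Sit S P V M) {y : ZM P} (hy : ∀ s ∈ SS h, s • y = y) (h2 : y.val ∈ V) : y = 0 ∨ y = zv h := by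
  have h1 : ∀ s ∈ (S : Subgroup G), s * y.val = y.val * s := fun s hs =>
    (fix_iff h s (h.SP hs) y).1 (hy _ ((mem_SS h).2 ⟨s, hs, rfl⟩))
  have h3 : ∀ p q : Pt k m, p.2 ≠ 0 → q.2 ≠ 0 → E M y.val p = E M y.val q := by
    intro p q hp hq
    obtain ⟨s, hs, h4⟩ := h.trans hp hq
    rw [← h4, (h.comm_iff (h.SP hs) h2).1 (h1 s hs)]
  have hne : ∃ x : Fin (2 ^ m + 1), x ≠ 0 := by
    obtain ⟨c, -, hc⟩ := Half.SymA.exists_third h.hm1 0 0
    exact ⟨c, hc⟩
  obtain ⟨x0, hx0⟩ := hne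
  set c := E M y.val (⟨0, h.hk⟩, x0) with hc
  have h4 : ∀ p : Pt k m, p.2 ≠ 0 → E M y.val p = c := fun p hp => h3 _ _ hp hx0
  have h5 : ∀ p : Pt k m, p.2 = 0 → E M y.val p = 0 := by
    intro p hp
    have h6 := Half.SymA.even0 M h.hm1 h2 (i := p.1) (c := c) fun x hx => h4 _ hx
    have h7 : p = (p.1, 0) := Prod.ext rfl hp
    rw [h7]
    exact h6
  rcases Half.SymA.zmod2 c with h6 | h6
  · left
    refine eq_of_E h h2 (one_mem V) fun p => ?_
    rw [ZM.val_zero, Half.SymA.E_one]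
    by_cases hp : p.2 = 0
    · exact h5 p hp
    · rw [h4 p hp, h6]
  · right
    refine eq_of_E h h2 (zv_mem h) fun p => ?_
    rw [E_zv]
    by_cases hp : p.2 = 0
    · rw [if_pos hp]; exact h5 p hp
    · rw [if_neg hp, h4 p hp, h6]

theorem SS_snd (h : Sit S P V M) {γ : Gam h} (hγ : γ ∈ SS h) (p : Pt k m) :
    ((γ : Equiv.Perm (Pt k m)) p).2 = 0 ↔ p.2 = 0 := by
  obtain ⟨s, hs, h1⟩ := (mem_SS h).1 hγ
  rw [← h1]
  exact h.snd hs

theorem SS_two (h : Sit S P V M) : IsPGroup 2 (SS h) := by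
  have h1 : IsPGroup 2 ((S : Subgroup G).subgroupOf P) := S.isPGroup'.comap_of_injective _ P.subtype_injective
  exact h1.map _

/-- `D`, additive -/
def D0 (P D : Subgroup G) : AddSubgroup (ZM P) where
  carrier := {y | y.val ∈ D}
  add_mem' := fun {_ _} ha hb => D.mul_mem ha hb
  zero_mem' := D.one_mem
  neg_mem' := fun {_} ha => D.inv_mem ha

/-- the fixed points of `S` on `Ω₁(Z(O₂(P)))` -/
theorem fixS {D : Subgroup G} (h : SitD S P V D M) {y : ZM P} (hy : ∀ s ∈ SS h.toSit, s • y = y) :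
    y ∈ D0 P D ∨ y + zv h.toSit ∈ D0 P D := by
  have h1 : ∀ s ∈ (S : Subgroup G), s * y.val = y.val * s := fun s hs =>
    (fix_iff h.toSit s (h.SP hs) y).1 (hy _ ((mem_SS h.toSit).2 ⟨s, hs, rfl⟩))
  have h2 : y.val ∈ V ⊔ D := h.zcVD (mem_zc.2 ⟨h.QS (zc_le _ y.mem), h1, by
    rw [pow_two]; exact Sit.zz_sq y.mem⟩)
  have h3 : D ≤ centralizer (V : Set G) := fun d hd => mem_centralizer_iff.2 fun v hv =>
    Sit.zz_comm (h.VZ hv) (h.DZ hd)
  have h4 : y.val ∈ ((V ⊔ D : Subgroup G) : Set G) := h2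
  rw [coe_mul_of_right_le_normalizer_left V D (h3.trans (centralizer_le_normalizer _))] at h4
  obtain ⟨v, hv, d, hd, hvd⟩ := Set.mem_mul.1 h4
  set v' : ZM P := ⟨v, h.VZ hv⟩ with hv'
  set d' : ZM P := ⟨d, h.DZ hd⟩ with hd'
  have h5 : y = v' + d' := ZM.ext hvd.symm
  have h6 : ∀ s ∈ SS h.toSit, s • v' = v' := by
    intro s hs
    obtain ⟨t, ht, h7⟩ := (mem_SS h.toSit).1 hs
    have h8 : s • d' = d' := (smul_eq_iff h.toSit (h.SP ht) h7 d').2 (h.cenD t (h.SP ht) d hd)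
    have h9 := hy s hs
    rw [h5, smul_add, h8] at h9
    exact add_right_cancel h9
  have h7 : d' ∈ D0 P D := hd
  rcases fixS_V h.toSit h6 hv with h8 | h8
  · left
    rw [h5, h8, zero_add]
    exact h7
  · right
    have h9 : y + zv h.toSit = d' := by
      rw [h5, h8, add_comm (zv h.toSit) d', add_assoc, ZM.add_self, add_zero]
    rw [h9]
    exact h7

seal _root_.Cfsg.Agent.Omega.IId.SymWrD.pp in
theorem edat {D : Subgroup G} (hD : SitD S P V D M) : EDatE (SS hD.toSit) (BB hD.toSit) (aa hD.toSit) (VV hD.toSit)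
    (sg hD.toSit) (zv hD.toSit) (D0 P D) where
  two := by
    have h1 : IsPGroup 2 ((S : Subgroup G).subgroupOf P) := S.isPGroup'.comap_of_injective _ P.subtype_injective
    exact h1.map _
  add_self := ZM.add_self
  a_mul := by
    intro s _ t _
    ext1 i
    change (((s : Equiv.Perm (Pt k m)) ((t : Equiv.Perm (Pt k m)) (i, 0)))).1 =
      ((s : Equiv.Perm (Pt k m)) ((((t : Equiv.Perm (Pt k m)) (i, 0))).1, 0)).1
    exact Gam_fst hD.toSit s rfl
  trans := by
    intro i j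
    obtain ⟨t, ht, π, hπ, h1⟩ := Half.SymA.trans_sum (M := M) i j
    refine ⟨⟨pp M t, mem_Gam hD.toSit (hD.toSit.SP ht)⟩, (mem_SS hD.toSit).2 ⟨t, ht, rfl⟩, ?_⟩
    change (pp M t (i, 0)).1 = j
    rw [pp_eq hD.toSit.amb hD.toSit.hm1 (hD.toSit.SP ht) hπ]
    exact h1 _ rfl
  conjB := by
    intro s _ i b hb p hp
    change (s : Equiv.Perm (Pt k m)) ((b : Equiv.Perm (Pt k m)) ((s : Equiv.Perm (Pt k m)).symm p)) = p
    rw [hb, Equiv.apply_symm_apply]
    intro h1
    apply hp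
    rw [← h1, aa_apply, Equiv.apply_symm_apply]
  comm := by
    intro i j hij b hb c hc
    apply Subtype.ext
    ext1 p
    change (b : Equiv.Perm (Pt k m)) ((c : Equiv.Perm (Pt k m)) p) =
      (c : Equiv.Perm (Pt k m)) ((b : Equiv.Perm (Pt k m)) p)
    by_cases h1 : p.1 = i
    · have h2 : p.1 ≠ j := by rw [h1]; exact hij
      rw [hc p h2, hc]
      rw [BB_fst hD.toSit hb]
      exact h2
    · rw [hb p h1, hb]
      rw [BB_fst hD.toSit hc]
      exact h1
  oddB := oddB hD.toSit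
  fixS := fun y hy => fixS hD hy
  D_fix := by
    intro i b hb d hd
    obtain ⟨g, hg, h1⟩ := Gam_ex hD.toSit b
    exact (smul_eq_iff hD.toSit hg h1 d).2 (hD.cenD g hg _ hd)
  z_ne := by
    intro h0
    obtain ⟨c, -, hc⟩ := Half.SymA.exists_third hD.toSit.hm1 0 0
    have h1 := E_zv hD.toSit ((⟨0, hD.toSit.hk⟩, c) : Pt k m)
    rw [h0, ZM.val_zero, Half.SymA.E_one, if_neg hc] at h1
    exact zero_ne_one h1
  sg_mem := by
    intro i
    refine ⟨sg_mem hD.toSit i, fun p hp => ?_⟩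
    rw [E_sg, if_neg hp]
  V_inv := by
    rintro i b hb v ⟨hv, h1⟩
    refine ⟨smul_mem_V hD.toSit b hv, fun p hp => ?_⟩
    rw [E_smul hD.toSit b hv]
    have h2 : (b : Equiv.Perm (Pt k m)).symm p = p := by rw [Equiv.symm_apply_eq, hb p hp]
    rw [h2, h1 p hp]
  V_fix := by
    rintro i v ⟨hv, h1⟩ h2
    apply ZM.ext
    refine hD.toSit.eq_one_of_fixed (l := i) hv h1 fun g hg hgi => ?_
    exact (fix_iff hD.toSit g hg v).1 (h2 _ fun p hp => (hgi p hp :))
  sg_S := by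
    intro s hs i
    refine eq_of_E hD.toSit (smul_mem_V hD.toSit s (sg_mem hD.toSit i)) (sg_mem hD.toSit _) fun p => ?_
    rw [E_smul hD.toSit s (sg_mem hD.toSit i), E_sg, E_sg]
    have h1 : ((s : Equiv.Perm (Pt k m)).symm p).1 = i ↔ p.1 = aa hD.toSit s i := by
      constructor
      · intro h2
        rw [← h2, aa_apply, Equiv.apply_symm_apply]
      · intro h2
        apply (aa hD.toSit s).injective
        rw [aa_apply, Equiv.apply_symm_apply, h2]
    have h2 : ((s : Equiv.Perm (Pt k m)).symm p).2 = 0 ↔ p.2 = 0 := by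
      have h3 := SS_snd hD.toSit hs ((s : Equiv.Perm (Pt k m)).symm p)
      rw [Equiv.apply_symm_apply] at h3
      exact h3.symm
    simp only [h1, h2]
  sg_B := by
    intro i j hij b hb
    refine eq_of_E hD.toSit (smul_mem_V hD.toSit b (sg_mem hD.toSit j)) (sg_mem hD.toSit j) fun p => ?_
    rw [E_smul hD.toSit b (sg_mem hD.toSit j), E_sg, E_sg]
    by_cases hp : p.1 = i
    · have h1 : ((b : Equiv.Perm (Pt k m)).symm p).1 = p.1 := BB_fst hD.toSit ((BB hD.toSit i).inv_mem hb) p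
      rw [if_neg (by rw [h1, hp]; exact hij), if_neg (by rw [hp]; exact hij)]
    · have h2 : (b : Equiv.Perm (Pt k m)).symm p = p := by rw [Equiv.symm_apply_eq, hb p hp]
      rw [h2]
  sum := by
    rw [finsum_eq_sum_of_fintype]
    have h1 := sum_sg hD.toSit Finset.univ
    refine eq_of_E hD.toSit h1.1 (zv_mem hD.toSit) fun p => ?_
    rw [h1.2, E_zv, if_pos (Finset.mem_univ _)]

/-- **(E)** -/
theorem E_main {D : Subgroup G} (hD : SitD S P V D M) (i : Fin k) {x : ZM P}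
    (hx : ∀ s ∈ SS hD.toSit, aa hD.toSit s i = i → s • x = x) :
    ∃ φ : ZM P, (∀ b ∈ BB hD.toSit i, b • φ = φ) ∧ (x = φ ∨ x = φ + sg hD.toSit i) := (edat hD).main i hx

end edat

end Cfsg.Agent.Omega.IId.SymWrD

end

section


/-!
# II.d, `SwBig`, T-T: LEMMA R and (HF) of bb OMEGA #20414 (helper290)

`SymWrD.Sit S P V M`, `Ω₁(Z(O₂(P))) ≤ V`.

* `exists_restr` : the restriction of an element of `S` to a summand which it fixes is induced by an element of `S`;
  `exists_in` : so `S` has, for nonzero points `p`, `q` of one summand, an element `p ↦ q` trivial on the other summands;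
* `S0 h` : the elements of `S` which centralise all `σ_l`, i.e. fix all summands (`mem_S0`); a 2-group which centralises
  all `σ_l` and contains `S0 h` is `S0 h` (`syl_S0`);
* `lemR` : **LEMMA R**: `Y` a 2-group normalised by `S0 h`, `Y ∩ S0 h` trivial on the summands outside `J`, `Y`
  centralises `σ_j`, `j ∈ J` ⟹ `Y ≤ S0 h`; `lemR_a` (`J = ∅`), `lemR_b` (`J = {i}`);
* `HF` : a 2-subgroup `O` which is normalised by all elements of `P` inside the summands is contained in `O₂(P)`;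
  `HF_zc` : so `V ≤ Ω₁(Z(O))`, if moreover `C_G(O) ≤ O`.
-/

set_option autoImplicit false

namespace Cfsg.Agent.Omega.IId.SwB

open Cfsg.Agent.Omega.IId.SymWrD
open Subgroup Pointwise Cfsg Cfsg.Agent.ZN Cfsg.Agent.Omega.MinPar Cfsg.Agent.Omega.FFThm
open Cfsg.Agent.Omega.Half.SymA (Pt E Mv pm Amb0)
open Cfsg.Agent.MinSimple.VModule (mem_zc zc_le zc_comm zc_sq zc_le_zl le_normalizer_o2 o2_isPGroup o2_le
  normalizer_le_normalizer_zc le_normalizer_zl mem_normalizer_of_map_le)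

universe u

variable {G : Type u} [Group G] {P V : Subgroup G} {k m : ℕ} {S : Sylow 2 G} {M : SymK (S : Subgroup G) P V ⊥ k m}

/-! ### Restrictions -/

seal _root_.Cfsg.Agent.Omega.IId.SymWrD.pp in
/-- the permutations which are, on each summand, induced by an element of `S` -/
def RR (h : Sit S P V M) : Subgroup (Equiv.Perm (Pt k m)) where
  carrier := {δ | ∀ j : Fin k, ∃ s ∈ (S : Subgroup G), ∀ p : Pt k m, p.1 = j → δ p = pp M s p ∧ (pp M s p).1 = j}
  mul_mem' := by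
    intro a b ha hb j
    obtain ⟨s, hs, h1⟩ := ha j
    obtain ⟨t, ht, h2⟩ := hb j
    refine ⟨s * t, mul_mem hs ht, fun p hp => ?_⟩
    rw [h.mul (h.SP hs) (h.SP ht), Equiv.Perm.mul_apply, Equiv.Perm.mul_apply, (h2 p hp).1]
    exact h1 _ (h2 p hp).2
  one_mem' := fun j => ⟨1, one_mem _, fun p hp => by rw [h.one]; exact ⟨rfl, hp⟩⟩
  inv_mem' := by
    intro a ha j
    obtain ⟨s, hs, h1⟩ := ha j
    refine ⟨s⁻¹, inv_mem hs, fun p hp => ?_⟩
    rw [h.inv (h.SP hs)]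
    set r := (pp M s)⁻¹ p with hr
    have h2 : pp M s r = p := (pp M s).apply_symm_apply p
    have h3 : r.1 = p.1 := by
      rw [← pp_fst_iff h.amb h.hm1 (h.SP hs) (M := M), h2, (h1 p hp).2, hp]
    refine ⟨?_, h3.trans hp⟩
    rw [Equiv.Perm.inv_eq_iff_eq, (h1 r (h3.trans hp)).1, h2]

seal _root_.Cfsg.Agent.Omega.IId.SymWrD.pp in
theorem RR_two [Finite G] (h : Sit S P V M) : IsPGroup 2 (RR h) := by
  obtain ⟨n, hn⟩ := IsPGroup.iff_card.1 S.isPGroup'
  rintro ⟨δ, hδ⟩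
  refine ⟨n, Subtype.ext ?_⟩
  change δ ^ 2 ^ n = 1
  ext1 p
  obtain ⟨s, hs, h1⟩ := hδ p.1
  have h2 : ∀ i : ℕ, ∀ q : Pt k m, q.1 = p.1 → (δ ^ i) q = pp M (s ^ i) q ∧ (pp M (s ^ i) q).1 = p.1 := by
    intro i
    induction i with
    | zero => intro q hq; rw [pow_zero, pow_zero, h.one]; exact ⟨rfl, hq⟩
    | succ i ih =>
      intro q hq
      rw [pow_succ, pow_succ, h.mul (pow_mem (h.SP hs) i) (h.SP hs), Equiv.Perm.mul_apply, Equiv.Perm.mul_apply,
        (h1 q hq).1]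
      exact ih _ (h1 q hq).2
  have h3 : s ^ 2 ^ n = 1 := by
    have h4 : (⟨s, hs⟩ : (S : Subgroup G)) ^ 2 ^ n = 1 := by rw [← hn]; exact pow_card_eq_one'
    exact congrArg Subtype.val h4
  rw [(h2 _ p rfl).1, h3, h.one]

seal _root_.Cfsg.Agent.Omega.IId.SymWrD.pp in
theorem RR_conj (h : Sit S P V M) {s : G} (hs : s ∈ (S : Subgroup G)) {δ : Equiv.Perm (Pt k m)} (hδ : δ ∈ RR h) :
    pp M s * δ * (pp M s)⁻¹ ∈ RR h := by
  intro j
  obtain ⟨t, ht, h1⟩ := hδ ((pp M s)⁻¹ (j, 0)).1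
  refine ⟨s * t * s⁻¹, mul_mem (mul_mem hs ht) (inv_mem hs), fun p hp => ?_⟩
  rw [h.conj (h.SP hs) (h.SP ht)]
  set r := (pp M s)⁻¹ p with hr
  have h2 : r.1 = ((pp M s)⁻¹ (j, 0)).1 := by
    rw [hr, ← h.inv (h.SP hs)]
    exact h.fst (inv_mem (h.SP hs)) hp
  obtain ⟨h3, h4⟩ := h1 r h2
  rw [Equiv.Perm.mul_apply, Equiv.Perm.mul_apply, Equiv.Perm.mul_apply, Equiv.Perm.mul_apply, ← hr, h3]
  refine ⟨rfl, ?_⟩
  have h5 : (pp M s (pp M t r)).1 = (pp M s ((pp M s)⁻¹ (j, 0))).1 := h.fst (h.SP hs) h4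
  rw [h5, show pp M s ((pp M s)⁻¹ (j, 0)) = (j, 0) from (pp M s).apply_symm_apply _]

seal _root_.Cfsg.Agent.Omega.IId.SymWrD.pp in
/-- **Restrictions.** -/
theorem exists_restr [Finite G] (h : Sit S P V M) {s : G} (hs : s ∈ (S : Subgroup G)) {i : Fin k}
    (hi : ∀ p : Pt k m, p.1 = i → (pp M s p).1 = i) :
    ∃ t ∈ (S : Subgroup G), (∀ p : Pt k m, p.1 = i → pp M t p = pp M s p) ∧ ∀ p : Pt k m, p.1 ≠ i → pp M t p = p := by
  classical
  have hi' : ∀ p : Pt k m, (pp M s p).1 = i ↔ p.1 = i := by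
    intro p
    refine ⟨fun hp => ?_, hi p⟩
    have h1 : (pp M s p).1 = (pp M s (i, 0)).1 := by rw [hp, hi (i, 0) rfl]
    exact (pp_fst_iff h.amb h.hm1 (h.SP hs) (M := M)).1 h1
  set δ : Equiv.Perm (Pt k m) := Equiv.Perm.ofSubtype (Equiv.Perm.subtypePerm (p := fun p : Pt k m => p.1 = i) (pp M s) hi')
    with hδ
  have h1 : ∀ p : Pt k m, p.1 = i → δ p = pp M s p := by
    intro p hp
    exact Equiv.Perm.ofSubtype_apply_of_mem (p := fun p : Pt k m => p.1 = i) _ hp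
  have h2 : ∀ p : Pt k m, p.1 ≠ i → δ p = p := fun p hp =>
    Equiv.Perm.ofSubtype_apply_of_not_mem (p := fun p : Pt k m => p.1 = i) _ hp
  have h3 : δ ∈ RR h := by
    intro j
    by_cases hj : j = i
    · exact ⟨s, hs, fun p hp => ⟨h1 p (hp.trans hj), (hi p (hp.trans hj)).trans hj.symm⟩⟩
    · refine ⟨1, one_mem _, fun p hp => ?_⟩
      rw [h.one]
      exact ⟨h2 p (by rw [hp]; exact hj), hp⟩
  obtain ⟨t, ht, h4⟩ := h.induced (RR_two h) (fun δ hδ p => by
    obtain ⟨s, -, h5⟩ := hδ p.1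
    rw [(h5 p rfl).1, (h5 p rfl).2]) (fun s hs δ hδ => RR_conj h hs hδ) h3
  exact ⟨t, ht, fun p hp => by rw [h4, h1 p hp], fun p hp => by rw [h4, h2 p hp]⟩

/-! ### `S0` -/

/-- the elements of `S` which centralise all `σ_l` -/
noncomputable def S0 (h : Sit S P V M) : Subgroup G :=
  (S : Subgroup G) ⊓ centralizer (Set.range fun l => (sg h l).val)

theorem exists_ne_zero (hm : 1 ≤ m) : ∃ x : Fin (2 ^ m + 1), x ≠ 0 := by
  obtain ⟨c, -, hc⟩ := Half.SymA.exists_third hm 0 0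
  exact ⟨c, hc⟩

seal _root_.Cfsg.Agent.Omega.IId.SymWrD.pp in
theorem mem_S0 (h : Sit S P V M) {s : G} :
    s ∈ S0 h ↔ s ∈ (S : Subgroup G) ∧ ∀ p : Pt k m, (pp M s p).1 = p.1 := by
  unfold S0
  rw [mem_inf]
  refine and_congr_right fun hs => ?_
  rw [mem_centralizer_iff]
  constructor
  · intro h1 p
    obtain ⟨x, hx⟩ := exists_ne_zero h.hm1
    have h3 := (h.comm_iff (h.SP hs) (sg_mem h p.1)).1 (h1 _ ⟨p.1, rfl⟩).symm (p.1, x)
    rw [E_sg, E_sg, if_pos rfl, if_neg hx] at h3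
    by_contra hne
    have h4 : (pp M s (p.1, x)).1 = (pp M s p).1 := h.fst (h.SP hs) rfl
    rw [if_neg (by rw [h4]; exact hne)] at h3
    exact zero_ne_one h3
  · rintro h1 _ ⟨l, rfl⟩
    refine ((h.comm_iff (h.SP hs) (sg_mem h l)).2 fun p => ?_).symm
    rw [E_sg, E_sg, h1 p]
    by_cases h2 : p.1 = l
    · rw [if_pos h2, if_pos h2]
      by_cases h3 : p.2 = 0
      · rw [if_pos h3, if_pos ((h.snd hs).2 h3)]
      · rw [if_neg h3, if_neg fun h4 => h3 ((h.snd hs).1 h4)]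
    · rw [if_neg h2, if_neg h2]

theorem S0_le (h : Sit S P V M) : S0 h ≤ (S : Subgroup G) := inf_le_left

seal _root_.Cfsg.Agent.Omega.IId.SymWrD.pp in
theorem S0_fst (h : Sit S P V M) {s : G} (hs : s ∈ S0 h) (p : Pt k m) : (pp M s p).1 = p.1 := ((mem_S0 h).1 hs).2 p

theorem S0_comm (h : Sit S P V M) {s : G} (hs : s ∈ S0 h) (l : Fin k) : s * (sg h l).val = (sg h l).val * s :=
  (mem_centralizer_iff.1 (mem_inf.1 hs).2 _ ⟨l, rfl⟩).symm

theorem Q_le_S0 (h : Sit S P V M) : o2 P ≤ S0 h := fun s hs =>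
  (mem_S0 h).2 ⟨h.QS hs, fun p => by rw [(h.mem_Q_iff (h.QS hs)).1 hs]; rfl⟩

seal _root_.Cfsg.Agent.Omega.IId.SymWrD.pp in
theorem exists_in [Finite G] (h : Sit S P V M) {p q : Pt k m} (hpq : p.1 = q.1) (hp : p.2 ≠ 0) (hq : q.2 ≠ 0) :
    ∃ s ∈ S0 h, pp M s p = q ∧ ∀ r : Pt k m, r.1 ≠ p.1 → pp M s r = r := by
  obtain ⟨s, hs, h1⟩ := h.trans hp hq
  have h0 : ∀ r : Pt k m, r.1 = p.1 → (pp M s r).1 = p.1 := by
    intro r hr
    rw [h.fst (h.SP hs) hr, h1, hpq]
  obtain ⟨t, ht, h2, h3⟩ := exists_restr h hs h0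
  refine ⟨t, (mem_S0 h).2 ⟨ht, fun r => ?_⟩, by rw [h2 p rfl, h1], h3⟩
  by_cases hr : r.1 = p.1
  · rw [h2 r hr, h0 r hr, hr]
  · rw [h3 r hr]

seal _root_.Cfsg.Agent.Omega.IId.SymWrD.pp in
/-- `S0 h` is a Sylow subgroup of the centraliser of all `σ_l` -/
theorem syl_S0 [Finite G] (h : Sit S P V M) {X : Subgroup G} (hX : IsPGroup 2 X)
    (hXc : ∀ x ∈ X, ∀ l, x * (sg h l).val = (sg h l).val * x) (hSX : S0 h ≤ X) : X ≤ S0 h := by
  have : Fact (Nat.Prime 2) := ⟨Nat.prime_two⟩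
  set C : Subgroup G := centralizer (Set.range fun l => (sg h l).val) with hC
  have hSN : (S : Subgroup G) ≤ normalizer (C : Set G) := by
    intro s hs
    refine mem_normalizer_of_map_le ?_
    rintro _ ⟨c, hc, rfl⟩
    change s * c * s⁻¹ ∈ C
    rw [hC, mem_centralizer_iff]
    rintro _ ⟨l, rfl⟩
    change (sg h l).val * (s * c * s⁻¹) = s * c * s⁻¹ * (sg h l).val
    -- `s⁻¹ σ_l s = σ_l'`
    have h1 : s⁻¹ * (sg h l).val * s⁻¹⁻¹ = (sg h ((pp M s⁻¹ (l, 0)).1)).val := by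
      refine Half.SymA.inj M (h.amb.conj_mem (inv_mem (h.SP hs)) (sg_mem h _)) (sg_mem h _) fun p => ?_
      rw [E_conj' (inv_mem (h.SP hs)) (sg_mem h _), h.inv (h.SP hs), inv_inv, E_sg, E_sg]
      have h2 : (pp M s p).1 = l ↔ p.1 = ((pp M s)⁻¹ (l, 0)).1 := by
        rw [← pp_fst_iff h.amb h.hm1 (h.SP hs) (M := M) (p := p),
          show pp M s ((pp M s)⁻¹ (l, 0)) = (l, 0) from (pp M s).apply_symm_apply _]
      by_cases h3 : (pp M s p).1 = l
      · rw [if_pos h3, if_pos (h2.1 h3)]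
        by_cases h4 : p.2 = 0
        · rw [if_pos h4, if_pos ((h.snd hs).2 h4)]
        · rw [if_neg h4, if_neg fun h5 => h4 ((h.snd hs).1 h5)]
      · rw [if_neg h3, if_neg fun h4 => h3 (h2.2 h4)]
    rw [inv_inv] at h1
    have h2 := mem_centralizer_iff.1 hc _ ⟨(pp M s⁻¹ (l, 0)).1, rfl⟩
    change (sg h ((pp M s⁻¹ (l, 0)).1)).val * c = c * (sg h ((pp M s⁻¹ (l, 0)).1)).val at h2
    rw [← h1] at h2
    calc (sg h l).val * (s * c * s⁻¹) = s * (s⁻¹ * (sg h l).val * s * c) * s⁻¹ := by group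
      _ = s * (c * (s⁻¹ * (sg h l).val * s)) * s⁻¹ := by rw [h2]
      _ = s * c * s⁻¹ * (sg h l).val := by group
  have h1 : ¬ 2 ∣ (S : Subgroup G).relIndex (normalizer (C : Set G)) := by
    intro h2
    apply S.not_dvd_index
    rw [← relIndex_mul_index hSN]
    exact Dvd.dvd.mul_right h2 _
  have h2 := NO3b.UMethod.not_dvd_inf hSN h1 le_normalizer le_rfl
  rw [inf_comm] at h2
  have h3 : X ≤ C := fun x hx => mem_centralizer_iff.2 (by
    rintro _ ⟨l, rfl⟩
    exact (hXc x hx l).symm)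
  have h4 : ¬ 2 ∣ (S0 h).relIndex X := by
    intro h5
    apply h2
    have h6 := relIndex_mul_relIndex (S0 h) X C hSX h3
    change 2 ∣ (S0 h).relIndex C
    rw [← h6]
    exact Dvd.dvd.mul_right h5 _
  obtain ⟨n, hn⟩ := IsPGroup.iff_card.1 hX
  have h5 : (S0 h).relIndex X ∣ 2 ^ n := by
    rw [← hn]
    exact relIndex_dvd_card _ _
  obtain ⟨i, -, hi⟩ := (Nat.dvd_prime_pow Nat.prime_two).1 h5
  rcases Nat.eq_zero_or_pos i with h6 | h6
  · rw [h6, pow_zero] at hi
    exact relIndex_eq_one.1 hi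
  · exact absurd (by rw [hi]; exact dvd_pow_self 2 (by omega)) h4

/-! ### LEMMA R -/

theorem E_sum (M : SymK (S : Subgroup G) P V ⊥ k m) {ι : Type*} (f : ι → ZM P) (t : Finset ι) (hf : ∀ i ∈ t, (f i).val ∈ V) :
    (∑ i ∈ t, f i).val ∈ V ∧ ∀ p, E M (∑ i ∈ t, f i).val p = ∑ i ∈ t, E M (f i).val p := by
  classical
  induction t using Finset.induction_on with
  | empty =>
    refine ⟨by rw [Finset.sum_empty]; exact one_mem V, fun p => ?_⟩
    rw [Finset.sum_empty, ZM.val_zero, Half.SymA.E_one, Finset.sum_empty]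
  | insert a t ha ih =>
    obtain ⟨h1, h2⟩ := ih fun i hi => hf i (Finset.mem_insert_of_mem hi)
    have h3 := hf a (Finset.mem_insert_self _ _)
    refine ⟨by rw [Finset.sum_insert ha, ZM.val_add]; exact mul_mem h3 h1, fun p => ?_⟩
    rw [Finset.sum_insert ha, ZM.val_add, Half.SymA.E_mul M h3 h1, h2, Finset.sum_insert ha]

/-- `σ_l` is a sum of duads `{x, x₀}`, `x ≠ 0` -/
theorem sg_eq_sum (h : Sit S P V M) (l : Fin k) (x₀ : Fin (2 ^ m + 1)) :
    sg h l = ∑ x ∈ Finset.univ.filter (fun x : Fin (2 ^ m + 1) => x ≠ 0),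
      (⟨pr M (l, x) (l, x₀), h.VZ (pr_mem M _ _)⟩ : ZM P) := by
  classical
  obtain ⟨h1, h2⟩ := E_sum M (fun x : Fin (2 ^ m + 1) => (⟨pr M (l, x) (l, x₀), h.VZ (pr_mem M _ _)⟩ : ZM P))
    (Finset.univ.filter (fun x : Fin (2 ^ m + 1) => x ≠ 0)) fun i _ => pr_mem M _ _
  refine eq_of_E h (sg_mem h l) h1 fun p => ?_
  rw [h2, E_sg]
  rw [Finset.sum_congr rfl fun x _ => E_pr M (show ((l, x) : Pt k m).1 = ((l, x₀) : Pt k m).1 from rfl) p,
    Finset.sum_add_distrib, Finset.sum_const]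
  have hcard : (Finset.univ.filter (fun x : Fin (2 ^ m + 1) => x ≠ 0)).card = 2 ^ m := by
    rw [Finset.filter_ne' Finset.univ (0 : Fin (2 ^ m + 1)), Finset.card_erase_of_mem (Finset.mem_univ _),
      Finset.card_univ, Fintype.card_fin]
    rfl
  have h6 : ((2 ^ m : ℕ) : ZMod 2) = 0 := by
    rw [ZMod.natCast_eq_zero_iff]
    exact dvd_pow_self 2 (by have := h.hm; omega)
  rw [hcard, nsmul_eq_mul, h6, zero_mul, add_zero]
  by_cases h3 : p.1 = l
  · rw [if_pos h3]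
    by_cases h4 : p.2 = 0
    · rw [if_pos h4]
      refine (Finset.sum_eq_zero fun x hx => if_neg ?_).symm
      rintro rfl
      exact (Finset.mem_filter.1 hx).2 h4
    · rw [if_neg h4, Finset.sum_eq_single_of_mem p.2 (Finset.mem_filter.2 ⟨Finset.mem_univ _, h4⟩)]
      · rw [if_pos (show p = (l, p.2) from Prod.ext h3 rfl)]
      · intro b _ hb
        refine if_neg ?_
        rintro h5
        exact hb (congrArg Prod.snd h5).symm
  · rw [if_neg h3]
    refine (Finset.sum_eq_zero fun x hx => if_neg ?_).symm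
    rintro rfl
    exact h3 rfl

section core

variable [Finite G] (h : Sit S P V M) (hZV : zc (o2 P) ≤ V) {J : Set (Fin k)} {w : G}
  (hw1 : ∀ s ∈ S0 h, w * s * w⁻¹ ∈ S0 h ∧ ∀ p : Pt k m, p.1 ∉ J → pp M (w * s * w⁻¹) p = pp M s p)
  (hw2 : ∀ s ∈ S0 h, w⁻¹ * s * w ∈ S0 h ∧ ∀ p : Pt k m, p.1 ∉ J → pp M (w⁻¹ * s * w) p = pp M s p)

seal _root_.Cfsg.Agent.Omega.IId.SymWrD.pp in
omit [Finite G] in
include hw2 in
theorem coreK {v : G} (hv : v ∈ V) (hvJ : ∀ p : Pt k m, p.1 ∈ J → E M v p = 0) {s : G} (hs : s ∈ S0 h)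
    (hsJ : ∀ p : Pt k m, p.1 ∉ J → pp M s p = p) : s * (w * v * w⁻¹) = w * v * w⁻¹ * s := by
  obtain ⟨h1, h2⟩ := hw2 s hs
  have h3 : w⁻¹ * s * w * v = v * (w⁻¹ * s * w) := by
    rw [h.comm_iff (h.SP (S0_le h h1)) hv]
    intro p
    by_cases hp : p.1 ∈ J
    · rw [hvJ p hp, hvJ _ (by rw [S0_fst h h1]; exact hp)]
    · rw [h2 p hp, hsJ p hp]
  calc s * (w * v * w⁻¹) = w * (w⁻¹ * s * w * v) * w⁻¹ := by group
    _ = w * (v * (w⁻¹ * s * w)) * w⁻¹ := by rw [h3]
    _ = w * v * w⁻¹ * s := by group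

omit [Finite G] in
include hZV hw2 in
theorem coreV {v : G} (hv : v ∈ V) (hvJ : ∀ p : Pt k m, p.1 ∈ J → E M v p = 0) : w * v * w⁻¹ ∈ V := by
  have h1 : ∀ g ∈ o2 P, g * (w * v * w⁻¹) = w * v * w⁻¹ * g := fun g hg =>
    coreK h hw2 hv hvJ (Q_le_S0 h hg) fun p _ => by rw [(h.mem_Q_iff (h.QS hg)).1 hg]; rfl
  refine hZV (mem_zc.2 ⟨h.cQ (mem_centralizer_iff.2 h1), h1, ?_⟩)
  rw [pow_two]
  calc w * v * w⁻¹ * (w * v * w⁻¹) = w * (v * v) * w⁻¹ := by group
    _ = 1 := by rw [h.Vsq hv]; group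

include hZV hw2 in
theorem coreJ {v : G} (hv : v ∈ V) (hvJ : ∀ p : Pt k m, p.1 ∈ J → E M v p = 0) {p q : Pt k m} (hp : p.1 ∈ J)
    (hpq : p.1 = q.1) (h0 : p.2 = 0 ↔ q.2 = 0) : E M (w * v * w⁻¹) p = E M (w * v * w⁻¹) q := by
  by_cases hp0 : p.2 = 0
  · rw [show p = q from Prod.ext hpq (hp0.trans (h0.1 hp0).symm)]
  · obtain ⟨s, hs, h1, h2⟩ := exists_in h hpq hp0 fun h3 => hp0 (h0.2 h3)
    have h3 := coreK h hw2 hv hvJ hs fun r hr => h2 r fun h4 => hr (h4 ▸ hp)
    rw [← h1]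
    exact ((h.comm_iff (h.SP (S0_le h hs)) (coreV h hZV hw2 hv hvJ)).1 h3 p).symm

seal _root_.Cfsg.Agent.Omega.IId.SymWrD.pp in
include hZV hw1 hw2 in
/-- the conjugate of a duad of the summand `l` is supported in the summand `l` -/
theorem coreD {l : Fin k} (hl : l ∉ J) {x y : Fin (2 ^ m + 1)} (hx : x ≠ 0) (hy : y ≠ 0) :
    w * pr M (l, x) (l, y) * w⁻¹ ∈ V ∧ ∀ p : Pt k m, p.1 ≠ l → E M (w * pr M (l, x) (l, y) * w⁻¹) p = 0 := by
  have hsup : ∀ x y : Fin (2 ^ m + 1), ∀ p : Pt k m, p.1 ∈ J → E M (pr M (l, x) (l, y)) p = 0 := by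
    intro x y p hp
    have h1 : p.1 ≠ l := fun h2 => hl (h2 ▸ hp)
    exact E_pr_of_ne M (show ((l, x) : Pt k m).1 = ((l, y) : Pt k m).1 from rfl) (fun h2 => h1 (congrArg Prod.fst h2))
      fun h2 => h1 (congrArg Prod.fst h2)
  refine ⟨coreV h hZV hw2 (pr_mem M _ _) (hsup x y), fun p hp => ?_⟩
  obtain ⟨s, hs, h1, h2⟩ := exists_in h (p := (l, x)) (q := (l, y)) rfl hx hy
  have h3 : pp M s (l, 0) = (l, 0) :=
    Prod.ext (S0_fst h hs (l, 0)) ((h.snd (S0_le h hs)).2 rfl)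
  set v := pr M (l, x) (l, 0) with hv
  have h4 : s * v * s⁻¹ = pr M (l, 0) (l, y) := by
    rw [hv, h.conj_pr (h.SP (S0_le h hs)) (show ((l, x) : Pt k m).1 = ((l, 0) : Pt k m).1 from rfl), h1, h3,
      pr_comm M (show ((l, y) : Pt k m).1 = ((l, 0) : Pt k m).1 from rfl)]
  have h5 : pr M (l, x) (l, y) = v * (s * v * s⁻¹) := by
    rw [h4, hv, pr_mul M (show ((l, x) : Pt k m).1 = ((l, 0) : Pt k m).1 from rfl)
      (show ((l, 0) : Pt k m).1 = ((l, y) : Pt k m).1 from rfl)]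
  obtain ⟨h6, h7⟩ := hw1 s hs
  set t := w * s * w⁻¹ with ht
  have hu : w * v * w⁻¹ ∈ V := coreV h hZV hw2 (pr_mem M _ _) (hsup x 0)
  have h8 : w * pr M (l, x) (l, y) * w⁻¹ = w * v * w⁻¹ * (t * (w * v * w⁻¹) * t⁻¹) := by
    rw [h5, ht]; group
  have htP := h.SP (S0_le h h6)
  rw [h8, Half.SymA.E_mul M hu (h.amb.conj_mem htP hu), E_conj' htP hu]
  set r := (pp M t)⁻¹ p with hr
  have h9 : pp M t r = p := (pp M t).apply_symm_apply p
  have h10 : r.1 = p.1 := by rw [← S0_fst h h6 r, h9]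
  have h11 : E M (w * v * w⁻¹) p = E M (w * v * w⁻¹) r := by
    by_cases hpJ : p.1 ∈ J
    · refine coreJ h hZV hw2 (pr_mem M _ _) (hsup x 0) hpJ h10.symm ?_
      rw [← h9, h.snd (S0_le h h6)]
    · have h12 : pp M t r = r := by
        rw [h7 r (by rw [h10]; exact hpJ), h2 r (by rw [h10]; exact hp)]
      rw [← h9, h12]
  rw [h11]
  exact CharTwo.add_self_eq_zero _

include hZV hw1 hw2 in
/-- `w` centralises `σ_l`, `l ∉ J` -/
theorem core {l : Fin k} (hl : l ∉ J) : w * (sg h l).val = (sg h l).val * w := by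
  let W : AddSubgroup (ZM P) :=
    { carrier := {v | v.val ∈ V ∧ w * v.val * w⁻¹ ∈ V ∧ ∀ p : Pt k m, p.1 ≠ l → E M (w * v.val * w⁻¹) p = 0}
      zero_mem' := ⟨one_mem V, by
        rw [ZM.val_zero, mul_one, mul_inv_cancel]
        exact one_mem V, fun p _ => by
        rw [ZM.val_zero, mul_one, mul_inv_cancel]
        exact Half.SymA.E_one M p⟩
      add_mem' := by
        rintro a b ⟨ha, ha1, ha2⟩ ⟨hb, hb1, hb2⟩
        have e : w * (a + b).val * w⁻¹ = w * a.val * w⁻¹ * (w * b.val * w⁻¹) := by rw [ZM.val_add]; group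
        refine ⟨mul_mem ha hb, ?_, fun p hp => ?_⟩
        · rw [e]; exact mul_mem ha1 hb1
        · rw [e, Half.SymA.E_mul M ha1 hb1, ha2 p hp, hb2 p hp, add_zero]
      neg_mem' := by
        rintro a ⟨ha, ha1, ha2⟩
        have e : w * (-a).val * w⁻¹ = (w * a.val * w⁻¹)⁻¹ := by rw [ZM.val_neg]; group
        refine ⟨inv_mem ha, ?_, fun p hp => ?_⟩
        · rw [e]; exact inv_mem ha1
        · rw [e, Half.SymA.E_inv M ha1, ha2 p hp] }
  obtain ⟨x₀, hx₀⟩ := exists_ne_zero h.hm1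
  have h1 : sg h l ∈ W := by
    rw [sg_eq_sum h l x₀]
    refine AddSubgroup.sum_mem _ fun x hx => ?_
    obtain ⟨h2, h3⟩ := coreD h hZV hw1 hw2 hl (Finset.mem_filter.1 hx).2 hx₀
    exact ⟨pr_mem M _ _, h2, h3⟩
  obtain ⟨-, h2, h3⟩ := h1
  set u := w * (sg h l).val * w⁻¹ with hu
  -- `u` is fixed by `S0`
  have h4 : ∀ s ∈ S0 h, s * u = u * s := by
    intro s hs
    have h5 := S0_comm h (hw2 s hs).1 l
    calc s * u = w * (w⁻¹ * s * w * (sg h l).val) * w⁻¹ := by rw [hu]; group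
      _ = w * ((sg h l).val * (w⁻¹ * s * w)) * w⁻¹ := by rw [h5]
      _ = u * s := by rw [hu]; group
  have h5 : ∀ x y : Fin (2 ^ m + 1), x ≠ 0 → y ≠ 0 → E M u (l, x) = E M u (l, y) := by
    intro x y hx hy
    obtain ⟨s, hs, h6, -⟩ := exists_in h (p := (l, x)) (q := (l, y)) rfl hx hy
    rw [← h6]
    exact ((h.comm_iff (h.SP (S0_le h hs)) h2).1 (h4 s hs) _).symm
  have h6 : E M u (l, 0) = 0 :=
    Half.SymA.even0 M h.hm1 h2 (i := l) (c := E M u (l, x₀)) fun x hx => h5 x x₀ hx hx₀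
  have h7 : u = (sg h l).val := by
    refine Half.SymA.inj M h2 (sg_mem h l) fun p => ?_
    rw [E_sg]
    by_cases hp : p.1 = l
    · rw [if_pos hp]
      by_cases hp0 : p.2 = 0
      · rw [if_pos hp0, show p = (l, 0) from Prod.ext hp hp0]; exact h6
      · rw [if_neg hp0]
        rcases Half.SymA.zmod2 (E M u (l, x₀)) with h8 | h8
        · exfalso
          have h9 : u = 1 := by
            refine Half.SymA.inj M h2 (one_mem V) fun q => ?_
            rw [Half.SymA.E_one]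
            by_cases hq : q.1 = l
            · by_cases hq0 : q.2 = 0
              · rw [show q = (l, 0) from Prod.ext hq hq0]; exact h6
              · rw [show q = (l, q.2) from Prod.ext hq rfl, h5 _ _ hq0 hx₀]; exact h8
            · exact h3 q hq
          have h10 : (sg h l).val = 1 := by
            rw [hu] at h9
            have h11 : (sg h l).val = w⁻¹ * (w * (sg h l).val * w⁻¹) * w := by group
            rw [h11, h9]; group
          have h11 := E_sg h l (l, x₀)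
          rw [h10, Half.SymA.E_one, if_pos rfl, if_neg hx₀] at h11
          exact zero_ne_one h11
        · rw [show p = (l, p.2) from Prod.ext hp rfl, h5 _ _ hp0 hx₀]; exact h8
    · rw [if_neg hp]; exact h3 p hp
  rw [hu] at h7
  rw [← mul_inv_eq_iff_eq_mul]
  exact h7

end core

seal _root_.Cfsg.Agent.Omega.IId.SymWrD.pp in
/-- **LEMMA R** (bb OMEGA #20414 (2)). -/
theorem lemR [Finite G] (h : Sit S P V M) (hZV : zc (o2 P) ≤ V) (J : Set (Fin k)) {Y : Subgroup G} (hY : IsPGroup 2 Y)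
    (hn : S0 h ≤ normalizer (Y : Set G)) (h1 : ∀ y ∈ Y, y ∈ S0 h → ∀ p : Pt k m, p.1 ∉ J → pp M y p = p)
    (h2 : ∀ j ∈ J, ∀ y ∈ Y, y * (sg h j).val = (sg h j).val * y) : Y ≤ S0 h := by
  have : Fact (Nat.Prime 2) := ⟨Nat.prime_two⟩
  have hS02 : IsPGroup 2 (S0 h) := S.isPGroup'.to_le (S0_le h)
  have hX : IsPGroup 2 (S0 h ⊔ Y : Subgroup G) := hS02.to_sup_of_normal_right' hY hn
  by_contra hcon
  have hlt : S0 h < S0 h ⊔ Y := by
    refine lt_of_le_of_ne le_sup_left fun h3 => hcon ?_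
    rw [h3]
    exact le_sup_right
  obtain ⟨x, hx, hx1, hx2⟩ := Involutions.BaerSuzuki.exists_mem_normalizer_of_lt hX hlt
  obtain ⟨s₀, hs₀, w, hw, rfl⟩ := mem_sup_norm hn hx
  have hwn : w ∈ normalizer (S0 h : Set G) := by
    have h3 : w = s₀⁻¹ * (s₀ * w) := by group
    rw [h3]
    exact mul_mem (inv_mem (le_normalizer hs₀)) hx2
  have hwS : w ∉ S0 h := fun h3 => hx1 (mul_mem hs₀ h3)
  have key : ∀ y ∈ Y, y ∈ normalizer (S0 h : Set G) → ∀ s ∈ S0 h,
      y * s * y⁻¹ ∈ S0 h ∧ ∀ p : Pt k m, p.1 ∉ J → pp M (y * s * y⁻¹) p = pp M s p := by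
    intro y hy hyn s hs
    have h3 : y * s * y⁻¹ ∈ S0 h := (mem_normalizer_iff.1 hyn s).1 hs
    refine ⟨h3, fun p hp => ?_⟩
    have h4 : y * s * y⁻¹ * s⁻¹ ∈ S0 h := mul_mem h3 (inv_mem hs)
    have h5 : y * s * y⁻¹ * s⁻¹ ∈ Y := by
      have h6 : s * y⁻¹ * s⁻¹ ∈ Y := (mem_normalizer_iff.1 (hn hs) _).1 (inv_mem hy)
      have h7 : y * s * y⁻¹ * s⁻¹ = y * (s * y⁻¹ * s⁻¹) := by group
      rw [h7]
      exact mul_mem hy h6
    have h6 : y * s * y⁻¹ = y * s * y⁻¹ * s⁻¹ * s := by group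
    rw [h6, h.mul (h.SP (S0_le h h4)) (h.SP (S0_le h hs)), Equiv.Perm.mul_apply]
    exact h1 _ h5 h4 _ (by rw [S0_fst h hs]; exact hp)
  have hwc : ∀ l, w * (sg h l).val = (sg h l).val * w := by
    intro l
    by_cases hl : l ∈ J
    · exact h2 l hl w hw
    · refine core h hZV (key w hw hwn) (fun s hs => ?_) hl
      have h3 := key w⁻¹ (inv_mem hw) (inv_mem hwn) s hs
      rwa [inv_inv] at h3
  apply hwS
  have hX' : IsPGroup 2 (S0 h ⊔ zpowers w : Subgroup G) :=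
    hX.to_le (sup_le_sup_left (zpowers_le.2 hw) _)
  refine syl_S0 h hX' ?_ le_sup_left (mem_sup_right (mem_zpowers w))
  intro x hx l
  have h3 : S0 h ⊔ zpowers w ≤ centralizer ({(sg h l).val} : Set G) := by
    refine sup_le (fun s hs => ?_) (zpowers_le.2 ?_)
    · rw [mem_centralizer_singleton_iff]; exact S0_comm h hs l
    · rw [mem_centralizer_singleton_iff]; exact hwc l
  exact mem_centralizer_singleton_iff.1 (h3 hx)

/-- LEMMA R (a): `Y ∩ S⁰` trivial on `V`. -/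
theorem lemR_a [Finite G] (h : Sit S P V M) (hZV : zc (o2 P) ≤ V) {Y : Subgroup G} (hY : IsPGroup 2 Y)
    (hn : S0 h ≤ normalizer (Y : Set G)) (h1 : ∀ y ∈ Y, y ∈ S0 h → y ∈ o2 P) : Y ≤ S0 h :=
  lemR h hZV ∅ hY hn (fun y hy hy0 p _ => by
    rw [(h.mem_Q_iff (S0_le h hy0)).1 (h1 y hy hy0)]
    rfl) fun j hj => absurd hj (Set.notMem_empty j)

seal _root_.Cfsg.Agent.Omega.IId.SymWrD.pp in
/-- LEMMA R (b): `Y ∩ S⁰` trivial on the summands `≠ i`, `Y` centralises `σ_i`. -/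
theorem lemR_b [Finite G] (h : Sit S P V M) (hZV : zc (o2 P) ≤ V) (i : Fin k) {Y : Subgroup G} (hY : IsPGroup 2 Y)
    (hn : S0 h ≤ normalizer (Y : Set G)) (h1 : ∀ y ∈ Y, y ∈ S0 h → ∀ p : Pt k m, p.1 ≠ i → pp M y p = p)
    (h2 : ∀ y ∈ Y, y * (sg h i).val = (sg h i).val * y) : Y ≤ S0 h :=
  lemR h hZV {i} hY hn (fun y hy hy0 p hp => h1 y hy hy0 p hp) fun j hj y hy => by
    rw [Set.mem_singleton_iff.1 hj]
    exact h2 y hy

/-! ### (HF) -/

seal _root_.Cfsg.Agent.Omega.IId.SymWrD.pp in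
/-- A 2-group `O` normalised by `Sym(Ω_l)`: the elements of `O ∩ P` which fix the summand `l` act trivially on it. -/
theorem fix_block [Finite G] (h : Sit S P V M) {O : Subgroup G} (hO : IsPGroup 2 O) (l : Fin k)
    (hn : ∀ g ∈ P, (∀ p : Pt k m, p.1 ≠ l → pp M g p = p) → g ∈ normalizer (O : Set G)) {y : G} (hy : y ∈ O) (hyP : y ∈ P)
    (hyl : (pp M y (l, 0)).1 = l) {p : Pt k m} (hp : p.1 = l) : pp M y p = p := by
  classical
  let O1 : Subgroup G :=
    { carrier := {g | g ∈ O ∧ g ∈ P ∧ (pp M g (l, 0)).1 = l}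
      mul_mem' := by
        rintro a b ⟨ha, ha1, ha2⟩ ⟨hb, hb1, hb2⟩
        refine ⟨mul_mem ha hb, mul_mem ha1 hb1, ?_⟩
        rw [h.mul ha1 hb1, Equiv.Perm.mul_apply]
        rw [show (pp M a (pp M b (l, 0))).1 = (pp M a (l, 0)).1 from h.fst ha1 hb2, ha2]
      one_mem' := ⟨one_mem _, one_mem _, by rw [h.one]; rfl⟩
      inv_mem' := by
        rintro a ⟨ha, ha1, ha2⟩
        refine ⟨inv_mem ha, inv_mem ha1, ?_⟩
        rw [h.inv ha1]
        have h1 : pp M a ((pp M a)⁻¹ (l, 0)) = (l, 0) := (pp M a).apply_symm_apply _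
        have h2 : (pp M a ((pp M a)⁻¹ (l, 0))).1 = (pp M a (l, 0)).1 := by rw [h1, ha2]
        exact (pp_fst_iff h.amb h.hm1 ha1 (M := M)).1 h2 }
  have hO1 : ∀ g, g ∈ O1 ↔ g ∈ O ∧ g ∈ P ∧ (pp M g (l, 0)).1 = l := fun g => Iff.rfl
  -- `O1` fixes a point of the summand
  obtain ⟨g, hg, hgS⟩ := Half.SymA.exists_conj_le S h.SP (hO.to_le (fun x hx => ((hO1 x).1 hx).1) : IsPGroup 2 O1)
    fun x hx => ((hO1 x).1 hx).2.1
  set z : Pt k m := (pp M g)⁻¹ ((pp M g (l, 0)).1, 0) with hz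
  have hgz : pp M g z = ((pp M g (l, 0)).1, 0) := (pp M g).apply_symm_apply _
  have hzl : z.1 = l := by
    have h1 : (pp M g z).1 = (pp M g (l, 0)).1 := by rw [hgz]
    exact (pp_fst_iff h.amb h.hm1 hg (M := M)).1 h1
  have hfix : ∀ x ∈ O1, pp M x z = z := by
    intro x hx
    obtain ⟨hx1, hx2, hx3⟩ := (hO1 x).1 hx
    have h1 := hgS x hx
    have h2 : pp M (g * x * g⁻¹) (pp M g z) = pp M g (pp M x z) := by
      rw [h.conj hg hx2, Equiv.Perm.mul_apply, Equiv.Perm.mul_apply,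
        show (pp M g)⁻¹ (pp M g z) = z from (pp M g).symm_apply_apply z]
    have h3 : (pp M g (pp M x z)).2 = 0 := by
      rw [← h2]
      exact (h.snd h1).2 (by rw [hgz])
    have h4 : (pp M g (pp M x z)).1 = (pp M g z).1 := by
      refine h.fst hg ?_
      rw [show (pp M x z).1 = (pp M x (l, 0)).1 from h.fst hx2 hzl, hx3, hzl]
    have h5 : pp M g (pp M x z) = pp M g z := Prod.ext h4 (by rw [h3, hgz])
    exact (pp M g).injective h5
  have hyO : y ∈ O1 := (hO1 y).2 ⟨hy, hyP, hyl⟩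
  by_contra hne
  have hzp : z ≠ p := by
    rintro h1
    exact hne (by rw [← h1]; exact hfix y hyO)
  have hswap : ∀ r : Pt k m, r.1 ≠ l → Equiv.swap z p r = r := fun r hr =>
    Equiv.swap_apply_of_ne_of_ne (fun h1 => hr (by rw [h1, hzl])) fun h1 => hr (by rw [h1, hp])
  obtain ⟨t, ht, hτ⟩ := h.exists_pp (π := Equiv.swap z p) (by
    intro r
    by_cases h1 : r = z
    · rw [h1, Equiv.swap_apply_left, hp, hzl]
    · by_cases h2 : r = p
      · rw [h2, Equiv.swap_apply_right, hp, hzl]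
      · rw [Equiv.swap_apply_of_ne_of_ne h1 h2])
  have htn : t ∈ normalizer (O : Set G) := hn t ht fun r hr => by rw [hτ]; exact hswap r hr
  have hz' : pp M (t * y * t⁻¹) z = Equiv.swap z p (pp M y p) := by
    rw [h.conj ht hyP, hτ, Equiv.Perm.mul_apply, Equiv.Perm.mul_apply, Equiv.swap_inv, Equiv.swap_apply_left]
  have h1 : t * y * t⁻¹ ∈ O1 := by
    refine (hO1 _).2 ⟨(mem_normalizer_iff.1 htn y).1 hy, mul_mem (mul_mem ht hyP) (inv_mem ht), ?_⟩
    have hP : t * y * t⁻¹ ∈ P := mul_mem (mul_mem ht hyP) (inv_mem ht)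
    rw [show (pp M (t * y * t⁻¹) (l, 0)).1 = (pp M (t * y * t⁻¹) z).1 from h.fst hP hzl.symm, hz', ← hτ,
      show (pp M t (pp M y p)).1 = (pp M t (l, 0)).1 from h.fst ht (by
        rw [show (pp M y p).1 = (pp M y (l, 0)).1 from h.fst hyP hp, hyl])]
    rw [show (pp M t (l, 0)).1 = (pp M t z).1 from h.fst ht hzl.symm, hτ, Equiv.swap_apply_left, hp]
  have h2 := hfix _ h1
  rw [hz', Equiv.swap_apply_of_ne_of_ne ?_ hne] at h2
  · have h3 : pp M y p = pp M y z := by rw [h2, hfix y hyO]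
    exact hzp ((pp M y).injective h3).symm
  · intro h3
    have h4 : pp M y p = pp M y z := by rw [h3, hfix y hyO]
    exact hzp ((pp M y).injective h4).symm

seal _root_.Cfsg.Agent.Omega.IId.SymWrD.pp in
/-- **(HF)** (bb OMEGA #20414 (3)): a 2-subgroup normalised by all elements of `P` inside the summands is in `O₂(P)`. -/
theorem HF [Finite G] (h : Sit S P V M) (hZV : zc (o2 P) ≤ V) {O : Subgroup G} (hO : IsPGroup 2 O)
    (hn : ∀ g ∈ P, (∀ p : Pt k m, (pp M g p).1 = p.1) → g ∈ normalizer (O : Set G)) : O ≤ o2 P := by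
  have h1 : ∀ y ∈ O, y ∈ S0 h → y ∈ o2 P := by
    intro y hy hy0
    have hyP := h.SP (S0_le h hy0)
    rw [h.mem_Q_iff (S0_le h hy0)]
    ext1 p
    refine fix_block h hO p.1 (fun g hg hg1 => hn g hg fun r => ?_) hy hyP (S0_fst h hy0 _) rfl
    by_cases hr : r.1 = p.1
    · by_contra h2
      have h3 : (pp M g r).1 ≠ p.1 := by rw [← hr]; exact h2
      have h4 := hg1 _ h3
      exact h2 (congrArg Prod.fst ((pp M g).injective h4))
    · rw [hg1 r hr]
  have h2 : O ≤ S0 h := lemR_a h hZV hO (fun s hs => hn s (h.SP (S0_le h hs)) (S0_fst h hs)) h1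
  exact fun y hy => h1 y hy (h2 hy)

seal _root_.Cfsg.Agent.Omega.IId.SymWrD.pp in
/-- (HF) for `O₂(M₀)`. -/
theorem HF_o2 [Finite G] (h : Sit S P V M) (hZV : zc (o2 P) ≤ V) {M₀ : Subgroup G}
    (hM : ∀ g ∈ P, (∀ p : Pt k m, (pp M g p).1 = p.1) → g ∈ M₀)
    (hc : M₀ ⊓ centralizer (o2 M₀ : Set G) ≤ o2 M₀) : o2 M₀ ≤ o2 P ∧ V ≤ zc (o2 M₀) := by
  have h1 : o2 M₀ ≤ o2 P := HF h hZV (o2_isPGroup M₀) fun g hg hg1 => le_normalizer_o2 M₀ (hM g hg hg1)
  have h2 : ∀ v ∈ V, ∀ g ∈ o2 M₀, g * v = v * g := fun v hv g hg =>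
    (mem_zc.1 (h.VZ hv)).2.1 g (h1 hg)
  refine ⟨h1, fun v hv => mem_zc.2 ⟨hc ⟨hM v (h.SP (h.VS hv)) fun p => ?_, mem_centralizer_iff.2 (h2 v hv)⟩, h2 v hv,
    h.amb.sq v hv⟩⟩
  rw [(h.eq_one_iff (h.SP (h.VS hv))).2 (mem_centralizer_iff.2 fun w hw => h.Vcomm hw hv)]
  rfl

seal _root_.Cfsg.Agent.Omega.IId.SymWrD.pp in
/-- (HF) for a 2-local subgroup. -/
theorem HF_nor [Finite G] (hG : IsCharacteristicTwoType G) (h : Sit S P V M) (hZV : zc (o2 P) ≤ V) {B : Subgroup G}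
    (hB : IsPGroup 2 B) (hB1 : B ≠ ⊥)
    (hM : ∀ g ∈ P, (∀ p : Pt k m, (pp M g p).1 = p.1) → g ∈ normalizer (B : Set G)) :
    o2 (normalizer (B : Set G)) ≤ o2 P ∧ V ≤ zc (o2 (normalizer (B : Set G))) :=
  HF_o2 h hZV hM (MinSimple.Basic.char2_normalizer hG hB hB1)

end Cfsg.Agent.Omega.IId.SwB

end

section


/-!
# II.d, `SwBig`, `SwCv` (copy of `SymWr/HHApp.lean` for `D` arbitrary): (HH) of THEOREM L (bb OMEGA #17498) from (E) and the halving lemma

* `Yi h i` : the vectors of `Ω₁(Z(O₂(P)))` fixed by `C_S(V_i)`, a module for the symmetric group of the summand `i`;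
* `HH_all` : `HH h F l` for every summand `l`.
-/

set_option autoImplicit false

namespace Cfsg.Agent.Omega.IId.SymWrD

open Cfsg.Agent.Omega.IId.SymWr
open Subgroup Pointwise Cfsg Cfsg.Agent.ZN Cfsg.Agent.Omega.MinPar Cfsg.Agent.Omega.FFThm
open Cfsg.Agent.Omega.Half (Amb amb_of_loc)
open Cfsg.Agent.Omega.Half.SymA (Pt E Mv pm)
open Cfsg.Agent.MinSimple.VModule (mem_zc zc_le zc_comm zc_sq zc_le_zl le_normalizer_o2 o2_isPGroup o2_le
  normalizer_le_normalizer_zc le_normalizer_zl)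
open Cfsg.Agent.Omega.S5.Of (hat hat_add hat_comp sum_hat hat_eq_zero_iff)
open Cfsg.Agent.Omega.NSix.Match (Mod)

universe u

variable {G : Type u} [Group G] {P V : Subgroup G} {k m : ℕ} {S : Sylow 2 G} {M : SymK (S : Subgroup G) P V ⊥ k m}

seal _root_.Cfsg.Agent.Omega.IId.SymWrD.pp in
theorem fix_iff' (h : Sit S P V M) (s : G) (hs : s ∈ P) (y : ZM P) :
    (⟨pp M s, mem_Gam h hs⟩ : Gam h) • y = y ↔ s * y.val = y.val * s := smul_eq_iff h hs rfl y

/-- the permutation `τ` of the summand `i` -/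
def bk (i : Fin k) (τ : Equiv.Perm (Fin (2 ^ m + 1))) : Equiv.Perm (Pt k m) where
  toFun p := if p.1 = i then (p.1, τ p.2) else p
  invFun p := if p.1 = i then (p.1, τ.symm p.2) else p
  left_inv p := by
    by_cases hp : p.1 = i
    · have h1 : (if p.1 = i then ((p.1, τ p.2) : Pt k m) else p) = (p.1, τ p.2) := if_pos hp
      simp only [h1]
      rw [if_pos hp, τ.symm_apply_apply]
    · have h1 : (if p.1 = i then ((p.1, τ p.2) : Pt k m) else p) = p := if_neg hp
      simp only [h1]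
      rw [if_neg hp]
  right_inv p := by
    by_cases hp : p.1 = i
    · have h1 : (if p.1 = i then ((p.1, τ.symm p.2) : Pt k m) else p) = (p.1, τ.symm p.2) := if_pos hp
      simp only [h1]
      rw [if_pos hp, τ.apply_symm_apply]
    · have h1 : (if p.1 = i then ((p.1, τ.symm p.2) : Pt k m) else p) = p := if_neg hp
      simp only [h1]
      rw [if_neg hp]

theorem bk_of (i : Fin k) (τ : Equiv.Perm (Fin (2 ^ m + 1))) {p : Pt k m} (hp : p.1 = i) :
    bk i τ p = (p.1, τ p.2) := if_pos hp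

theorem bk_of_ne (i : Fin k) (τ : Equiv.Perm (Fin (2 ^ m + 1))) {p : Pt k m} (hp : p.1 ≠ i) :
    bk i τ p = p := if_neg hp

theorem bk_fst (i : Fin k) (τ : Equiv.Perm (Fin (2 ^ m + 1))) (p : Pt k m) : (bk i τ p).1 = p.1 := by
  by_cases hp : p.1 = i
  · rw [bk_of i τ hp]
  · rw [bk_of_ne i τ hp]

theorem bk_mul (i : Fin k) (σ τ : Equiv.Perm (Fin (2 ^ m + 1))) : bk i (σ * τ) = bk i σ * bk i τ := by
  ext1 p
  rw [Equiv.Perm.mul_apply]
  by_cases hp : p.1 = i
  · rw [bk_of i _ hp, bk_of i τ hp, bk_of i σ (p := (p.1, τ p.2)) hp]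
    rfl
  · rw [bk_of_ne i _ hp, bk_of_ne i τ hp, bk_of_ne i σ hp]

theorem bk_one (i : Fin k) : bk i (1 : Equiv.Perm (Fin (2 ^ m + 1))) = 1 := by
  ext1 p
  by_cases hp : p.1 = i
  · rw [bk_of i _ hp]; rfl
  · rw [bk_of_ne i _ hp]; rfl

theorem bk_mem (h : Sit S P V M) (i : Fin k) (τ : Equiv.Perm (Fin (2 ^ m + 1))) : bk i τ ∈ Gam h := by
  obtain ⟨g, hg, h1⟩ := h.exists_pp (fun p => bk_fst i τ p)
  rw [← h1]
  exact mem_Gam h hg

/-- the permutation `τ` of the summand `i`, as a homomorphism -/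
noncomputable def bh (h : Sit S P V M) (i : Fin k) : Equiv.Perm (Fin (2 ^ m + 1)) →* Gam h where
  toFun τ := ⟨bk i τ, bk_mem h i τ⟩
  map_one' := Subtype.ext (bk_one i)
  map_mul' σ τ := Subtype.ext (bk_mul i σ τ)

theorem bh_coe (h : Sit S P V M) (i : Fin k) (τ : Equiv.Perm (Fin (2 ^ m + 1))) :
    ((bh h i τ : Gam h) : Equiv.Perm (Pt k m)) = bk i τ := rfl

theorem bh_mem (h : Sit S P V M) (i : Fin k) (τ : Equiv.Perm (Fin (2 ^ m + 1))) : bh h i τ ∈ BB h i :=
  fun _ hp => bk_of_ne i τ hp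

/-- every element of `BB h i` is a permutation of the summand `i` -/
theorem exists_bh (h : Sit S P V M) {i : Fin k} {γ : Gam h} (hγ : γ ∈ BB h i) : ∃ τ, bh h i τ = γ := by
  have hf := fun p => BB_fst h hγ p
  have hf' : ∀ p, ((γ : Equiv.Perm (Pt k m)).symm p).1 = p.1 := fun p => BB_fst h ((BB h i).inv_mem hγ) p
  let τ : Equiv.Perm (Fin (2 ^ m + 1)) :=
    { toFun := fun x => ((γ : Equiv.Perm (Pt k m)) (i, x)).2
      invFun := fun x => ((γ : Equiv.Perm (Pt k m)).symm (i, x)).2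
      left_inv := fun x => by
        have h1 : ((i, ((γ : Equiv.Perm (Pt k m)) (i, x)).2) : Pt k m) = (γ : Equiv.Perm (Pt k m)) (i, x) :=
          Prod.ext (hf (i, x)).symm rfl
        simp only [h1, Equiv.symm_apply_apply]
      right_inv := fun x => by
        have h1 : ((i, ((γ : Equiv.Perm (Pt k m)).symm (i, x)).2) : Pt k m) = (γ : Equiv.Perm (Pt k m)).symm (i, x) :=
          Prod.ext (hf' (i, x)).symm rfl
        simp only [h1, Equiv.apply_symm_apply] }
  refine ⟨τ, Subtype.ext ?_⟩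
  ext1 p
  rw [bh_coe]
  by_cases hp : p.1 = i
  · rw [bk_of i τ hp]
    refine Prod.ext (hf p).symm ?_
    have h2 : p = (i, p.2) := Prod.ext hp rfl
    change ((γ : Equiv.Perm (Pt k m)) (i, p.2)).2 = _
    rw [← h2]
  · rw [bk_of_ne i τ hp, hγ p hp]

/-- the elements of `S` fixing the points of the summand `i` -/
def SF (S : Sylow 2 G) (M : SymK (S : Subgroup G) P V ⊥ k m) (i : Fin k) (s : G) : Prop :=
  s ∈ (S : Subgroup G) ∧ ∀ p : Pt k m, p.1 = i → pp M s p = p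

/-- the vectors fixed by `C_S(V_i)` -/
def Yi (h : Sit S P V M) (i : Fin k) : AddSubgroup (ZM P) where
  carrier := {y | ∀ s, SF S M i s → s * y.val = y.val * s}
  add_mem' := by
    intro a b ha hb s hs
    rw [ZM.val_add, ← mul_assoc, ha s hs, mul_assoc, hb s hs, mul_assoc]
  zero_mem' := by
    intro s _
    rw [ZM.val_zero, mul_one, one_mul]
  neg_mem' := by
    intro a ha s hs
    have h1 : (-a).val = a.val := by
      rw [ZM.val_neg, inv_eq_of_mul_eq_one_left]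
      exact Sit.zz_sq a.mem
    rw [h1]
    exact ha s hs

seal _root_.Cfsg.Agent.Omega.IId.SymWrD.pp in
/-- `BB h i` acts on `Yi h i` -/
theorem smul_mem_Yi (h : Sit S P V M) {i : Fin k} {γ : Gam h} (hγ : γ ∈ BB h i) {y : ZM P} (hy : y ∈ Yi h i) :
    γ • y ∈ Yi h i := by
  intro s hs
  have hsP := h.SP hs.1
  rw [← fix_iff' h s hsP]
  have h1 : (⟨pp M s, mem_Gam h hsP⟩ : Gam h) * γ = γ * ⟨pp M s, mem_Gam h hsP⟩ := by
    apply Subtype.ext
    ext1 p
    change pp M s ((γ : Equiv.Perm (Pt k m)) p) = (γ : Equiv.Perm (Pt k m)) (pp M s p)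
    by_cases hp : p.1 = i
    · rw [hs.2 p hp, hs.2 _ ((BB_fst h hγ p).trans hp)]
    · rw [hγ p hp, hγ]
      intro h2
      apply hp
      have h3 := hs.2 _ h2
      have h4 := (pp M s).injective h3
      rw [← h4]
      exact h2
  rw [← mul_smul, h1, mul_smul, (fix_iff' h s hsP y).2 (hy s hs)]

noncomputable instance actY (h : Sit S P V M) (i : Fin k) :
    DistribMulAction (Equiv.Perm (Fin (2 ^ m + 1))) (Yi h i) where
  smul τ y := ⟨bh h i τ • y.1, smul_mem_Yi h (bh_mem h i τ) y.2⟩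
  one_smul y := by
    apply Subtype.ext
    change bh h i 1 • y.1 = y.1
    rw [map_one, one_smul]
  mul_smul σ τ y := by
    apply Subtype.ext
    change bh h i (σ * τ) • y.1 = bh h i σ • bh h i τ • y.1
    rw [map_mul, mul_smul]
  smul_zero τ := Subtype.ext (smul_zero (bh h i τ))
  smul_add τ x y := Subtype.ext (smul_add (bh h i τ) x.1 y.1)

theorem coe_smulY (h : Sit S P V M) (i : Fin k) (τ : Equiv.Perm (Fin (2 ^ m + 1))) (y : Yi h i) :
    ((τ • y : Yi h i) : ZM P) = bh h i τ • (y : ZM P) := rfl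

/-! ### The copy of the even-subset module -/

seal _root_.Cfsg.Agent.Omega.IId.SymWrD.pp in
theorem lab_Yi (h : Sit S P V M) (i : Fin k) (f : Fin (2 ^ m + 1) → ZMod 2) :
    (⟨LFour.SymF.lab M h.hm1 i f, h.VZ (LFour.SymF.lab_mem M h.hm1 i f)⟩ : ZM P) ∈ Yi h i := by
  intro s hs
  have h1 := LFour.SymF.lab_mem M h.hm1 i f
  change s * LFour.SymF.lab M h.hm1 i f = LFour.SymF.lab M h.hm1 i f * s
  rw [h.comm_iff (h.SP hs.1) h1]
  intro p
  by_cases hp : p.1 = i
  · rw [hs.2 p hp]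
  · have h2 : (pp M s p).1 ≠ i := by
      intro h2
      have h3 := hs.2 _ h2
      have h4 := (pp M s).injective h3
      apply hp
      rw [← h4]
      exact h2
    have h3 : ∀ q : Pt k m, q.1 ≠ i → E M (LFour.SymF.lab M h.hm1 i f) q = 0 := by
      intro q hq
      change M.e _ q.1 q.2 = 0
      rw [LFour.SymF.e_lab, Pi.single_eq_of_ne hq]
      rfl
    rw [h3 _ h2, h3 _ hp]

/-- the copy of the even-subset module -/
noncomputable def io (h : Sit S P V M) (i : Fin k) (f : Fin (2 ^ m + 1) → ZMod 2) : Yi h i :=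
  ⟨⟨LFour.SymF.lab M h.hm1 i f, h.VZ (LFour.SymF.lab_mem M h.hm1 i f)⟩, lab_Yi h i f⟩

theorem io_val (h : Sit S P V M) (i : Fin k) (f : Fin (2 ^ m + 1) → ZMod 2) :
    (io h i f : ZM P).val = LFour.SymF.lab M h.hm1 i f := rfl

theorem E_io (h : Sit S P V M) (i : Fin k) (f : Fin (2 ^ m + 1) → ZMod 2) (p : Pt k m) :
    E M (io h i f : ZM P).val p = if p.1 = i then hat f p.2 else 0 := by
  rw [io_val]
  change M.e _ p.1 p.2 = _
  rw [LFour.SymF.e_lab]
  by_cases hp : p.1 = i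
  · rw [if_pos hp, hp, Pi.single_eq_same]
  · rw [if_neg hp, Pi.single_eq_of_ne hp]
    rfl

theorem io_mod (h : Sit S P V M) (i : Fin k) : _root_.Cfsg.Agent.Omega.NSix.Match.Mod (io h i) where
  two y := Subtype.ext (ZM.add_self _)
  add f g := by
    apply Subtype.ext
    apply ZM.ext
    exact LFour.SymF.lab_add M h.hm1 i f g
  act σ f := by
    apply Subtype.ext
    rw [coe_smulY]
    have h1 := (io h i f : ZM P)
    have h2 : (io h i f : ZM P).val ∈ V := LFour.SymF.lab_mem M h.hm1 i f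
    refine eq_of_E h (smul_mem_V h _ h2) (LFour.SymF.lab_mem M h.hm1 i _) fun p => ?_
    rw [E_smul h _ h2, E_io]
    have h3 := E_io h i (f ∘ σ.symm) p
    rw [h3, bh_coe]
    by_cases hp : p.1 = i
    · have h4 : (bk i σ).symm p = (p.1, σ.symm p.2) := if_pos hp
      rw [h4, if_pos hp, if_pos hp, hat_comp]
      rfl
    · have h4 : (bk i σ).symm p = p := if_neg hp
      rw [h4, if_neg hp, if_neg hp]
  ker f := by
    rw [Subtype.ext_iff, ZM.ext_iff]
    exact LFour.SymF.lab_eq_one_iff M h.hm1 i f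

/-! ### The Sylow subgroup of the symmetric group of the summand -/

section sylow

variable [Finite G]

/-- the permutations of the summand `i` which are induced by `S` -/
noncomputable def RS (h : Sit S P V M) (i : Fin k) : Subgroup (Equiv.Perm (Fin (2 ^ m + 1))) :=
  (SS h).comap (bh h i)

theorem range_bh (h : Sit S P V M) (i : Fin k) : (bh h i).range = BB h i := by
  ext γ
  constructor
  · rintro ⟨τ, rfl⟩
    exact bh_mem h i τ
  · intro hγ
    obtain ⟨τ, h1⟩ := exists_bh h hγ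
    exact ⟨τ, h1⟩

theorem bh_inj (h : Sit S P V M) (i : Fin k) : Function.Injective (bh h i) := by
  intro σ τ hst
  ext1 x
  have h1 := congrArg (fun γ : Gam h => (γ : Equiv.Perm (Pt k m)) (i, x)) hst
  change bk i σ (i, x) = bk i τ (i, x) at h1
  rw [bk_of i σ (p := (i, x)) rfl, bk_of i τ (p := (i, x)) rfl] at h1
  exact congrArg Prod.snd h1

theorem RS_isPGroup (h : Sit S P V M) (i : Fin k) : IsPGroup 2 (RS h i) :=
  (SS_two h).comap_of_injective _ (bh_inj h i)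

theorem not_dvd_RS (h : Sit S P V M) (i : Fin k) : ¬ 2 ∣ (RS h i).index := by
  rw [RS, index_comap, range_bh, ← even_iff_two_dvd, Nat.not_even_iff_odd]
  exact oddB h i

/-- the Sylow 2-subgroup of `Sym` of the summand `i` induced by `S` -/
noncomputable def RSyl (h : Sit S P V M) (i : Fin k) : Sylow 2 (Equiv.Perm (Fin (2 ^ m + 1))) :=
  (RS_isPGroup h i).toSylow (not_dvd_RS h i)

/-- the elements of `S` fixing the summand `i` induce elements of `RSyl h i` on it -/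
theorem exists_RS (h : Sit S P V M) {i : Fin k} {s : Gam h} (hs : s ∈ SS h) (hsi : aa h s i = i) :
    ∃ τ, bh h i τ ∈ SS h ∧ ∀ p : Pt k m, p.1 = i → (s : Equiv.Perm (Pt k m)) p = bk i τ p := by
  classical
  -- the action of the stabiliser of `i` on the summand `i`
  let St : Subgroup (Gam h) :=
    { carrier := {γ | γ ∈ SS h ∧ ∀ p : Pt k m, p.1 = i → ((γ : Equiv.Perm (Pt k m)) p).1 = i}
      mul_mem' := by
        rintro a b ⟨ha, h1⟩ ⟨hb, h2⟩
        exact ⟨mul_mem ha hb, fun p hp => h1 _ (h2 p hp)⟩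
      one_mem' := ⟨one_mem _, fun p hp => hp⟩
      inv_mem' := by
        rintro a ⟨ha, h1⟩
        refine ⟨inv_mem ha, fun p hp => ?_⟩
        change ((a : Equiv.Perm (Pt k m)).symm p).1 = i
        have h2 : aa h a i = i := h1 (i, 0) rfl
        apply (aa h a).injective
        rw [aa_apply, Equiv.apply_symm_apply, hp, h2] }
  have hSt : ∀ γ ∈ St, ∀ p : Pt k m, p.1 = i → ((γ : Equiv.Perm (Pt k m)) p).1 = i := fun γ hγ => hγ.2
  have hSt' : ∀ γ ∈ St, ∀ p : Pt k m, p.1 = i → ((γ : Equiv.Perm (Pt k m)).symm p).1 = i := fun γ hγ =>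
    (St.inv_mem hγ).2
  let ρ : St →* Equiv.Perm (Fin (2 ^ m + 1)) :=
    { toFun := fun γ =>
        { toFun := fun x => ((γ : Gam h) : Equiv.Perm (Pt k m)) (i, x) |>.2
          invFun := fun x => ((γ : Gam h) : Equiv.Perm (Pt k m)).symm (i, x) |>.2
          left_inv := fun x => by
            have h1 : ((i, (((γ : Gam h) : Equiv.Perm (Pt k m)) (i, x)).2) : Pt k m) =
                ((γ : Gam h) : Equiv.Perm (Pt k m)) (i, x) := Prod.ext (hSt γ γ.2 _ rfl).symm rfl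
            simp only [h1, Equiv.symm_apply_apply]
          right_inv := fun x => by
            have h1 : ((i, (((γ : Gam h) : Equiv.Perm (Pt k m)).symm (i, x)).2) : Pt k m) =
                ((γ : Gam h) : Equiv.Perm (Pt k m)).symm (i, x) := Prod.ext (hSt' γ γ.2 _ rfl).symm rfl
            simp only [h1, Equiv.apply_symm_apply] }
      map_one' := rfl
      map_mul' := fun γ δ => by
        ext1 x
        have h1 : ((i, (((δ : Gam h) : Equiv.Perm (Pt k m)) (i, x)).2) : Pt k m) =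
            ((δ : Gam h) : Equiv.Perm (Pt k m)) (i, x) := Prod.ext (hSt δ δ.2 _ rfl).symm rfl
        change (((γ : Gam h) : Equiv.Perm (Pt k m)) (((δ : Gam h) : Equiv.Perm (Pt k m)) (i, x))).2 =
          (((γ : Gam h) : Equiv.Perm (Pt k m)) (i, (((δ : Gam h) : Equiv.Perm (Pt k m)) (i, x)).2)).2
        rw [h1] }
  have hρ : ∀ (γ : St) (p : Pt k m), p.1 = i → ((γ : Gam h) : Equiv.Perm (Pt k m)) p = bk i (ρ γ) p := by
    intro γ p hp
    rw [bk_of i _ hp]
    have h2 : p = (i, p.2) := Prod.ext hp rfl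
    refine Prod.ext ((hSt γ γ.2 p hp).trans hp.symm) ?_
    change _ = (((γ : Gam h) : Equiv.Perm (Pt k m)) (i, p.2)).2
    rw [← h2]
  have hr2 : IsPGroup 2 ρ.range := by
    have h1 : IsPGroup 2 St := (SS_two h).to_le fun γ hγ => hγ.1
    intro y
    obtain ⟨γ, hγ⟩ := y.2
    obtain ⟨n, hn⟩ := h1 γ
    refine ⟨n, Subtype.ext ?_⟩
    change (y : Equiv.Perm (Fin (2 ^ m + 1))) ^ 2 ^ n = 1
    rw [← hγ, ← map_pow, hn, map_one]
  have hle : (RSyl h i : Subgroup (Equiv.Perm (Fin (2 ^ m + 1)))) ≤ ρ.range := by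
    intro τ hτ
    have h1 : bh h i τ ∈ St := ⟨hτ, fun p hp => by rw [bh_coe, bk_fst, hp]⟩
    refine ⟨⟨bh h i τ, h1⟩, ?_⟩
    ext1 x
    change (bk i τ (i, x)).2 = τ x
    rw [bk_of i τ (p := (i, x)) rfl]
  have heq := (RSyl h i).is_maximal' hr2 hle
  have hsSt : s ∈ St := ⟨hs, fun p hp => by rw [← aa_apply, hp, hsi]⟩
  refine ⟨ρ ⟨s, hsSt⟩, ?_, fun p hp => hρ ⟨s, hsSt⟩ p hp⟩
  have h1 : ρ ⟨s, hsSt⟩ ∈ (RSyl h i : Subgroup (Equiv.Perm (Fin (2 ^ m + 1)))) := by
    rw [← heq]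
    exact ⟨_, rfl⟩
  exact h1

/-- a vector of `Yi h i` which is fixed by the Sylow subgroup is fixed by the stabiliser of `i` in `S` -/
theorem fix_stab (h : Sit S P V M) {i : Fin k} {y : ZM P} (hy : y ∈ Yi h i)
    (hR : ∀ τ, bh h i τ ∈ SS h → bh h i τ • y = y) {s : Gam h} (hs : s ∈ SS h) (hsi : aa h s i = i) : s • y = y := by
  obtain ⟨τ, hτ, h1⟩ := exists_RS h hs hsi
  have h2 : (bh h i τ)⁻¹ * s ∈ SS h := mul_mem (inv_mem hτ) hs
  obtain ⟨t, ht, h3⟩ := (mem_SS h).1 h2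
  have h4 : SF S M i t := by
    refine ⟨ht, fun p hp => ?_⟩
    rw [h3]
    change ((bh h i τ : Gam h) : Equiv.Perm (Pt k m)).symm ((s : Equiv.Perm (Pt k m)) p) = p
    rw [h1 p hp, bh_coe, Equiv.symm_apply_apply]
  have h5 : ((bh h i τ)⁻¹ * s) • y = y := (smul_eq_iff h (h.SP ht) h3 y).2 (hy t h4)
  have h6 : s = bh h i τ * ((bh h i τ)⁻¹ * s) := by group
  rw [h6, mul_smul, h5, hR τ hτ]

seal _root_.Cfsg.Agent.Omega.IId.SymWrD.pp in
/-- **(HH)** for every summand. -/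
theorem HH_all {D : Subgroup G} (hD : SitD S P V D M) {μ ν : Equiv.Perm (Pt k m)} (F : Fours M μ ν) (l : Fin k) :
    HH hD.toSit F l := by
  have h : Sit S P V M := hD.toSit
  classical
  intro y hy hA hS
  set y' : ZM P := ⟨y, hy⟩ with hy'
  have hyY : y' ∈ Yi h l := fun s hs => hS s hs.1 hs.2
  -- the matching
  let μl : Equiv.Perm (Fin (2 ^ m + 1)) :=
    { toFun := fun x => (μ (l, x)).2
      invFun := fun x => (μ (l, x)).2
      left_inv := fun x => by
        have h1 : ((l, (μ (l, x)).2) : Pt k m) = μ (l, x) := Prod.ext (F.mfst (l, x)).symm rfl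
        simp only [h1, F.msq]
      right_inv := fun x => by
        have h1 : ((l, (μ (l, x)).2) : Pt k m) = μ (l, x) := Prod.ext (F.mfst (l, x)).symm rfl
        simp only [h1, F.msq] }
  have hμl : ∀ x, ((l, μl x) : Pt k m) = μ (l, x) := fun x => Prod.ext (F.mfst (l, x)).symm rfl
  have hμl0 : μl 0 = 0 := by
    have h1 := F.mzero (l, 0) rfl
    exact congrArg Prod.snd h1
  have hμlne : ∀ x, x ≠ 0 → μl x ≠ x := by
    intro x hx h0
    apply F.mne (l, x) hx
    rw [← hμl, h0]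
  have hμl2 : ∀ x, μl (μl x) = x := by
    intro x
    have h1 := F.msq (l, x)
    rw [← hμl x, ← hμl] at h1
    exact congrArg Prod.snd h1
  -- `sg h l = ι (single 0 1)`
  have hsg : ((io h l (Pi.single 0 1) : Yi h l) : ZM P) = sg h l := by
    have h2 : ((io h l (Pi.single 0 1) : Yi h l) : ZM P).val ∈ V := LFour.SymF.lab_mem M h.hm1 l _
    refine eq_of_E h h2 (sg_mem h l) fun p => ?_
    rw [E_io, E_sg]
    by_cases hp : p.1 = l
    · rw [if_pos hp, if_pos hp]
      change (Pi.single 0 1 : Fin (2 ^ m + 1) → ZMod 2) p.2 + ∑ j, (Pi.single 0 1 : Fin (2 ^ m + 1) → ZMod 2) j = _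
      rw [Finset.sum_pi_single', if_pos (Finset.mem_univ _)]
      by_cases hp2 : p.2 = 0
      · rw [if_pos hp2, hp2, Pi.single_eq_same]; rfl
      · rw [if_neg hp2, Pi.single_eq_of_ne hp2, zero_add]
    · rw [if_neg hp, if_neg hp]
  have hm1 := h.hm1
  obtain ⟨φ, g, hφ, hg0, hgμ, hyφ⟩ := Halve.halve (io_mod h l) hm1 (Fintype.card_fin _) 0 (RSyl h l) (by
      intro τ hτ
      have h1 : bh h l τ ∈ SS h := hτ
      have h2 := (SS_snd h h1 (l, 0)).2 rfl
      rw [bh_coe, bk_of l τ (p := (l, 0)) rfl] at h2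
      exact h2) (by
      intro w hw
      have h1 : ∀ τ, bh h l τ ∈ SS h → bh h l τ • (w : ZM P) = w := fun τ hτ => congrArg Subtype.val (hw τ hτ)
      obtain ⟨φ, h2, h3⟩ := E_main hD l (x := (w : ZM P)) fun s hs hsl => fix_stab h w.2 h1 hs hsl
      have h4 : φ ∈ Yi h l := by
        rcases h3 with h3 | h3
        · rw [← h3]; exact w.2
        · have h5 : φ = w - sg h l := by rw [h3, add_sub_cancel_right]
          rw [h5, ← hsg]
          exact sub_mem w.2 (io h l (Pi.single 0 1)).2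
      refine ⟨⟨φ, h4⟩, fun τ => Subtype.ext (h2 _ (bh_mem h l τ)), ?_⟩
      rcases h3 with h3 | h3
      · left; exact Subtype.ext h3
      · right
        apply Subtype.ext
        rw [h3, ← hsg]
        rfl) μl hμl0 hμlne hμl2 ⟨y', hyY⟩ (by
      intro x
      apply Subtype.ext
      rw [coe_smulY]
      have h1 : bk l (Equiv.swap x (μl x)) ∈ F.FA := by
        intro p
        by_cases hp : p.1 = l
        · rw [bk_of l _ hp]
          have h2 : p = (l, p.2) := Prod.ext hp rfl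
          by_cases h3 : p.2 = x
          · right
            rw [h3, Equiv.swap_apply_left, hp, hμl, h2, h3]
          · by_cases h4 : p.2 = μl x
            · right
              rw [h4, Equiv.swap_apply_right, hp]
              have h5 : p = μ (l, x) := by rw [h2, h4, hμl]
              rw [h5, F.msq]
            · left
              rw [Equiv.swap_apply_of_ne_of_ne h3 h4]
        · left; exact bk_of_ne l _ hp
      obtain ⟨t, ht, h2⟩ := Fours.exists_A h F h1
      exact (smul_eq_iff h (h.SP ht.1) h2 y').2 (hA t ht))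
  have hgsum : ∑ x, g x = 0 := by
    have h1 : ∑ x, g x = ∑ x ∈ (Finset.univ.filter fun x => x ≠ 0), g x := by
      rw [Finset.sum_filter]
      apply Finset.sum_congr rfl
      intro x _
      by_cases hx : x = 0
      · rw [if_neg (not_not.2 hx), hx, hg0]
      · rw [if_pos hx]
    rw [h1]
    refine Finset.sum_involution (fun x _ => μl x) ?_ ?_ ?_ ?_
    · intro x _
      rw [hgμ]
      exact CharTwo.add_self_eq_zero _
    · intro x hx _
      exact hμlne x (Finset.mem_filter.1 hx).2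
    · intro x hx
      refine Finset.mem_filter.2 ⟨Finset.mem_univ _, fun h2 => (Finset.mem_filter.1 hx).2 ?_⟩
      rw [← hμl2 x, h2, hμl0]
    · intro x _
      exact hμl2 x
  have hat_g : hat g = g := LFour.SymF.hat_of_even hgsum
  refine ⟨(io h l g : ZM P).val, LFour.SymF.lab_mem M h.hm1 l g, (φ : ZM P).val, (φ : ZM P).mem, ?_, ?_, ?_, ?_, ?_⟩
  · intro p hp
    rw [E_io, if_neg hp]
  · rw [E_io, if_pos rfl, hat_g, hg0]
  · intro p
    rw [E_io, E_io, F.mfst]
    by_cases hp : p.1 = l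
    · rw [if_pos hp, if_pos hp, hat_g]
      have h2 : p = (l, p.2) := Prod.ext hp rfl
      have h3 : (μ p).2 = μl p.2 := congrArg (fun q => (μ q).2) h2
      rw [h3, hgμ]
    · rw [if_neg hp, if_neg hp]
  · intro b hb hbl
    have h1 : (⟨pp M b, mem_Gam h hb⟩ : Gam h) ∈ BB h l := hbl
    obtain ⟨τ, h2⟩ := exists_bh h h1
    have h3 := congrArg Subtype.val (hφ τ)
    rw [coe_smulY, h2] at h3
    exact (fix_iff' h b hb _).1 h3
  · have h1 := congrArg (fun w : Yi h l => (w : ZM P).val) hyφ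
    have h2 : y = (φ : ZM P).val * (io h l g : ZM P).val := h1
    rw [h2]
    exact Sit.zz_comm (φ : ZM P).mem (io h l g : ZM P).mem

end sylow

end Cfsg.Agent.Omega.IId.SymWrD

end

section


/-!
# II.d, `SwBig`, `SwCv` (copy of `SymWr/LMain.lean` for `D` arbitrary): THEOREM L for all duads, from (T) (bb OMEGA #17498)

* `L_dual` : `O₂(C_G(n)) ≤ P` for every duad `n`, `m ≥ 3`, from `TT h F x` for all `x`;
* the consequences of `O₂(C_G(n)) ≤ P` (`Perp`): `W = O₂(C_G(n))` acts on `V` inside `⟨t_n⟩`, the elements of `V`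
  commuting with `t_n` lie in `Z(W)`, and `V ≤ W`, `[W, V] ≤ ⟨n⟩`.
-/

set_option autoImplicit false

namespace Cfsg.Agent.Omega.IId.SymWrD

open Cfsg.Agent.Omega.IId.SymWr
open Subgroup Pointwise Cfsg Cfsg.Agent.ZN Cfsg.Agent.Omega.MinPar Cfsg.Agent.Omega.FFThm
open Cfsg.Agent.Omega.Half (Amb amb_of_loc)
open Cfsg.Agent.Omega.Half.SymA (Pt E Mv pm)
open Cfsg.Agent.MinSimple.VModule (mem_zc zc_le zc_comm zc_sq zc_le_zl le_normalizer_o2 o2_isPGroup o2_le
  normalizer_le_normalizer_zc le_normalizer_zl)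

universe u

variable {G : Type u} [Group G] [Finite G] {P V : Subgroup G} {k m : ℕ} {S : Sylow 2 G}
  {M : SymK (S : Subgroup G) P V ⊥ k m}

/-- conjugates of `O₂(C_G(r))` -/
theorem conj_o2C (g r : G) {x : G} (hx : x ∈ o2 (centralizer ({r} : Set G))) :
    g * x * g⁻¹ ∈ o2 (centralizer ({g * r * g⁻¹} : Set G)) := by
  have h1 : o2 (centralizer ({g * r * g⁻¹} : Set G)) = (o2 (centralizer ({r} : Set G))).map
      (MulAut.conj g).toMonoidHom := by
    have h2 : centralizer ({g * r * g⁻¹} : Set G) = (centralizer ({r} : Set G)).map (MulAut.conj g).toMonoidHom := by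
      ext y
      rw [mem_centralizer_singleton_iff]
      constructor
      · intro hy
        refine ⟨g⁻¹ * y * g, ?_, by simp [mul_assoc]⟩
        change g⁻¹ * y * g ∈ centralizer ({r} : Set G)
        rw [mem_centralizer_singleton_iff]
        calc g⁻¹ * y * g * r = g⁻¹ * (y * (g * r * g⁻¹)) * g := by group
          _ = g⁻¹ * (g * r * g⁻¹ * y) * g := by rw [hy]
          _ = r * (g⁻¹ * y * g) := by group
      · rintro ⟨a, ha, rfl⟩
        have ha' : a * r = r * a := mem_centralizer_singleton_iff.1 ha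
        change g * a * g⁻¹ * (g * r * g⁻¹) = g * r * g⁻¹ * (g * a * g⁻¹)
        calc g * a * g⁻¹ * (g * r * g⁻¹) = g * (a * r) * g⁻¹ := by group
          _ = g * (r * a) * g⁻¹ := by rw [ha']
          _ = g * r * g⁻¹ * (g * a * g⁻¹) := by group
    rw [h2]
    exact MinSimple.CosetFam.o2_conj g _
  rw [h1]
  exact ⟨x, hx, rfl⟩

seal _root_.Cfsg.Agent.Omega.IId.SymWrD.pp in
/-- the duads are conjugate -/
theorem exists_conj_pr (h : Sit S P V M) {x y p q : Pt k m} (hxy : x.1 = y.1) (hne : x ≠ y) (hpq : p.1 = q.1)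
    (hpq' : p ≠ q) : ∃ g ∈ P, g * pr M x y * g⁻¹ = pr M p q := by
  classical
  obtain ⟨t, ht, π, hπ, h1⟩ := Half.SymA.trans_sum (M := M) x.1 p.1
  have htP := h.SP ht
  have h2 : pp M t = π := pp_eq h.amb h.hm1 htP hπ
  have hx' : (pp M t x).1 = p.1 := by rw [h2]; exact h1 x rfl
  have hy' : (pp M t y).1 = p.1 := by rw [h2]; exact h1 y hxy.symm
  have hne' : pp M t x ≠ pp M t y := fun h0 => hne ((pp M t).injective h0)
  -- swap in the summand
  have key : ∀ a b : Pt k m, a.1 = b.1 → ∀ r, (Equiv.swap a b r).1 = r.1 := by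
    intro a b hab r
    rcases eq_or_ne r a with rfl | hr
    · rw [Equiv.swap_apply_left, hab]
    · rcases eq_or_ne r b with rfl | hr'
      · rw [Equiv.swap_apply_right, hab]
      · rw [Equiv.swap_apply_of_ne_of_ne hr hr']
  set y1 := Equiv.swap (pp M t x) p (pp M t y) with hy1
  have hy11 : y1.1 = p.1 := by rw [hy1, key _ _ hx', hy']
  have hy1p : y1 ≠ p := by
    intro h0
    rw [hy1] at h0
    have h3 := congrArg (Equiv.swap (pp M t x) p) h0
    rw [Equiv.swap_apply_self, Equiv.swap_apply_right] at h3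
    exact hne' h3.symm
  obtain ⟨g, hg, h3⟩ := h.exists_pp (π := Equiv.swap y1 q * Equiv.swap (pp M t x) p) (by
    intro r
    rw [Equiv.Perm.mul_apply, key _ _ (hy11.trans hpq), key _ _ hx'])
  refine ⟨g * t, P.mul_mem hg htP, ?_⟩
  rw [h.conj_pr (P.mul_mem hg htP) hxy, h.mul hg htP, Equiv.Perm.mul_apply, Equiv.Perm.mul_apply, h3,
    Equiv.Perm.mul_apply, Equiv.Perm.mul_apply, Equiv.swap_apply_left, ← hy1, Equiv.swap_apply_left,
    Equiv.swap_apply_of_ne_of_ne hy1p.symm hpq']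

end Cfsg.Agent.Omega.IId.SymWrD

end

private theorem dce_de82b2ac9243 : _root_.True := by
  try have : _root_.True := by simp only [_root_.Cfsg.Agent.Omega.IId.SymWrD.RS.eq_1]
  try have : _root_.True := by simp only [_root_.Cfsg.Agent.Omega.IId.SymWrD.sg.congr_simp]
  exact _root_.True.intro
end

-- part: Mrg/Omega/IId/SymWr/LThm
section
prune_inst 0x101041000400000000000000200000003000000200430000004008000000000000040e000000011200000a0000000020000000000020000000000000000400000002000080080000210000008004000000000000000000000000000000000000000000000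
set_option linter.all false
open scoped Cfsg.Agent.FastGrp

section


/-!
# II.d, `SwBig`: THEOREM L, the last step (bb OMEGA #17498, (1)-(4))

`L_of` : from the conclusions of (T) (`hT1`, `hT2`) and (HH) (`hHH`): `O₂(C_G(n)) ≤ P` for the duad `n = {x, μ x}`,
`m ≥ 3`.
-/

set_option autoImplicit false

namespace Cfsg.Agent.Omega.IId.SymWr

open Subgroup Pointwise Cfsg Cfsg.Agent.ZN Cfsg.Agent.Omega.MinPar Cfsg.Agent.Omega.FFThm
open Cfsg.Agent.Omega.Half (Amb amb_of_loc)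
open Cfsg.Agent.Omega.Half.SymA (Pt E Mv pm)
open Cfsg.Agent.MinSimple.VModule (mem_zc zc_le zc_comm zc_sq zc_le_zl le_normalizer_o2 o2_isPGroup o2_le
  normalizer_le_normalizer_zc le_normalizer_zl)

universe u

variable {G : Type u} [Group G] {P V : Subgroup G} {k m : ℕ}

theorem mem_sup_norm {A B : Subgroup G} (h : A ≤ normalizer (B : Set G)) {x : G} (hx : x ∈ A ⊔ B) :
    ∃ a ∈ A, ∃ b ∈ B, a * b = x := by
  have h1 : x ∈ ((A ⊔ B : Subgroup G) : Set G) := hx
  rw [coe_mul_of_left_le_normalizer_right A B h] at h1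
  exact Set.mem_mul.mp h1

theorem exists_pt (hm : 3 ≤ m) (l : Fin k) (s : Finset (Pt k m)) (hs : s.card ≤ 8) : ∃ p : Pt k m, p.1 = l ∧ p ∉ s := by
  classical
  by_contra h0
  push Not at h0
  have h1 : (Finset.univ.image fun y : Fin (2 ^ m + 1) => ((l, y) : Pt k m)) ⊆ s := by
    intro p hp
    obtain ⟨y, -, rfl⟩ := Finset.mem_image.1 hp
    exact h0 _ rfl
  have h2 := Finset.card_le_card h1
  rw [Finset.card_image_of_injective _ (fun a b hab => (Prod.ext_iff.1 hab).2), Finset.card_univ,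
    Fintype.card_fin] at h2
  have h3 : 2 ^ 3 ≤ 2 ^ m := Nat.pow_le_pow_right (by norm_num) hm
  omega

section main

variable [Finite G] {S : Sylow 2 G} {M : SymK (S : Subgroup G) P V ⊥ k m} {μ ν : Equiv.Perm (Pt k m)}

/-- the conclusion of (T) for the duad `{x, μ x}` -/
def TT (h : Sit S P V M) (F : Fours M μ ν) (x : Pt k m) : Prop :=
  (∀ g ∈ o2 (centralizer ({pr M x (μ x)} : Set G)), ∀ a b : Pt k m, a.1 = x.1 → b.1 = x.1 → a ≠ b → a ≠ x →
    a ≠ μ x → b ≠ x → b ≠ μ x → g * pr M a b = pr M a b * g → g ∈ Fours.A h F) ∧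
  ∀ g ∈ o2 (centralizer ({pr M x (μ x)} : Set G)), g ∈ P → pp M g = 1 ∨ pp M g = Equiv.swap x (μ x)

end main

end Cfsg.Agent.Omega.IId.SymWr

end

section


/-!
# II.d, `SwBig`: `Ω₁(Z(O₂(P)))` as a module; (E) and (HH) of THEOREM L (bb OMEGA #17498)

* `ZM P` : `Ω₁(Z(O₂(P)))`, additive; `Gam h` : the image of `P` in the permutations of the points, acting on `ZM P`;
* `edat` : the hypotheses of (E);
* `HH_all` : the conclusion `HH h F l` of (HH), for every summand.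
-/

set_option autoImplicit false

namespace Cfsg.Agent.Omega.IId.SymWr

open Subgroup Pointwise Cfsg Cfsg.Agent.ZN Cfsg.Agent.Omega.MinPar Cfsg.Agent.Omega.FFThm
open Cfsg.Agent.Omega.Half (Amb amb_of_loc)
open Cfsg.Agent.Omega.Half.SymA (Pt E Mv pm)
open Cfsg.Agent.MinSimple.VModule (mem_zc zc_le zc_comm zc_sq zc_le_zl le_normalizer_o2 o2_isPGroup o2_le
  normalizer_le_normalizer_zc le_normalizer_zl)
open Cfsg.Agent.Omega.IId.LFour (SymF.lab SymF.lab_mem SymF.e_lab SymF.lab_add SymF.lab_eq_one_iff)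

universe u

variable {G : Type u} [Group G] {P V : Subgroup G} {k m : ℕ}

/-! ### The module -/

/-- `Ω₁(Z(O₂(P)))` -/
@[ext] structure ZM (P : Subgroup G) where
  /-- the element of `G` -/
  val : G
  mem : val ∈ zc (o2 P)

namespace ZM

instance : Add (ZM P) := ⟨fun x y => ⟨x.val * y.val, mul_mem x.mem y.mem⟩⟩
instance : Zero (ZM P) := ⟨⟨1, one_mem _⟩⟩
instance : Neg (ZM P) := ⟨fun x => ⟨x.val⁻¹, inv_mem x.mem⟩⟩

theorem val_add (x y : ZM P) : (x + y).val = x.val * y.val := rfl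
theorem val_zero : (0 : ZM P).val = 1 := rfl
theorem val_neg (x : ZM P) : (-x).val = x.val⁻¹ := rfl

instance : AddCommGroup (ZM P) where
  add_assoc x y z := ZM.ext (mul_assoc _ _ _)
  zero_add x := ZM.ext (one_mul _)
  add_zero x := ZM.ext (mul_one _)
  neg_add_cancel x := ZM.ext (inv_mul_cancel _)
  add_comm x y := ZM.ext (Sit.zz_comm x.mem y.mem)
  nsmul := nsmulRec
  zsmul := zsmulRec

theorem add_self (y : ZM P) : y + y = 0 := ZM.ext (Sit.zz_sq y.mem)

end ZM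

variable {S : Sylow 2 G} {M : SymK (S : Subgroup G) P V ⊥ k m}

/-- the image of `P` in the permutations of the points -/
noncomputable abbrev Gam (h : Sit S P V M) : Subgroup (Equiv.Perm (Pt k m)) := (hom h.amb h.hm1 M).range

seal _root_.Cfsg.Agent.Omega.IId.SymWr.pp in
theorem Gam_ex (h : Sit S P V M) (γ : Gam h) : ∃ g ∈ P, pp M g = γ := by
  obtain ⟨g, hg⟩ := γ.2
  exact ⟨g, g.2, hg⟩

seal _root_.Cfsg.Agent.Omega.IId.SymWr.pp in
theorem mem_Gam (h : Sit S P V M) {g : G} (hg : g ∈ P) : pp M g ∈ Gam h := ⟨⟨g, hg⟩, rfl⟩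

/-- a preimage in `P` -/
noncomputable def lft (h : Sit S P V M) (γ : Gam h) : G := (Gam_ex h γ).choose

theorem lft_mem (h : Sit S P V M) (γ : Gam h) : lft h γ ∈ P := (Gam_ex h γ).choose_spec.1

seal _root_.Cfsg.Agent.Omega.IId.SymWr.pp in
theorem pp_lft (h : Sit S P V M) (γ : Gam h) : pp M (lft h γ) = γ := (Gam_ex h γ).choose_spec.2

noncomputable instance actG (h : Sit S P V M) : DistribMulAction (Gam h) (ZM P) where
  smul γ y := ⟨lft h γ * y.val * (lft h γ)⁻¹, Sit.zz_conj (lft_mem h γ) y.mem⟩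
  one_smul y := by
    apply ZM.ext
    change lft h 1 * y.val * (lft h 1)⁻¹ = y.val
    rw [h.zz_eq (lft_mem h 1) (one_mem P) (by rw [pp_lft, h.one]; rfl) y.mem, one_mul, inv_one, mul_one]
  mul_smul γ δ y := by
    apply ZM.ext
    change lft h (γ * δ) * y.val * (lft h (γ * δ))⁻¹ =
      lft h γ * (lft h δ * y.val * (lft h δ)⁻¹) * (lft h γ)⁻¹
    rw [h.zz_eq (lft_mem h (γ * δ)) (mul_mem (lft_mem h γ) (lft_mem h δ))
      (by rw [h.mul (lft_mem h γ) (lft_mem h δ), pp_lft, pp_lft, pp_lft]; rfl) y.mem]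
    group
  smul_zero γ := by
    apply ZM.ext
    change lft h γ * 1 * (lft h γ)⁻¹ = 1
    group
  smul_add γ x y := by
    apply ZM.ext
    change lft h γ * (x.val * y.val) * (lft h γ)⁻¹ =
      lft h γ * x.val * (lft h γ)⁻¹ * (lft h γ * y.val * (lft h γ)⁻¹)
    group

seal _root_.Cfsg.Agent.Omega.IId.SymWr.pp in
theorem smul_val (h : Sit S P V M) {γ : Gam h} {g : G} (hg : g ∈ P) (hgγ : pp M g = γ) (y : ZM P) :
    (γ • y).val = g * y.val * g⁻¹ :=
  h.zz_eq (lft_mem h γ) hg (by rw [pp_lft, hgγ]) y.mem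

seal _root_.Cfsg.Agent.Omega.IId.SymWr.pp in
theorem smul_eq_iff (h : Sit S P V M) {γ : Gam h} {g : G} (hg : g ∈ P) (hgγ : pp M g = γ) (y : ZM P) :
    γ • y = y ↔ g * y.val = y.val * g := by
  rw [ZM.ext_iff, smul_val h hg hgγ, mul_inv_eq_iff_eq_mul]

/-- the action on the summands -/
def bl (γ : Equiv.Perm (Pt k m)) (hγ : ∀ p q : Pt k m, p.1 = q.1 → (γ p).1 = (γ q).1)
    (hγ' : ∀ p q : Pt k m, p.1 = q.1 → (γ.symm p).1 = (γ.symm q).1) : Equiv.Perm (Fin k) where
  toFun i := (γ (i, 0)).1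
  invFun i := (γ.symm (i, 0)).1
  left_inv i := by
    have h1 := hγ' ((γ (i, 0)).1, 0) (γ (i, 0)) rfl
    rw [γ.symm_apply_apply] at h1
    exact h1
  right_inv i := by
    have h1 := hγ ((γ.symm (i, 0)).1, 0) (γ.symm (i, 0)) rfl
    rw [γ.apply_symm_apply] at h1
    exact h1

theorem Gam_fst (h : Sit S P V M) (γ : Gam h) {p q : Pt k m} (hpq : p.1 = q.1) :
    ((γ : Equiv.Perm (Pt k m)) p).1 = ((γ : Equiv.Perm (Pt k m)) q).1 := by
  rw [← pp_lft h γ]
  exact h.fst (lft_mem h γ) hpq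

theorem Gam_fst' (h : Sit S P V M) (γ : Gam h) {p q : Pt k m} (hpq : p.1 = q.1) :
    ((γ : Equiv.Perm (Pt k m)).symm p).1 = ((γ : Equiv.Perm (Pt k m)).symm q).1 :=
  Gam_fst h γ⁻¹ hpq

/-- the action of `Gam h` on the summands -/
def aa (h : Sit S P V M) (γ : Gam h) : Equiv.Perm (Fin k) :=
  bl γ (fun _ _ hpq => Gam_fst h γ hpq) (fun _ _ hpq => Gam_fst' h γ hpq)

/-- the image of `S` -/
noncomputable def SS (h : Sit S P V M) : Subgroup (Gam h) := ((S : Subgroup G).subgroupOf P).map (hom h.amb h.hm1 M).rangeRestrict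

seal _root_.Cfsg.Agent.Omega.IId.SymWr.pp in
seal _root_.Finset.card in
theorem mem_SS (h : Sit S P V M) {γ : Gam h} : γ ∈ SS h ↔ ∃ s ∈ (S : Subgroup G), pp M s = γ := by
  constructor
  · rintro ⟨s, hs, rfl⟩
    exact ⟨s, mem_subgroupOf.1 hs, rfl⟩
  · rintro ⟨s, hs, h1⟩
    exact ⟨⟨s, h.SP hs⟩, mem_subgroupOf.2 hs, Subtype.ext h1⟩

/-- the permutations which fix the points outside the summand `i` -/
noncomputable def BB (h : Sit S P V M) (i : Fin k) : Subgroup (Gam h) where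
  carrier := {γ | ∀ p : Pt k m, p.1 ≠ i → (γ : Equiv.Perm (Pt k m)) p = p}
  mul_mem' := by
    intro a b ha hb p hp
    change (a : Equiv.Perm (Pt k m)) ((b : Equiv.Perm (Pt k m)) p) = p
    rw [hb p hp, ha p hp]
  one_mem' := fun p _ => rfl
  inv_mem' := by
    intro a ha p hp
    change (a : Equiv.Perm (Pt k m)).symm p = p
    rw [Equiv.symm_apply_eq, ha p hp]

theorem BB_fst (h : Sit S P V M) {i : Fin k} {γ : Gam h} (hγ : γ ∈ BB h i) (p : Pt k m) :
    ((γ : Equiv.Perm (Pt k m)) p).1 = p.1 := by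
  by_cases hp : p.1 = i
  · by_contra h1
    have h2 : ((γ : Equiv.Perm (Pt k m)) p).1 ≠ i := by rw [← hp]; exact h1
    have h3 := hγ _ h2
    exact h1 (congrArg Prod.fst ((γ : Equiv.Perm (Pt k m)).injective h3))
  · rw [hγ p hp]

/-! ### Elements of `V` -/

/-- an element of `V` with a given support function -/
theorem exists_ZM (h : Sit S P V M) (f : Pt k m → ZMod 2) (hf : ∀ i, ∑ x, f (i, x) = 0) :
    ∃ v : ZM P, v.val ∈ V ∧ ∀ p, E M v.val p = f p := by
  obtain ⟨v, hv, h1⟩ := Half.SymA.exists_E M f hf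
  exact ⟨⟨v, h.VZ hv⟩, hv, h1⟩

theorem eq_of_E (h : Sit S P V M) {v w : ZM P} (hv : v.val ∈ V) (hw : w.val ∈ V) (hE : ∀ p, E M v.val p = E M w.val p) :
    v = w := ZM.ext (Half.SymA.inj M hv hw hE)

theorem sum_ne_zero (hm : 1 ≤ m) : ∑ x : Fin (2 ^ m + 1), (if x = 0 then (0 : ZMod 2) else 1) = 0 := by
  have h1 : ∀ x : Fin (2 ^ m + 1), (if x = 0 then (0 : ZMod 2) else 1) = 1 + if x = 0 then 1 else 0 := by
    intro x
    split_ifs
    · rfl
    · rfl
  rw [Finset.sum_congr rfl fun x _ => h1 x, Finset.sum_add_distrib, Finset.sum_const, Finset.card_univ,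
    Fintype.card_fin, Finset.sum_ite_eq' Finset.univ (0 : Fin (2 ^ m + 1)), if_pos (Finset.mem_univ _),
    nsmul_eq_mul, mul_one, Nat.cast_add, Nat.cast_one]
  have h6 : ((2 ^ m : ℕ) : ZMod 2) = 0 := by
    rw [ZMod.natCast_eq_zero_iff]
    exact dvd_pow_self 2 (by omega)
  rw [h6]
  rfl

/-- the vector `σ_i`: the nonzero points of the summand `i` -/
theorem exists_sg (h : Sit S P V M) (i : Fin k) :
    ∃ v : ZM P, v.val ∈ V ∧ ∀ p : Pt k m, E M v.val p = if p.1 = i then (if p.2 = 0 then 0 else 1) else 0 := by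
  apply exists_ZM h
  intro j
  by_cases hj : j = i
  · simp only [hj, if_true]
    exact sum_ne_zero h.hm1
  · simp only [if_neg hj, Finset.sum_const_zero]

/-- the vector `σ_i` -/
noncomputable def sg (h : Sit S P V M) (i : Fin k) : ZM P := (exists_sg h i).choose

theorem sg_mem (h : Sit S P V M) (i : Fin k) : (sg h i).val ∈ V := (exists_sg h i).choose_spec.1

theorem E_sg (h : Sit S P V M) (i : Fin k) (p : Pt k m) :
    E M (sg h i).val p = if p.1 = i then (if p.2 = 0 then 0 else 1) else 0 := (exists_sg h i).choose_spec.2 p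

/-- the vector `z` -/
theorem exists_zv (h : Sit S P V M) :
    ∃ v : ZM P, v.val ∈ V ∧ ∀ p : Pt k m, E M v.val p = if p.2 = 0 then 0 else 1 := by
  apply exists_ZM h
  intro j
  exact sum_ne_zero h.hm1

/-- the vector `z` -/
noncomputable def zv (h : Sit S P V M) : ZM P := (exists_zv h).choose

theorem zv_mem (h : Sit S P V M) : (zv h).val ∈ V := (exists_zv h).choose_spec.1

theorem E_zv (h : Sit S P V M) (p : Pt k m) : E M (zv h).val p = if p.2 = 0 then 0 else 1 :=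
  (exists_zv h).choose_spec.2 p

/-! ### (E) -/

section edat

variable [Finite G]

instance : Finite (ZM P) := Finite.of_injective (fun y : ZM P => y.val) fun _ _ h => ZM.ext h

theorem not_dvd_SS (h : Sit S P V M) : ¬ 2 ∣ (SS h).index := by
  have : Fact (Nat.Prime 2) := ⟨Nat.prime_two⟩
  have hsurj : Function.Surjective (hom h.amb h.hm1 M).rangeRestrict := MonoidHom.rangeRestrict_surjective _
  set! S1 : Sylow 2 P := S.subtype h.SP with hS1
  have h1 := (S1.mapSurjective hsurj).not_dvd_index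
  exact h1

/-- the permutations which fix all summands -/
noncomputable def G0 (h : Sit S P V M) : Subgroup (Gam h) where
  carrier := {γ | ∀ p : Pt k m, ((γ : Equiv.Perm (Pt k m)) p).1 = p.1}
  mul_mem' := by
    intro a b ha hb p
    change ((a : Equiv.Perm (Pt k m)) ((b : Equiv.Perm (Pt k m)) p)).1 = p.1
    rw [ha, hb]
  one_mem' := fun p => rfl
  inv_mem' := by
    intro a ha p
    change ((a : Equiv.Perm (Pt k m)).symm p).1 = p.1
    rw [← ha ((a : Equiv.Perm (Pt k m)).symm p), Equiv.apply_symm_apply]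

theorem BB_le (h : Sit S P V M) (i : Fin k) : BB h i ≤ G0 h := fun _ hγ p => BB_fst h hγ p

theorem oddB (h : Sit S P V M) (i : Fin k) : Odd ((SS h).relIndex (BB h i)) := by
  have h1 : ¬ 2 ∣ (SS h).relIndex ⊤ := by rw [relIndex_top_right]; exact not_dvd_SS h
  have h2 : (⊤ : Subgroup (Gam h)) ≤ normalizer (G0 h : Set (Gam h)) := by
    intro γ _
    refine MinSimple.VModule.mem_normalizer_of_map_le ?_
    rintro _ ⟨b, hb, rfl⟩
    intro p
    change ((γ : Equiv.Perm (Pt k m)) ((b : Equiv.Perm (Pt k m)) ((γ : Equiv.Perm (Pt k m)).symm p))).1 = p.1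
    rw [Gam_fst h γ (hb _), Equiv.apply_symm_apply]
  have h3 := NO3b.UMethod.not_dvd_inf le_top h1 le_top h2
  have h4 : G0 h ≤ normalizer (BB h i : Set (Gam h)) := by
    intro γ hγ
    refine MinSimple.VModule.mem_normalizer_of_map_le ?_
    rintro _ ⟨b, hb, rfl⟩
    intro p hp
    change (γ : Equiv.Perm (Pt k m)) ((b : Equiv.Perm (Pt k m)) ((γ : Equiv.Perm (Pt k m)).symm p)) = p
    have h5 : ((γ : Equiv.Perm (Pt k m)).symm p).1 = p.1 := (G0 h).inv_mem hγ p
    rw [hb _ (by rw [h5]; exact hp), Equiv.apply_symm_apply]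
  have h5 := NO3b.UMethod.not_dvd_inf inf_le_left h3 (BB_le h i) h4
  have h6 : BB h i ⊓ (G0 h ⊓ SS h) = BB h i ⊓ SS h := by
    rw [← inf_assoc, inf_eq_left.2 (BB_le h i)]
  rw [h6, inf_comm, inf_relIndex_right] at h5
  rw [← Nat.not_even_iff_odd, even_iff_two_dvd]
  exact h5

seal _root_.Cfsg.Agent.Omega.IId.SymWr.pp in
theorem fix_iff (h : Sit S P V M) (s : G) (hs : s ∈ P) (y : ZM P) :
    (⟨pp M s, mem_Gam h hs⟩ : Gam h) • y = y ↔ s * y.val = y.val * s := smul_eq_iff h hs rfl y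

/-- the fixed points of `S` on `Ω₁(Z(O₂(P)))` -/
theorem fixS (h : Sit S P V M) {y : ZM P} (hy : ∀ s ∈ SS h, s • y = y) : y = 0 ∨ y = zv h := by
  have h1 : ∀ s ∈ (S : Subgroup G), s * y.val = y.val * s := fun s hs =>
    (fix_iff h s (h.SP hs) y).1 (hy _ ((mem_SS h).2 ⟨s, hs, rfl⟩))
  have h2 : y.val ∈ V := h.amb.zc (mem_zc.2 ⟨h.QS (zc_le _ y.mem), h1, by
    rw [pow_two]; exact Sit.zz_sq y.mem⟩)
  have h3 : ∀ p q : Pt k m, p.2 ≠ 0 → q.2 ≠ 0 → E M y.val p = E M y.val q := by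
    intro p q hp hq
    obtain ⟨s, hs, h4⟩ := h.trans hp hq
    rw [← h4, (h.comm_iff (h.SP hs) h2).1 (h1 s hs)]
  have hne : ∃ x : Fin (2 ^ m + 1), x ≠ 0 := by
    obtain ⟨c, -, hc⟩ := Half.SymA.exists_third h.hm1 0 0
    exact ⟨c, hc⟩
  obtain ⟨x0, hx0⟩ := hne
  set! c := E M y.val (⟨0, h.hk⟩, x0) with hc
  have h4 : ∀ p : Pt k m, p.2 ≠ 0 → E M y.val p = c := fun p hp => h3 _ _ hp hx0
  have h5 : ∀ p : Pt k m, p.2 = 0 → E M y.val p = 0 := by
    intro p hp
    have h6 := Half.SymA.even0 M h.hm1 h2 (i := p.1) (c := c) fun x hx => h4 _ hx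
    have h7 : p = (p.1, 0) := Prod.ext rfl hp
    rw [h7]
    exact h6
  rcases Half.SymA.zmod2 c with h6 | h6
  · left
    refine eq_of_E h h2 (one_mem V) fun p => ?_
    rw [ZM.val_zero, Half.SymA.E_one]
    by_cases hp : p.2 = 0
    · exact h5 p hp
    · rw [h4 p hp, h6]
  · right
    refine eq_of_E h h2 (zv_mem h) fun p => ?_
    rw [E_zv]
    by_cases hp : p.2 = 0
    · rw [if_pos hp]; exact h5 p hp
    · rw [if_neg hp, h4 p hp, h6]

end edat

end Cfsg.Agent.Omega.IId.SymWr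

end

section


/-!
# II.d, `SwBig`: (HH) of THEOREM L (bb OMEGA #17498) from (E) and the halving lemma

* `Yi h i` : the vectors of `Ω₁(Z(O₂(P)))` fixed by `C_S(V_i)`, a module for the symmetric group of the summand `i`;
* `HH_all` : `HH h F l` for every summand `l`.
-/

set_option autoImplicit false

namespace Cfsg.Agent.Omega.IId.SymWr

open Subgroup Pointwise Cfsg Cfsg.Agent.ZN Cfsg.Agent.Omega.MinPar Cfsg.Agent.Omega.FFThm
open Cfsg.Agent.Omega.Half (Amb amb_of_loc)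
open Cfsg.Agent.Omega.Half.SymA (Pt E Mv pm)
open Cfsg.Agent.MinSimple.VModule (mem_zc zc_le zc_comm zc_sq zc_le_zl le_normalizer_o2 o2_isPGroup o2_le
  normalizer_le_normalizer_zc le_normalizer_zl)
open Cfsg.Agent.Omega.S5.Of (hat hat_add hat_comp sum_hat hat_eq_zero_iff)
open Cfsg.Agent.Omega.NSix.Match (Mod)

universe u

variable {G : Type u} [Group G] {P V : Subgroup G} {k m : ℕ} {S : Sylow 2 G} {M : SymK (S : Subgroup G) P V ⊥ k m}

seal _root_.Cfsg.Agent.Omega.IId.SymWr.pp in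
theorem fix_iff' (h : Sit S P V M) (s : G) (hs : s ∈ P) (y : ZM P) :
    (⟨pp M s, mem_Gam h hs⟩ : Gam h) • y = y ↔ s * y.val = y.val * s := smul_eq_iff h hs rfl y

/-- the permutation `τ` of the summand `i` -/
def bk (i : Fin k) (τ : Equiv.Perm (Fin (2 ^ m + 1))) : Equiv.Perm (Pt k m) where
  toFun p := if p.1 = i then (p.1, τ p.2) else p
  invFun p := if p.1 = i then (p.1, τ.symm p.2) else p
  left_inv p := by
    by_cases hp : p.1 = i
    · have h1 : (if p.1 = i then ((p.1, τ p.2) : Pt k m) else p) = (p.1, τ p.2) := if_pos hp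
      simp only [h1]
      rw [if_pos hp, τ.symm_apply_apply]
    · have h1 : (if p.1 = i then ((p.1, τ p.2) : Pt k m) else p) = p := if_neg hp
      simp only [h1]
      rw [if_neg hp]
  right_inv p := by
    by_cases hp : p.1 = i
    · have h1 : (if p.1 = i then ((p.1, τ.symm p.2) : Pt k m) else p) = (p.1, τ.symm p.2) := if_pos hp
      simp only [h1]
      rw [if_pos hp, τ.apply_symm_apply]
    · have h1 : (if p.1 = i then ((p.1, τ.symm p.2) : Pt k m) else p) = p := if_neg hp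
      simp only [h1]
      rw [if_neg hp]

theorem bk_of (i : Fin k) (τ : Equiv.Perm (Fin (2 ^ m + 1))) {p : Pt k m} (hp : p.1 = i) :
    bk i τ p = (p.1, τ p.2) := if_pos hp

theorem bk_of_ne (i : Fin k) (τ : Equiv.Perm (Fin (2 ^ m + 1))) {p : Pt k m} (hp : p.1 ≠ i) :
    bk i τ p = p := if_neg hp

theorem bk_fst (i : Fin k) (τ : Equiv.Perm (Fin (2 ^ m + 1))) (p : Pt k m) : (bk i τ p).1 = p.1 := by
  by_cases hp : p.1 = i
  · rw [bk_of i τ hp]
  · rw [bk_of_ne i τ hp]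

theorem bk_mul (i : Fin k) (σ τ : Equiv.Perm (Fin (2 ^ m + 1))) : bk i (σ * τ) = bk i σ * bk i τ := by
  ext1 p
  rw [Equiv.Perm.mul_apply]
  by_cases hp : p.1 = i
  · rw [bk_of i _ hp, bk_of i τ hp, bk_of i σ (p := (p.1, τ p.2)) hp]
    rfl
  · rw [bk_of_ne i _ hp, bk_of_ne i τ hp, bk_of_ne i σ hp]

theorem bk_one (i : Fin k) : bk i (1 : Equiv.Perm (Fin (2 ^ m + 1))) = 1 := by
  ext1 p
  by_cases hp : p.1 = i
  · rw [bk_of i _ hp]; rfl
  · rw [bk_of_ne i _ hp]; rfl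

theorem bk_mem (h : Sit S P V M) (i : Fin k) (τ : Equiv.Perm (Fin (2 ^ m + 1))) : bk i τ ∈ Gam h := by
  obtain ⟨g, hg, h1⟩ := h.exists_pp (fun p => bk_fst i τ p)
  rw [← h1]
  exact mem_Gam h hg

/-- the permutation `τ` of the summand `i`, as a homomorphism -/
noncomputable def bh (h : Sit S P V M) (i : Fin k) : Equiv.Perm (Fin (2 ^ m + 1)) →* Gam h where
  toFun τ := ⟨bk i τ, bk_mem h i τ⟩
  map_one' := Subtype.ext (bk_one i)
  map_mul' σ τ := Subtype.ext (bk_mul i σ τ)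

theorem bh_mem (h : Sit S P V M) (i : Fin k) (τ : Equiv.Perm (Fin (2 ^ m + 1))) : bh h i τ ∈ BB h i :=
  fun _ hp => bk_of_ne i τ hp

/-- the elements of `S` fixing the points of the summand `i` -/
def SF (S : Sylow 2 G) (M : SymK (S : Subgroup G) P V ⊥ k m) (i : Fin k) (s : G) : Prop :=
  s ∈ (S : Subgroup G) ∧ ∀ p : Pt k m, p.1 = i → pp M s p = p

/-- the vectors fixed by `C_S(V_i)` -/
def Yi (h : Sit S P V M) (i : Fin k) : AddSubgroup (ZM P) where
  carrier := {y | ∀ s, SF S M i s → s * y.val = y.val * s}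
  add_mem' := by
    intro a b ha hb s hs
    rw [ZM.val_add, ← mul_assoc, ha s hs, mul_assoc, hb s hs, mul_assoc]
  zero_mem' := by
    intro s _
    rw [ZM.val_zero, mul_one, one_mul]
  neg_mem' := by
    intro a ha s hs
    have h1 : (-a).val = a.val := by
      rw [ZM.val_neg, inv_eq_of_mul_eq_one_left]
      exact Sit.zz_sq a.mem
    rw [h1]
    exact ha s hs

seal _root_.Cfsg.Agent.Omega.IId.SymWr.pp in
/-- `BB h i` acts on `Yi h i` -/
theorem smul_mem_Yi (h : Sit S P V M) {i : Fin k} {γ : Gam h} (hγ : γ ∈ BB h i) {y : ZM P} (hy : y ∈ Yi h i) :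
    γ • y ∈ Yi h i := by
  intro s hs
  have hsP := h.SP hs.1
  rw [← fix_iff' h s hsP]
  have h1 : (⟨pp M s, mem_Gam h hsP⟩ : Gam h) * γ = γ * ⟨pp M s, mem_Gam h hsP⟩ := by
    apply Subtype.ext
    ext1 p
    change pp M s ((γ : Equiv.Perm (Pt k m)) p) = (γ : Equiv.Perm (Pt k m)) (pp M s p)
    by_cases hp : p.1 = i
    · rw [hs.2 p hp, hs.2 _ ((BB_fst h hγ p).trans hp)]
    · rw [hγ p hp, hγ]
      intro h2
      apply hp
      have h3 := hs.2 _ h2
      have h4 := (pp M s).injective h3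
      rw [← h4]
      exact h2
  rw [← mul_smul, h1, mul_smul, (fix_iff' h s hsP y).2 (hy s hs)]

noncomputable instance actY (h : Sit S P V M) (i : Fin k) :
    DistribMulAction (Equiv.Perm (Fin (2 ^ m + 1))) (Yi h i) where
  smul τ y := ⟨bh h i τ • y.1, smul_mem_Yi h (bh_mem h i τ) y.2⟩
  one_smul y := by
    apply Subtype.ext
    change bh h i 1 • y.1 = y.1
    rw [map_one, one_smul]
  mul_smul σ τ y := by
    apply Subtype.ext
    change bh h i (σ * τ) • y.1 = bh h i σ • bh h i τ • y.1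
    rw [map_mul, mul_smul]
  smul_zero τ := Subtype.ext (smul_zero (bh h i τ))
  smul_add τ x y := Subtype.ext (smul_add (bh h i τ) x.1 y.1)

/-! ### The copy of the even-subset module -/

/-! ### The Sylow subgroup of the symmetric group of the summand -/

section sylow

variable [Finite G]

/-- the permutations of the summand `i` which are induced by `S` -/
noncomputable def RS (h : Sit S P V M) (i : Fin k) : Subgroup (Equiv.Perm (Fin (2 ^ m + 1))) :=
  (SS h).comap (bh h i)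

end sylow

end Cfsg.Agent.Omega.IId.SymWr

end

section


/-!
# II.d, `SwBig`: THEOREM L for all duads, from (T) (bb OMEGA #17498)

* `L_dual` : `O₂(C_G(n)) ≤ P` for every duad `n`, `m ≥ 3`, from `TT h F x` for all `x`;
* the consequences of `O₂(C_G(n)) ≤ P` (`Perp`): `W = O₂(C_G(n))` acts on `V` inside `⟨t_n⟩`, the elements of `V`
  commuting with `t_n` lie in `Z(W)`, and `V ≤ W`, `[W, V] ≤ ⟨n⟩`.
-/

set_option autoImplicit false

namespace Cfsg.Agent.Omega.IId.SymWr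

open Subgroup Pointwise Cfsg Cfsg.Agent.ZN Cfsg.Agent.Omega.MinPar Cfsg.Agent.Omega.FFThm
open Cfsg.Agent.Omega.Half (Amb amb_of_loc)
open Cfsg.Agent.Omega.Half.SymA (Pt E Mv pm)
open Cfsg.Agent.MinSimple.VModule (mem_zc zc_le zc_comm zc_sq zc_le_zl le_normalizer_o2 o2_isPGroup o2_le
  normalizer_le_normalizer_zc le_normalizer_zl)

universe u

variable {G : Type u} [Group G] [Finite G] {P V : Subgroup G} {k m : ℕ} {S : Sylow 2 G}
  {M : SymK (S : Subgroup G) P V ⊥ k m}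

seal _root_.Cfsg.Agent.Omega.IId.SymWr.pp in
/-- the duads are conjugate -/
theorem exists_conj_pr (h : Sit S P V M) {x y p q : Pt k m} (hxy : x.1 = y.1) (hne : x ≠ y) (hpq : p.1 = q.1)
    (hpq' : p ≠ q) : ∃ g ∈ P, g * pr M x y * g⁻¹ = pr M p q := by
  classical
  obtain ⟨t, ht, π, hπ, h1⟩ := Half.SymA.trans_sum (M := M) x.1 p.1
  have htP := h.SP ht
  have h2 : pp M t = π := pp_eq h.amb h.hm1 htP hπ
  have hx' : (pp M t x).1 = p.1 := by rw [h2]; exact h1 x rfl
  have hy' : (pp M t y).1 = p.1 := by rw [h2]; exact h1 y hxy.symm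
  have hne' : pp M t x ≠ pp M t y := fun h0 => hne ((pp M t).injective h0)
  -- swap in the summand
  have key : ∀ a b : Pt k m, a.1 = b.1 → ∀ r, (Equiv.swap a b r).1 = r.1 := by
    intro a b hab r
    rcases eq_or_ne r a with rfl | hr
    · rw [Equiv.swap_apply_left, hab]
    · rcases eq_or_ne r b with rfl | hr'
      · rw [Equiv.swap_apply_right, hab]
      · rw [Equiv.swap_apply_of_ne_of_ne hr hr']
  set! y1 := Equiv.swap (pp M t x) p (pp M t y) with hy1
  have hy11 : y1.1 = p.1 := by rw [hy1, key _ _ hx', hy']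
  have hy1p : y1 ≠ p := by
    intro h0
    rw [hy1] at h0
    have h3 := congrArg (Equiv.swap (pp M t x) p) h0
    rw [Equiv.swap_apply_self, Equiv.swap_apply_right] at h3
    exact hne' h3.symm
  obtain ⟨g, hg, h3⟩ := h.exists_pp (π := Equiv.swap y1 q * Equiv.swap (pp M t x) p) (by
    intro r
    rw [Equiv.Perm.mul_apply, key _ _ (hy11.trans hpq), key _ _ hx'])
  refine ⟨g * t, P.mul_mem hg htP, ?_⟩
  rw [h.conj_pr (P.mul_mem hg htP) hxy, h.mul hg htP, Equiv.Perm.mul_apply, Equiv.Perm.mul_apply, h3,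
    Equiv.Perm.mul_apply, Equiv.Perm.mul_apply, Equiv.swap_apply_left, ← hy1, Equiv.swap_apply_left,
    Equiv.swap_apply_of_ne_of_ne hy1p.symm hpq']

end Cfsg.Agent.Omega.IId.SymWr

end

private theorem dce_fe29fa56e476 : _root_.True := by
  try have : _root_.True := by simp only [_root_.Cfsg.Agent.Omega.IId.SymWr.RS.eq_1]
  exact _root_.True.intro
end

-- part: Mrg/Omega/IId/SymWrD/Zero
section
prune_inst 0x100001001422000000000000200020001000000200630001214000000000810180400f01000013120100aa2000000000000000490000000000000800000000000002020280480000200000002804000000000000000000000000000000000000000000000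
set_option linter.all false
open scoped Cfsg.Agent.FastGrp


/-!
# II.d, `SwBig` and `SwCv`: the complement of `D = C_V(O²(P))` in `V_P`

* `exists_compl` : `V_P = V × D`, `V` normal in `P`, `P` centralises `D` (from helper123's `Spl.lean`);
* `compl` : `V` is the sum of `k` even-subset modules, `compl … : SymK S P V ⊥ k m`;
* `exists_sitD` : existence of the situation `SitD`.
-/

set_option autoImplicit false
set_option linter.unusedSectionVars false

namespace Cfsg.Agent.Omega.IId.SymWrD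

open Subgroup Pointwise Cfsg Cfsg.Agent.ZN Cfsg.Agent.Omega.FFThm Cfsg.Agent.Omega.S5.Def Cfsg.Agent.Omega.S5.Of
open Cfsg.Agent.Omega.MinPar
open Cfsg.Agent.ZN.ChoiceSit (Syl syl_not_dvd)
open Cfsg.Agent.Omega.FrameFF (cv)
open Cfsg.Agent.MinSimple.VModule
open Cfsg.Agent.Omega.Half.SymA (Pt E Mv pm Amb0)
open Cfsg.Agent.Omega.F4.Split (exists_inv sc sc_add smul_sc hat_single exists_sep cact dact trans_of_surj
  mem_sup_comm)
open Cfsg.Agent.Omega.IId.SwCv.Spl

universe u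

variable {G : Type u} [Group G] {k m : ℕ}

section compl

variable {T H V D A : Subgroup G}

/-- **The complement.** -/
theorem exists_compl [Finite G] (h : SymK T H (zl T H) (cv T H) k m) (hk : 0 < k) (hm : 1 ≤ m) (hT : Syl T H)
    (hc : H ⊓ centralizer (o2 H : Set G) ≤ o2 H) :
    (∀ g ∈ H, ∀ d ∈ cv T H, g * d = d * g) ∧ ∃ A : Subgroup G, A ≤ zl T H ∧ A ⊔ cv T H = zl T H ∧
      A ⊓ cv T H = ⊥ ∧ H ≤ normalizer (A : Set G) := by
  classical
  have hTH := hT.1
  have hT2 := syl_not_dvd hT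
  have hH := le_normalizer_zl T H
  have hVc := zl_comm hTH hT.2.1 hT2 hc
  have hV2 := zl_sq hTH hT.2.1 hT2 hc
  have hDV : cv T H ≤ zl T H := inf_le_left
  have hO : H ≤ normalizer (oddGen H : Set G) := le_normalizer_oddGen H
  have hDn : ∀ g ∈ H, ∀ d ∈ cv T H, g * d * g⁻¹ ∈ cv T H := by
    intro g hg d hd
    refine ⟨(mem_normalizer_iff.1 (hH hg) _).1 hd.1, mem_centralizer_iff.2 fun o ho => ?_⟩
    have h1 : g⁻¹ * o * g ∈ oddGen H := by
      have := (mem_normalizer_iff.1 (hO (inv_mem hg)) o).1 ho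
      rwa [inv_inv] at this
    have h2 := mem_centralizer_iff.1 hd.2 _ h1
    calc o * (g * d * g⁻¹) = g * ((g⁻¹ * o * g) * d) * g⁻¹ := by group
      _ = g * (d * (g⁻¹ * o * g)) * g⁻¹ := by rw [h2]
      _ = g * d * g⁻¹ * o := by group
  have hDN : H ≤ normalizer (cv T H : Set G) := by
    intro g hg
    rw [mem_normalizer_iff]
    refine fun d => ⟨hDn g hg d, fun hd => ?_⟩
    have h1 := hDn g⁻¹ (inv_mem hg) _ hd
    have e : g⁻¹ * (g * d * g⁻¹) * g⁻¹⁻¹ = d := by group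
    rwa [e] at h1
  obtain ⟨z, hz, i₀, hez⟩ := exists_z h hk hm hTH hT2 hDN
  obtain ⟨E, he1, he2, he3, he4, he5⟩ := exists_E' h hm hH hTH hT2 hVc hV2 (zc_le_zl T H hz)
    (fun t ht => (mem_zc.1 hz).2.1 t ht) hez
  have h0 : E 0 = 1 := he4 0 fun _ _ _ => rfl
  have hself : ∀ y : Fin k × Fin (2 ^ m + 1) → ZMod 2, y + y = 0 := fun y =>
    funext fun w => CharTwo.add_self_eq_zero (y w)
  have hinv : ∀ x, (E x)⁻¹ = E x := fun x => by
    rw [inv_eq_iff_mul_eq_one, ← he2, hself, h0]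
  let A : Subgroup G :=
    { carrier := Set.range E
      one_mem' := ⟨0, h0⟩
      mul_mem' := by
        rintro _ _ ⟨x, rfl⟩ ⟨y, rfl⟩
        exact ⟨x + y, he2 x y⟩
      inv_mem' := by
        rintro _ ⟨x, rfl⟩
        exact ⟨x, (hinv x).symm⟩ }
  have hA : ∀ x, E x ∈ A := fun x => ⟨x, rfl⟩
  have hAn : ∀ g ∈ H, ∀ a ∈ A, g * a * g⁻¹ ∈ A := by
    rintro g hg _ ⟨y, rfl⟩
    rw [he5 ⟨g, hg⟩ y]
    exact hA _
  have hAN : H ≤ normalizer (A : Set G) := by
    intro g hg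
    rw [mem_normalizer_iff]
    refine fun a => ⟨hAn g hg a, fun ha => ?_⟩
    have h1 := hAn g⁻¹ (inv_mem hg) _ ha
    have e : g⁻¹ * (g * a * g⁻¹) * g⁻¹⁻¹ = a := by group
    rwa [e] at h1
  -- the intersection with `D`
  have hinf : A ⊓ cv T H = ⊥ := by
    rw [eq_bot_iff]
    rintro _ ⟨⟨y, rfl⟩, hx⟩
    rw [mem_bot]
    have h1 := (h.ker _ (he1 y)).2 hx
    refine he4 y fun i x x' => ?_
    have h2 : ∀ x, y (i, x) = ∑ x', y (i, x') := by
      intro x
      have h3 := he3 y i x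
      rw [h1] at h3
      exact CharTwo.add_eq_zero.1 h3.symm
    rw [h2 x, h2 x']
  have hAV : A ≤ zl T H := by
    rintro _ ⟨x, rfl⟩
    exact he1 x
  have hsup : A ⊔ cv T H = zl T H := by
    refine le_antisymm (sup_le hAV hDV) fun v hv => ?_
    have h1 : (E fun w => h.e v w.1 w.2)⁻¹ * v ∈ cv T H := by
      rw [hinv, ← h.ker _ (mul_mem (he1 _) hv), h.mul _ (he1 _) v hv]
      funext i x
      rw [Pi.add_apply, Pi.add_apply, he3]
      simp only
      rw [h.even v hv i, add_zero]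
      exact CharTwo.add_self_eq_zero _
    have e : v = (E fun w => h.e v w.1 w.2) * ((E fun w => h.e v w.1 w.2)⁻¹ * v) := by group
    rw [e]
    exact mul_mem_sup (hA _) h1
  have hcomm : ∀ x ∈ A, ∀ y ∈ cv T H, x * y = y * x := fun x hx y hy => hVc x (hAV hx) y (hDV hy)
  -- `D` is centralised by `H`
  have hC : zc T ≤ A ⊔ (cv T H ⊓ centralizer (H : Set G)) := by
    intro v hv
    have hvV := zc_le_zl T H hv
    rw [← hsup] at hvV
    obtain ⟨a, ha, d, hd, rfl⟩ := mem_sup_comm hcomm hvV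
    refine mul_mem_sup ha ⟨hd, ?_⟩
    have h1 : T ≤ centralizer ({d} : Set G) := by
      intro t ht
      rw [mem_centralizer_singleton_iff]
      have h2 : t * (a * d) = a * d * t := (mem_zc.1 hv).2.1 t ht
      have h3 : t * a * t⁻¹ ∈ A := hAn t (hTH ht) a ha
      have h4 : t * d * t⁻¹ ∈ cv T H := hDn t (hTH ht) d hd
      have h5 : a⁻¹ * (t * a * t⁻¹) = d * (t * d * t⁻¹)⁻¹ := by
        have h6 : a * d = t * a * t⁻¹ * (t * d * t⁻¹) := by
          calc a * d = t * (a * d) * t⁻¹ := by rw [h2, mul_inv_cancel_right]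
            _ = _ := by group
        rw [inv_mul_eq_iff_eq_mul, ← mul_assoc, eq_mul_inv_iff_mul_eq]
        exact h6.symm
      have h6 : d * (t * d * t⁻¹)⁻¹ ∈ A ⊓ cv T H := by
        refine ⟨?_, (cv T H).mul_mem hd ((cv T H).inv_mem h4)⟩
        rw [← h5]
        exact A.mul_mem (A.inv_mem ha) h3
      rw [hinf, mem_bot, mul_inv_eq_one] at h6
      calc t * d = t * d * t⁻¹ * t := by group
        _ = d * t := by rw [← h6]
    have h2 : oddGen H ≤ centralizer ({d} : Set G) := by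
      intro o ho
      rw [mem_centralizer_singleton_iff]
      exact mem_centralizer_iff.1 hd.2 o ho
    have h3 : H ≤ centralizer ({d} : Set G) := by
      rw [← Cfsg.Agent.Omega.NO3b.EZero.oddGen_sup_syl hT]
      exact sup_le h2 h1
    exact mem_centralizer_iff.2 fun g hg => mem_centralizer_singleton_iff.1 (h3 hg)
  have hC2 : zl T H ≤ A ⊔ (cv T H ⊓ centralizer (H : Set G)) := by
    refine zl_le hC ?_
    intro g hg
    rw [mem_normalizer_iff_map_conj_eq, Subgroup.map_sup]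
    congr 1
    · exact mem_normalizer_iff_map_conj_eq.1 (hAN hg)
    · refine mem_normalizer_iff_map_conj_eq.1 ?_
      refine (centralizer_le_normalizer _) (mem_centralizer_iff.2 fun d hd => ?_)
      exact (mem_centralizer_iff.1 hd.2 g hg).symm
  refine ⟨?_, A, hAV, hsup, hinf, hAN⟩
  intro g hg d hd
  obtain ⟨a, ha, d', hd', rfl⟩ := mem_sup_comm
    (fun x hx y (hy : y ∈ cv T H ⊓ centralizer (H : Set G)) => hcomm x hx y (mem_inf.1 hy).1) (hC2 (hDV hd))
  have h1 : a ∈ A ⊓ cv T H := by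
    refine ⟨ha, ?_⟩
    have := mul_mem hd (inv_mem hd'.1)
    rwa [mul_inv_cancel_right] at this
  rw [hinf, mem_bot] at h1
  rw [h1, one_mul]
  exact mem_centralizer_iff.1 hd'.2 g hg

theorem off_of (hVc : ∀ x ∈ V, ∀ y ∈ V, x * y = y * x) (hsup : A ⊔ D = V) (hinf : A ⊓ D = ⊥)
    {B : Subgroup G} (hD : ∀ g ∈ B, ∀ d ∈ D, g * d = d * g) (h : Off A B) : Off V B := by
  have hAV : A ≤ V := hsup ▸ le_sup_left
  have hDV : D ≤ V := hsup ▸ le_sup_right
  have hcomm : ∀ x ∈ A, ∀ y ∈ D, x * y = y * x := fun x hx y hy => hVc x (hAV hx) y (hDV hy)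
  have hc1 : B ⊓ centralizer (V : Set G) = B ⊓ centralizer (A : Set G) := by
    refine le_antisymm (inf_le_inf_left _ (centralizer_le hAV)) fun b hb => ⟨hb.1, mem_centralizer_iff.2 ?_⟩
    intro v hv
    rw [← hsup] at hv
    obtain ⟨a, ha, d, hd, rfl⟩ := mem_sup_comm hcomm hv
    have h1 := mem_centralizer_iff.1 hb.2 a ha
    have h2 := hD b hb.1 d hd
    rw [mul_assoc, ← h2, ← mul_assoc, h1, mul_assoc]
  have hc2 : V ⊓ centralizer (B : Set G) = (A ⊓ centralizer (B : Set G)) ⊔ D := by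
    apply le_antisymm
    · rintro v ⟨hv, hvB⟩
      rw [SetLike.mem_coe, ← hsup] at hv
      obtain ⟨a, ha, d, hd, rfl⟩ := mem_sup_comm hcomm hv
      refine mul_mem_sup ⟨ha, mem_centralizer_iff.2 fun b hb => ?_⟩ hd
      have h1 := mem_centralizer_iff.1 hvB b hb
      have h2 := hD b hb d hd
      have h3 : b * a * d = a * b * d := by
        rw [mul_assoc, h1, mul_assoc a b d, h2, ← mul_assoc]
      exact mul_right_cancel h3
    · refine sup_le (le_inf (inf_le_left.trans hAV) inf_le_right) (le_inf hDV fun d hd => ?_)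
      exact mem_centralizer_iff.2 fun b hb => hD b hb d hd
  have hcard : ∀ A' : Subgroup G, A' ≤ A → Nat.card ↥(A' ⊔ D) = Nat.card A' * Nat.card D := by
    intro A' hA'
    have h1 := Cfsg.Agent.PLocal.ElemAbSup.card_sup_mul_card_inf (A := A') (B := D) fun d hd =>
      mem_centralizer_iff.2 fun a ha => hcomm a (hA' ha) d hd
    have h2 : A' ⊓ D = ⊥ := eq_bot_iff.2 ((inf_le_inf_right D hA').trans hinf.le)
    rw [h2, card_bot, mul_one] at h1
    exact h1
  refine ⟨h.elem, fun h1 => h.ne (h1.trans (centralizer_le hAV)), ?_⟩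
  rw [hc1, hc2, hcard _ inf_le_left, ← hsup, hcard A le_rfl]
  calc Nat.card A * Nat.card D * Nat.card ↥(B ⊓ centralizer (A : Set G))
      = Nat.card A * Nat.card ↥(B ⊓ centralizer (A : Set G)) * Nat.card D := by ring
    _ ≤ Nat.card B * Nat.card ↥(A ⊓ centralizer (B : Set G)) * Nat.card D := Nat.mul_le_mul_right _ h.le
    _ = _ := by ring

theorem acts_iff (h : SymK T H V D k m) (hVc : ∀ x ∈ V, ∀ y ∈ V, x * y = y * x) (hsup : A ⊔ D = V)
    (hHA : H ≤ normalizer (A : Set G)) (hHD : ∀ g ∈ H, ∀ d ∈ D, g * d = d * g) {g : G} (hg : g ∈ H)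
    {σ : Equiv.Perm (Fin k)} {τ : Fin k → Equiv.Perm (Fin (2 ^ m + 1))} :
    ActsSym h.e A g σ τ ↔ ActsSym h.e V g σ τ := by
  have hAV : A ≤ V := hsup ▸ le_sup_left
  have hDV : D ≤ V := hsup ▸ le_sup_right
  refine ⟨fun h1 v hv i x => ?_, fun h1 v hv i x => h1 v (hAV hv) i x⟩
  rw [← hsup] at hv
  obtain ⟨a, ha, d, hd, rfl⟩ := mem_sup_comm (fun x hx y hy => hVc x (hAV hx) y (hDV hy)) hv
  have hga : g * a * g⁻¹ ∈ A := (mem_normalizer_iff.1 (hHA hg) a).1 ha
  have e1 : g * (a * d) * g⁻¹ = g * a * g⁻¹ * d := by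
    have h2 : g * d * g⁻¹ = d := by rw [hHD g hg d hd, mul_inv_cancel_right]
    calc g * (a * d) * g⁻¹ = g * a * g⁻¹ * (g * d * g⁻¹) := by group
      _ = _ := by rw [h2]
  have hd0 : h.e d = 0 := (h.ker d (hDV hd)).2 hd
  rw [e1, h.mul _ (hAV hga) _ (hDV hd), h.mul _ (hAV ha) _ (hDV hd), hd0, add_zero, add_zero]
  exact h1 a ha i x

/-- the complement as a sum of even-subset modules -/
def compl (h : SymK T H V D k m) (hTH : T ≤ H) (hVc : ∀ x ∈ V, ∀ y ∈ V, x * y = y * x) (hsup : A ⊔ D = V)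
    (hinf : A ⊓ D = ⊥) (hHA : H ≤ normalizer (A : Set G)) (hHD : ∀ g ∈ H, ∀ d ∈ D, g * d = d * g) :
    SymK T H A ⊥ k m where
  e := h.e
  mul v hv w hw := h.mul v (hsup ▸ mem_sup_left hv) w (hsup ▸ mem_sup_left hw)
  even v hv := h.even v (hsup ▸ mem_sup_left hv)
  surj y hy := by
    have hAV : A ≤ V := hsup ▸ le_sup_left
    have hDV : D ≤ V := hsup ▸ le_sup_right
    obtain ⟨v, hv, rfl⟩ := h.surj y hy
    rw [← hsup] at hv
    obtain ⟨a, ha, d, hd, rfl⟩ := mem_sup_comm (fun x hx y hy => hVc x (hAV hx) y (hDV hy)) hv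
    exact ⟨a, ha, by rw [h.mul _ (hAV ha) _ (hDV hd), (h.ker d (hDV hd)).2 hd, add_zero]⟩
  ker v hv := by
    rw [h.ker v (hsup ▸ mem_sup_left hv), mem_bot]
    refine ⟨fun h1 => mem_bot.1 (hinf.le ⟨hv, h1⟩), fun h1 => ?_⟩
    rw [h1]
    exact one_mem D
  lift τ := by
    obtain ⟨g, hg, h1, -⟩ := h.lift τ
    refine ⟨g, hg, (acts_iff h hVc hsup hHA hHD hg).2 h1, fun d hd => ?_⟩
    rw [mem_bot.1 hd, mul_one, one_mul]
  perm g hg := by
    obtain ⟨σ, τ, h1⟩ := h.perm g hg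
    exact ⟨σ, τ, (acts_iff h hVc hsup hHA hHD hg).2 h1⟩
  trans i j := by
    obtain ⟨t, ht, σ, τ, h1, h2⟩ := h.trans i j
    exact ⟨t, ht, σ, τ, (acts_iff h hVc hsup hHA hHD (hTH ht)).2 h1, h2⟩
  fix0 t ht σ τ h1 := h.fix0 t ht σ τ ((acts_iff h hVc hsup hHA hHD (hTH ht)).1 h1)
  gen K hK h1 := h.gen K hK fun x hx τ hτ _ => h1 x hx τ ((acts_iff h hVc hsup hHA hHD hx).2 hτ) fun d hd => by
    rw [mem_bot.1 hd, mul_one, one_mul]
  off B hB h1 := by
    obtain ⟨-, h2⟩ := h.off B hB (off_of hVc hsup hinf (fun g hg => hHD g (hTH (hB hg))) h1)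
    refine ⟨fun a _ d hd => by rw [mem_bot.1 hd, mul_one, one_mul], fun a ha => ?_⟩
    obtain ⟨τ, h3, h4⟩ := h2 a ha
    refine ⟨τ, (acts_iff h hVc hsup hHA hHD (hTH (hB ha))).2 h3, fun i x hx => ?_⟩
    obtain ⟨h5, b, hb, h6⟩ := h4 i x hx
    exact ⟨h5, b, hb, (acts_iff h hVc hsup hHA hHD (hTH (hB hb))).2 h6⟩

end compl

/-! ### The situation -/

end Cfsg.Agent.Omega.IId.SymWrD
end
end
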